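import Groth.Agent.SSMod.K851.GD

/-!
# Gluing the local factorizations
-/

set_option autoImplicit false
set_option linter.unusedSectionVars false
set_option linter.dupNamespace false
universe u

open CategoryTheory CategoryTheory.Limits AlgebraicGeometry TopologicalSpace

namespace K851.GE

open K851.NB K851.NS K851.GA K851.GB K851.BG K851.BE K851.PQ K851.GC K851.GD

section

variable {S C D Cst Dst C' D' W : Scheme.{u}} [IsIntegral S]

theorem glue' [QuasiSeparatedSpace S] (φ : C ⟶ S) (fC : Cst ⟶ C) (h : SSMod.IsEtaIso φ fC) [IsSeparated fC]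
    (gC : C' ⟶ C) (hfl : Flat (gC ≫ φ)) (𝒰 : C'.OpenCover) (hW : ∀ p : 𝒰.I₀, 𝒰.X p ⟶ Cst)
    (hhW : ∀ p, hW p ≫ fC = 𝒰.f p ≫ gC) :
    ∃ h : C' ⟶ Cst, h ≫ fC = gC := by
  have hc : ∀ x y, pullback.fst (𝒰.f x) (𝒰.f y) ≫ hW x = pullback.snd _ _ ≫ hW y := by
    intro p q
    have e1 : (pullback.fst (𝒰.f p) (𝒰.f q) ≫ hW p) ≫ fC = (pullback.fst (𝒰.f p) (𝒰.f q) ≫ 𝒰.f p) ≫ gC := by
      rw [Category.assoc, hhW, Category.assoc]
    have e2 : (pullback.snd (𝒰.f p) (𝒰.f q) ≫ hW q) ≫ fC = (pullback.snd (𝒰.f p) (𝒰.f q) ≫ 𝒰.f q) ≫ gC := by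
      rw [Category.assoc, hhW, Category.assoc]
    refine flat_unique h _ _ ?_ ?_
    · rw [e1, e2, pullback.condition]
    · rw [e1, Category.assoc]
      infer_instance
  refine ⟨𝒰.glueMorphisms hW hc, Scheme.Cover.hom_ext 𝒰 _ _ fun p => ?_⟩
  rw [← Category.assoc, Scheme.Cover.ι_glueMorphisms, hhW]

theorem glue [QuasiSeparatedSpace S] (φ : C ⟶ S) (fC : Cst ⟶ C) (h : SSMod.IsEtaIso φ fC) [IsSeparated fC]
    (gC : C' ⟶ C) (hfl : Flat (gC ≫ φ))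
    (H : ∀ p : C, ∃ (W : Scheme.{u}) (w : W ⟶ C) (_ : IsOpenImmersion w), p ∈ Set.range w ∧
      ∃ h : pullback gC w ⟶ Cst, h ≫ fC = pullback.fst gC w ≫ gC) :
    ∃ h : C' ⟶ Cst, h ≫ fC = gC := by
  choose W w hw hp hW hhW using H
  exact glue' φ fC h gC hfl (Scheme.Cover.mkOfCovers C (fun p => pullback gC (w p))
    (fun p => pullback.fst gC (w p)) (fun x => by
      obtain ⟨y, hy⟩ := hp (gC x)
      obtain ⟨u, hu, -⟩ := Scheme.Pullback.exists_preimage_pullback x y (f := gC) (g := w (gC x)) hy.symm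
      exact ⟨gC x, u, hu⟩)) hW hhW

theorem exists_hom [QuasiSeparatedSpace S] (hS : Pi1.IsNormalScheme S) (φ : C ⟶ S) (i : D ⟶ C)
    (hC : SSMod.IsMPCurve φ i)
    (ist : Dst ⟶ Cst) (fC : Cst ⟶ C) (fD : Dst ⟶ D) (hst : SSMod.IsStableModification φ i ist fC fD)
    (hη : SSMod.IsEtaIso φ fC)
    (i' : D' ⟶ C') (gC : C' ⟶ C) (gD : D' ⟶ D) (hss : SSMod.IsSemistableModification φ i i' gC gD)
    (hη' : SSMod.IsEtaIso φ gC) (hηD' : SSMod.IsEtaIso (i ≫ φ) gD) :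
    ∃ h : C' ⟶ Cst, h ≫ fC = gC := by
  have pf : IsProper fC := hst.1.1.2.2.1.1
  have fl : Flat (gC ≫ φ) := hss.2.1.1
  refine glue φ fC hη gC fl fun p => ?_
  obtain ⟨V, hV, hpV, -⟩ := exists_isAffineOpen_mem_and_subset (U := ⊤) (x := φ p) trivial
  obtain ⟨W, hW, hpW, hWV⟩ := exists_isAffineOpen_mem_and_subset (U := φ ⁻¹ᵁ V) (x := p) hpV
  have : Nonempty V := ⟨⟨φ p, hpV⟩⟩
  have : IsAffine W := hW
  have ic : IsIntegrallyClosed Γ(S, V) :=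
    Groth.Agent.Ega3B.NormalBirational.isIntegrallyClosed_section (fun y => (hS y).2) V hV
  have hr : Set.range (W.ι ≫ φ) ⊆ Set.range hV.fromSpec := by
    rw [hV.range_fromSpec]
    rintro _ ⟨x, rfl⟩
    rw [Scheme.Hom.comp_apply]
    exact hWV x.2
  let c : W.toScheme ⟶ Spec (CommRingCat.of Γ(S, V)) := IsOpenImmersion.lift hV.fromSpec (W.ι ≫ φ) hr
  have hc : c ≫ hV.fromSpec = W.ι ≫ φ := IsOpenImmersion.lift_fac _ _ _
  refine ⟨W, W.ι, inferInstance, ?_, ?_⟩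
  · rw [Scheme.Opens.range_ι]
    exact hpW
  · exact local_hom (A := Γ(S, V)) hV.fromSpec φ W.ι c hc i hC ist fC fD hst hη i' gC gD hss hη' hηD'

end

end K851.GE
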