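import Mathlib.AlgebraicGeometry.Morphisms.SchemeTheoreticallyDominant
import Mathlib.AlgebraicGeometry.ZariskisMainTheorem
import Mathlib.AlgebraicGeometry.Morphisms.Separated
import Mathlib.AlgebraicGeometry.Morphisms.Proper

/-!
# Extending morphisms along schematically dense opens

Uniqueness of extensions, and existence near points where the closure of the graph is quasi-finite,
when functions on the source are integrally closed in functions on the dense open.
-/

set_option autoImplicit false
set_option linter.unusedSectionVars false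
universe u

open CategoryTheory CategoryTheory.Limits AlgebraicGeometry TopologicalSpace

namespace K851.Ext

variable {U X Y C Γ : Scheme.{u}}

/-- Two morphisms over `C` into a separated `C`-scheme which agree after precomposition with a
scheme-theoretically dominant quasi-compact morphism are equal. -/
theorem hom_ext (i : U ⟶ X) [IsSchemeTheoreticallyDominant i] (f : Y ⟶ C)
    [IsSeparated f] (g₁ g₂ : X ⟶ Y) (h : g₁ ≫ f = g₂ ≫ f) (hi : i ≫ g₁ = i ≫ g₂) : g₁ = g₂ := by
  let X' : Over C := Over.mk (g₁ ≫ f)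
  let Y' : Over C := Over.mk f
  let U' : Over C := Over.mk (i ≫ g₁ ≫ f)
  let f' : X' ⟶ Y' := Over.homMk g₁
  let g' : X' ⟶ Y' := Over.homMk g₂
  let ι' : U' ⟶ X' := Over.homMk i
  have : IsSeparated Y'.hom := ‹_›
  have hc : (equalizer.lift (f := f') (g := g') ι' (by ext1; exact hi)).left ≫
      (equalizer.ι f' g').left = i := by
    rw [← Over.comp_left, equalizer.lift_ι]
    rfl
  have hk : ((equalizer.ι f' g').left).ker = ⊥ := by
    rw [eq_bot_iff]
    have h1 : i.ker = ⊥ := IsSchemeTheoreticallyDominant.ker_eq_bot i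
    have h2 := Scheme.Hom.le_ker_comp
      (equalizer.lift (f := f') (g := g') ι' (by ext1; exact hi)).left (equalizer.ι f' g').left
    rw [hc, h1] at h2
    exact h2
  have : IsIso (equalizer.ι f' g').left := IsClosedImmersion.isIso_iff_ker_eq_bot.mpr hk
  rw [← cancel_epi (equalizer.ι f' g').left]
  exact congr($(equalizer.condition f' g').left)

/-- The morphism to the scheme-theoretic image is scheme-theoretically dominant. -/
theorem dominant_toImage (f : X ⟶ Y) [QuasiCompact f] : IsSchemeTheoreticallyDominant f.toImage := by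
  rw [isSchemeTheoreticallyDominant_iff]
  have h𝒰 : IsOpenCover (fun U : Y.affineOpens => f.imageι ⁻¹ᵁ (U : Y.Opens)) :=
    (show IsOpenCover (fun U : Y.affineOpens => (U : Y.Opens)) from iSup_affineOpens_eq_top Y).comap
      f.imageι.base.hom
  refine Scheme.IdealSheafData.ext_of_iSup_eq_top
    (fun U : Y.affineOpens => ⟨f.imageι ⁻¹ᵁ (U : Y.Opens), U.2.preimage f.imageι⟩) h𝒰 ?_
  intro V
  simp only [Scheme.Hom.ker_apply, Scheme.IdealSheafData.ideal_bot, Pi.bot_apply]
  exact (RingHom.injective_iff_ker_eq_bot _).1 (f.toImage_app_injective V)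

theorem dominant_restrict (i : U ⟶ X) [IsSchemeTheoreticallyDominant i] [QuasiCompact i] (W : X.Opens) :
    IsSchemeTheoreticallyDominant (i ∣_ W) :=
  IsSchemeTheoreticallyDominant.of_isPullback (isPullback_morphismRestrict i W).flip

/-- If `g ≫ h` is dominant then so is `h`. -/
theorem dominant_of_comp (g : U ⟶ X) (h : X ⟶ Y) [IsSchemeTheoreticallyDominant (g ≫ h)] :
    IsSchemeTheoreticallyDominant h := by
  rw [isSchemeTheoreticallyDominant_iff, eq_bot_iff]
  have h1 : (g ≫ h).ker = ⊥ := IsSchemeTheoreticallyDominant.ker_eq_bot (g ≫ h)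
  rw [← h1]
  exact Scheme.Hom.le_ker_comp g h

/-- Functions on `X` are integrally closed in functions on `U` (along `i : U ⟶ X`), over affine opens. -/
def IC (i : U ⟶ X) : Prop :=
  ∀ W : X.Opens, IsAffineOpen W → ∀ s : Γ(U, i ⁻¹ᵁ W), (i.app W).hom.IsIntegralElem s →
    s ∈ Set.range (i.app W)

/-- An integral morphism with a scheme-theoretically dominant section over `U ⟶ X` is an isomorphism as
soon as functions on `X` are integrally closed in those on `U`. -/
theorem isIso_of_IC (i : U ⟶ X) [IsSchemeTheoreticallyDominant i] (hi : IC i) (g : Γ ⟶ X) [IsIntegralHom g]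
    (i' : U ⟶ Γ) [IsSchemeTheoreticallyDominant i'] [QuasiCompact i'] (h : i' ≫ g = i) : IsIso g := by
  subst h
  have h1 : IsClosedImmersion g := by
    rw [isClosedImmersion_iff_isAffineHom]
    refine ⟨inferInstance, fun W hW s => ?_⟩
    have hs : ((i' ≫ g).app W).hom.IsIntegralElem (i'.app (g ⁻¹ᵁ W) s) := by
      have h2 : (g.app W).hom.IsIntegralElem s := g.isIntegral_app W hW s
      have h3 := h2.map (i'.app (g ⁻¹ᵁ W)).hom
      rw [Scheme.Hom.comp_app]
      exact h3
    obtain ⟨t, ht⟩ := hi W hW _ hs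
    refine ⟨t, i'.app_injective _ ?_⟩
    rw [Scheme.Hom.comp_app] at ht
    exact ht
  rw [IsClosedImmersion.isIso_iff_ker_eq_bot]
  exact @IsSchemeTheoreticallyDominant.ker_eq_bot _ _ g (dominant_of_comp i' g)

/-- The integral closedness condition restricts to opens. -/
theorem IC.restrict {i : U ⟶ X} (hi : IC i) (V : X.Opens) : IC (i ∣_ V) := by
  intro W hW s hs
  have hW' : IsAffineOpen (V.ι ''ᵁ W) := hW.image_of_isOpenImmersion V.ι
  rw [morphismRestrict_app] at hs ⊢
  set e := U.presheaf.map (eqToHom (image_morphismRestrict_preimage i V W)).op with he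
  have hes : ∃ s' : Γ(U, i ⁻¹ᵁ (V.ι ''ᵁ W)), e s' = s := by
    have : Function.Surjective e := (ConcreteCategory.bijective_of_isIso e).2
    exact this s
  obtain ⟨s', rfl⟩ := hes
  have h1 : (i.app (V.ι ''ᵁ W)).hom.IsIntegralElem s' := by
    have : Function.Injective e.hom := (ConcreteCategory.bijective_of_isIso e).1
    exact RingHom.IsIntegralElem.of_map this hs
  obtain ⟨t, ht⟩ := hi _ hW' _ h1
  exact ⟨t, congrArg e ht⟩

/-- The points of the target all of whose preimages are quasi-finite points. -/
def good (g : Γ ⟶ X) [IsProper g] : X.Opens :=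
  ⟨(g '' (g.quasiFiniteLocus : Set Γ)ᶜ)ᶜ,
    (g.isClosedMap _ (g.quasiFiniteLocus.2.isClosed_compl)).isOpen_compl⟩

theorem mem_good (g : Γ ⟶ X) [IsProper g] (x : X) :
    x ∈ good g ↔ ∀ z : Γ, g z = x → g.QuasiFiniteAt z := by
  change x ∈ (g '' (g.quasiFiniteLocus : Set Γ)ᶜ)ᶜ ↔ _
  rw [Set.mem_compl_iff]
  constructor
  · intro h z hz
    by_contra hq
    exact h ⟨z, hq, hz⟩
  · rintro h ⟨z, hz, hzx⟩
    exact hz (h z hzx)

instance (g : Γ ⟶ X) [IsProper g] : LocallyQuasiFinite (g ∣_ good g) := by
  have h1 : LocallyQuasiFinite ((g ⁻¹ᵁ good g).ι ≫ g) := by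
    rw [← Scheme.Hom.quasiFiniteLocus_eq_top_iff, Scheme.Hom.quasiFiniteLocus_comp]
    rw [eq_top_iff]
    intro z _
    exact (mem_good g _).1 z.2 _ rfl
  rw [← morphismRestrict_ι] at h1
  exact LocallyQuasiFinite.of_comp (g ∣_ good g) (good g).ι

/-- Over the good locus, the closure of the graph is the graph of a morphism. -/
theorem isIso_restrict_good (i' : U ⟶ Γ) [IsSchemeTheoreticallyDominant i'] [QuasiCompact i'] (g : Γ ⟶ X)
    [IsProper g] [IsSchemeTheoreticallyDominant (i' ≫ g)] (hi : IC (i' ≫ g)) : IsIso (g ∣_ good g) := by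
  have hqc : QuasiCompact (i' ≫ g) := inferInstance
  have h1 : IsFinite (g ∣_ good g) := IsFinite.of_isProper_of_locallyQuasiFinite _
  have h2 := hi.restrict (good g)
  have h3 : IsSchemeTheoreticallyDominant ((i' ≫ g) ∣_ good g) := dominant_restrict _ _
  have h4 : IsSchemeTheoreticallyDominant (i' ∣_ (g ⁻¹ᵁ good g)) := dominant_restrict _ _
  have h5 : QuasiCompact (i' ∣_ (g ⁻¹ᵁ good g)) := inferInstance
  have key := morphismRestrict_comp i' g (good g)
  rw [key] at h2 h3
  exact @isIso_of_IC _ _ _ _ h3 h2 (g ∣_ good g) inferInstance (i' ∣_ (g ⁻¹ᵁ good g)) h4 h5 rfl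

section Graph

variable (i : U ⟶ X) [IsOpenImmersion i] [QuasiCompact i] (j : X ⟶ C) (f : Y ⟶ C) [IsProper f]
  (h : U ⟶ Y) (w : i ≫ j = h ≫ f)

/-- The graph of `h` as a morphism to the fibre product. -/
noncomputable def gr : U ⟶ pullback j f := pullback.lift i h w

instance : QuasiCompact (gr i j f h w) := by
  have h1 : QuasiCompact (gr i j f h w ≫ pullback.fst j f) := by
    rw [gr, pullback.lift_fst]; infer_instance
  exact QuasiCompact.of_comp (gr i j f h w) (pullback.fst j f)

/-- The closure of the graph. -/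
noncomputable abbrev Gm : Scheme.{u} := (gr i j f h w).image

/-- The section of the closure of the graph over `U`. -/
noncomputable def sec : U ⟶ Gm i j f h w := (gr i j f h w).toImage

/-- The first projection from the closure of the graph. -/
noncomputable def pX : Gm i j f h w ⟶ X := (gr i j f h w).imageι ≫ pullback.fst j f

/-- The second projection from the closure of the graph. -/
noncomputable def pY : Gm i j f h w ⟶ Y := (gr i j f h w).imageι ≫ pullback.snd j f

instance : IsSchemeTheoreticallyDominant (sec i j f h w) := dominant_toImage _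

instance : QuasiCompact (sec i j f h w) := inferInstanceAs (QuasiCompact (gr i j f h w).toImage)

instance : IsProper (pX i j f h w) :=
  inferInstanceAs (IsProper ((gr i j f h w).imageι ≫ pullback.fst j f))

@[reassoc]
theorem sec_pX : sec i j f h w ≫ pX i j f h w = i := by
  rw [sec, pX, Scheme.Hom.toImage_imageι_assoc, gr, pullback.lift_fst]

@[reassoc]
theorem sec_pY : sec i j f h w ≫ pY i j f h w = h := by
  rw [sec, pY, Scheme.Hom.toImage_imageι_assoc, gr, pullback.lift_snd]

@[reassoc]
theorem pX_pY : pX i j f h w ≫ j = pY i j f h w ≫ f := by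
  rw [pX, pY, Category.assoc, Category.assoc, pullback.condition]

/-- A morphism to the closure of the graph is determined by its two projections. -/
theorem Gm_hom_ext {T : Scheme.{u}} (a b : T ⟶ Gm i j f h w) (h1 : a ≫ pX i j f h w = b ≫ pX i j f h w)
    (h2 : a ≫ pY i j f h w = b ≫ pY i j f h w) : a = b := by
  have : Mono (gr i j f h w).imageι := inferInstance
  rw [← cancel_mono (gr i j f h w).imageι]
  apply pullback.hom_ext
  · simpa [pX] using h1
  · simpa [pY] using h2

omit [IsProper f] in
theorem isIso_range (V : X.Opens) (hV : V = i.opensRange) : IsIso (i ∣_ V) := by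
  have h2 : Surjective (i ∣_ V) := by
    refine ⟨fun x => ?_⟩
    have hx : V.ι x ∈ V := by
      have : V.ι x ∈ Set.range V.ι := ⟨x, rfl⟩
      rwa [Scheme.Opens.range_ι] at this
    obtain ⟨u, hu⟩ : V.ι x ∈ Set.range i := hV.le hx
    have hu' : u ∈ i ⁻¹ᵁ V := by change i u ∈ V; rw [hu]; exact hx
    obtain ⟨u', hu'⟩ : u ∈ Set.range (i ⁻¹ᵁ V).ι := by rw [Scheme.Opens.range_ι]; exact hu'
    refine ⟨u', V.ι.isOpenEmbedding.injective ?_⟩
    rw [← Scheme.Hom.comp_apply, morphismRestrict_ι, Scheme.Hom.comp_apply, hu', hu]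
  exact (isIso_iff_isOpenImmersion_and_surjective _).2 ⟨inferInstance, h2⟩

/-- Over `U` the closure of the graph is the graph. -/
theorem isIso_over : IsIso (pX i j f h w ∣_ i.opensRange) := by
  have h1 : IsIso ((sec i j f h w ≫ pX i j f h w) ∣_ i.opensRange) := by
    rw [sec_pX]
    exact isIso_range i _ rfl
  let a := sec i j f h w ∣_ (pX i j f h w ⁻¹ᵁ i.opensRange)
  let b := pX i j f h w ∣_ i.opensRange
  have hab : IsIso (a ≫ b) := by
    rw [morphismRestrict_comp] at h1
    exact h1
  have h2 : IsClosedImmersion a := by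
    have h3 : IsClosedImmersion (a ≫ b) := inferInstance
    exact IsClosedImmersion.of_comp a b
  have h4 : IsSchemeTheoreticallyDominant a := dominant_restrict _ _
  have h5 : IsIso a :=
    IsClosedImmersion.isIso_iff_ker_eq_bot.mpr (IsSchemeTheoreticallyDominant.ker_eq_bot _)
  exact IsIso.of_isIso_comp_left a b

/-- The set of points where the closure of the graph is quasi-finite contains `U`. -/
theorem opensRange_le_good : i.opensRange ≤ good (pX i j f h w) := by
  intro x hx
  rw [mem_good]
  intro z hz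
  have h1 := isIso_over i j f h w
  have hz' : z ∈ pX i j f h w ⁻¹ᵁ i.opensRange := by
    change pX i j f h w z ∈ i.opensRange
    rw [hz]; exact hx
  obtain ⟨z', hz''⟩ : z ∈ Set.range (pX i j f h w ⁻¹ᵁ i.opensRange).ι := by
    rw [Scheme.Opens.range_ι]; exact hz'
  subst hz''
  rw [← Scheme.Hom.quasiFiniteAt_comp_iff_of_isOpenImmersion, ← morphismRestrict_ι]
  exact Scheme.Hom.quasiFiniteAt _ _

/-- The morphism extending `h` over the good locus. -/
theorem exists_ext [IsSchemeTheoreticallyDominant i] (hi : IC i) :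
    ∃ g : (good (pX i j f h w) : Scheme.{u}) ⟶ Y, g ≫ f = (good (pX i j f h w)).ι ≫ j ∧
      ∀ (T : Scheme.{u}) (t : T ⟶ Gm i j f h w) (t' : T ⟶ (good (pX i j f h w) : Scheme.{u})),
        t ≫ pX i j f h w = t' ≫ (good (pX i j f h w)).ι → t ≫ pY i j f h w = t' ≫ g := by
  have h1 : IsSchemeTheoreticallyDominant (sec i j f h w ≫ pX i j f h w) := by
    rw [sec_pX]; infer_instance
  have h2 : IC (sec i j f h w ≫ pX i j f h w) := by rw [sec_pX]; exact hi
  have h3 := isIso_restrict_good (sec i j f h w) (pX i j f h w) h2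
  refine ⟨inv (pX i j f h w ∣_ good (pX i j f h w)) ≫ (pX i j f h w ⁻¹ᵁ good (pX i j f h w)).ι ≫
    pY i j f h w, ?_, ?_⟩
  · rw [Category.assoc, Category.assoc, IsIso.inv_comp_eq, ← pX_pY, ← Category.assoc, ← Category.assoc,
      morphismRestrict_ι]
  · intro T t t' htt'
    have h4 := isPullback_morphismRestrict (pX i j f h w) (good (pX i j f h w))
    have h5 : h4.lift t' t htt'.symm ≫ (pX i j f h w ∣_ good (pX i j f h w)) = t' := h4.lift_fst _ _ _
    have h6 : h4.lift t' t htt'.symm ≫ (pX i j f h w ⁻¹ᵁ good (pX i j f h w)).ι = t := h4.lift_snd _ _ _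
    have h7 : h4.lift t' t htt'.symm = t' ≫ inv (pX i j f h w ∣_ good (pX i j f h w)) := by
      rw [IsIso.eq_comp_inv, h5]
    rw [← h6, h7, Category.assoc, Category.assoc]

end Graph

end K851.Ext
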