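import Groth.Agent.CurvesB.NodeSub
import Groth.Agent.Sga7.H598.SNNode
import Groth.Agent.Sga7.H598.Conduct
import Groth.Agent.S0443
import Groth.Agent.S0549
import Groth.Agent.CurvesB.NodalQuot
import Groth.Agent.CycB.ImageInt
import Groth.Agent.SSMod.K851.Ext
import Mathlib.AlgebraicGeometry.AlgClosed.Basic

/-!
# Proper regular curves mapping birationally onto a component of a nodal curve
-/

set_option autoImplicit false
set_option linter.unusedSectionVars false
universe u

open CategoryTheory CategoryTheory.Limits AlgebraicGeometry TopologicalSpace IsLocalRing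

namespace K851.Curve

open Groth.Agent.Sga7.H598.SNDef

/-- A discrete valuation ring is maximal for domination: birational local extensions are trivial. -/
theorem surjective_of_dvr {A B K L : Type*} [CommRing A] [IsDomain A] [IsDiscreteValuationRing A]
    [CommRing B] [IsLocalRing B] [Field K] [Field L] [Algebra A K] [IsFractionRing A K]
    (f : A →+* B) [IsLocalHom f] (g : B →+* L) (hg : Function.Injective g) (φ : K →+* L)
    (hφ : Function.Surjective φ) (h : ∀ a, φ (algebraMap A K a) = g (f a)) : Function.Surjective f := by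
  intro b
  obtain ⟨z, hz⟩ := hφ (g b)
  rcases ValuationRing.isInteger_or_isInteger A z with ⟨a, ha⟩ | ⟨a, ha⟩
  · refine ⟨a, hg ?_⟩
    rw [← h, ha, hz]
  · by_cases hz0 : z = 0
    · refine ⟨0, hg ?_⟩
      rw [map_zero, map_zero, ← hz, hz0, map_zero]
    · have h1 : g (f a * b) = 1 := by
        rw [map_mul, ← h, ha, ← hz, ← map_mul, inv_mul_cancel₀ hz0, map_one]
      have h2 : f a * b = 1 := hg (by rw [h1, map_one])
      have h3 : IsUnit a := isUnit_of_map_unit f a (IsUnit.of_mul_eq_one _ h2)
      obtain ⟨w, rfl⟩ := h3
      refine ⟨↑w⁻¹, ?_⟩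
      have h4 : f ↑w⁻¹ * f ↑w = 1 := by rw [← map_mul, Units.inv_mul, map_one]
      calc f ↑w⁻¹ = f ↑w⁻¹ * (f ↑w * b) := by rw [h2, mul_one]
        _ = b := by rw [← mul_assoc, h4, one_mul]

/-- The seminormality argument: a finite birational extension `A ⊆ B` of a seminormal ring by a discrete
valuation ring with the same residue field is trivial. -/
theorem surjective_of_sn {A B : Type*} [CommRing A] [CommRing B] [IsDomain B] [IsDiscreteValuationRing B]
    [Algebra A B] (hinj : Function.Injective (algebraMap A B)) (hA : SN A) [Module.Finite A B]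
    (hfrac : ∀ b : B, ∃ a : A, a ≠ 0 ∧ algebraMap A B a * b ∈ (algebraMap A B).range)
    (hres : ∀ b : B, ∃ a : A, b - algebraMap A B a ∈ maximalIdeal B) :
    Function.Surjective (algebraMap A B) := by
  classical
  have : IsDomain A := hinj.isDomain (algebraMap A B)
  have hrad := Groth.Agent.Sga7.H598.Conduct.isRadical_cond (R := A) (B := B) hinj hA
  set c := Groth.Agent.Sga7.H598.Conduct.cond A B with hc
  have hne : c ≠ ⊥ := by
    obtain ⟨s, hs⟩ := (Module.Finite.fg_top : (⊤ : Submodule A B).FG)
    choose a ha0 ha using hfrac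
    have h1 : algebraMap A B (∏ t ∈ s, a t) ∈ c := by
      intro t
      have ht : t ∈ Submodule.span A (s : Set B) := by rw [hs]; trivial
      induction ht using Submodule.span_induction with
      | mem x hx =>
        rw [← Finset.mul_prod_erase s a hx, mul_comm (a x), map_mul, mul_assoc]
        exact (algebraMap A B).range.mul_mem ⟨_, rfl⟩ (ha x)
      | zero => rw [mul_zero]; exact zero_mem _
      | add x y _ _ hx hy => rw [mul_add]; exact add_mem hx hy
      | smul r x _ hx =>
        rw [Algebra.smul_def, ← mul_assoc, mul_comm _ (algebraMap A B r), mul_assoc]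
        exact (algebraMap A B).range.mul_mem ⟨r, rfl⟩ hx
    intro h
    rw [h, Ideal.mem_bot, ← map_zero (algebraMap A B)] at h1
    exact Finset.prod_ne_zero_iff.2 (fun t _ => ha0 t) (hinj h1)
  have hmax : maximalIdeal B ≤ c := by
    obtain ⟨ϖ, hϖ⟩ := IsDiscreteValuationRing.exists_irreducible B
    obtain ⟨n, hn⟩ := IsDiscreteValuationRing.ideal_eq_span_pow_irreducible hne hϖ
    rw [hϖ.maximalIdeal_eq, Ideal.span_singleton_le_iff_mem]
    apply hrad
    refine ⟨n, ?_⟩
    rw [hn]
    exact Ideal.mem_span_singleton_self _
  intro b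
  obtain ⟨a, ha⟩ := hres b
  obtain ⟨a', ha'⟩ := hmax ha 1
  refine ⟨a + a', ?_⟩
  rw [map_add, ha']
  ring

section FF

variable {P W : Scheme.{u}} [IsIntegral P] [IsIntegral W] (f : P ⟶ W)
  (hf : f (genericPoint P) = genericPoint W)

include hf

theorem gen_spec : f (genericPoint P) ⤳ genericPoint W := specializes_of_eq hf

/-- The map on function fields of a dominant morphism of integral schemes. -/
noncomputable def ffMap : W.functionField →+* P.functionField :=
  (W.presheaf.stalkSpecializes (gen_spec f hf) ≫ f.stalkMap (genericPoint P)).hom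

theorem ffMap_algebraMap (p : P) (a : W.presheaf.stalk (f p)) :
    ffMap f hf (algebraMap (W.presheaf.stalk (f p)) W.functionField a) =
      algebraMap (P.presheaf.stalk p) P.functionField (f.stalkMap p a) := by
  have h1 := f.stalkSpecializes_stalkMap_apply (genericPoint P) p (genericPoint_specializes p) a
  have h2 : algebraMap (P.presheaf.stalk p) P.functionField (f.stalkMap p a) =
    P.presheaf.stalkSpecializes (genericPoint_specializes p) (f.stalkMap p a) := rfl
  rw [h2, ← h1]
  have h3 : algebraMap (W.presheaf.stalk (f p)) W.functionField a =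
    W.presheaf.stalkSpecializes (genericPoint_specializes (f p)) a := rfl
  rw [h3]
  change (f.stalkMap (genericPoint P)) ((W.presheaf.stalkSpecializes (gen_spec f hf))
    (W.presheaf.stalkSpecializes (genericPoint_specializes (f p)) a)) = _
  rw [TopCat.Presheaf.stalkSpecializes_comp_apply]

theorem ffMap_surjective (h : Function.Surjective (f.stalkMap (genericPoint P))) :
    Function.Surjective (ffMap f hf) := by
  intro y
  obtain ⟨z, hz⟩ := h y
  have h1 : genericPoint W ⤳ f (genericPoint P) := specializes_of_eq hf.symm
  refine ⟨W.presheaf.stalkSpecializes h1 z, ?_⟩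
  change (f.stalkMap (genericPoint P)) ((W.presheaf.stalkSpecializes (gen_spec f hf))
    (W.presheaf.stalkSpecializes h1 z)) = y
  rw [TopCat.Presheaf.stalkSpecializes_comp_apply, TopCat.Presheaf.stalkSpecializes_refl]
  exact hz

theorem stalkMap_injective (p : P) : Function.Injective (f.stalkMap p) := by
  have h1 : Function.Injective (algebraMap (W.presheaf.stalk (f p)) W.functionField) :=
    IsFractionRing.injective _ _
  have h2 : Function.Injective (ffMap f hf) := (ffMap f hf).injective
  intro a b hab
  apply h1
  apply h2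
  rw [ffMap_algebraMap, ffMap_algebraMap, hab]

theorem stalkMap_surjective_of_dvr (h : Function.Surjective (f.stalkMap (genericPoint P))) (p : P)
    (hd : IsDiscreteValuationRing (W.presheaf.stalk (f p))) : Function.Surjective (f.stalkMap p) :=
  surjective_of_dvr (K := W.functionField) (L := P.functionField) (f.stalkMap p).hom
    (algebraMap (P.presheaf.stalk p) P.functionField) (IsFractionRing.injective _ _) (ffMap f hf)
    (ffMap_surjective f hf h) (fun a => ffMap_algebraMap f hf p a)

end FF

section Pts

variable {k : Type u} [Field k] [IsAlgClosed k]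

/-- Residue fields at closed points over an algebraically closed field do not extend. -/
theorem exists_sub_mem {P W : Scheme.{u}} (f : P ⟶ W) (g : W ⟶ Spec (CommRingCat.of k))
    [LocallyOfFiniteType (f ≫ g)] (p : P) (hp : IsClosed ({p} : Set P)) (b : P.presheaf.stalk p) :
    ∃ a : W.presheaf.stalk (f p), b - f.stalkMap p a ∈ maximalIdeal (P.presheaf.stalk p) := by
  have h1 : Function.Surjective (f.residueFieldMap p) := by
    have h2 : Spec.preimage (P.fromSpecResidueField p ≫ f ≫ g) =
        Spec.preimage (W.fromSpecResidueField (f p) ≫ g) ≫ f.residueFieldMap p := by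
      apply Spec.map_injective
      rw [Spec.map_comp, Spec.map_preimage, Spec.map_preimage,
        Scheme.Hom.SpecMap_residueFieldMap_fromSpecResidueField_assoc]
    have h3 : IsIso (Spec.preimage (P.fromSpecResidueField p ≫ f ≫ g)) := by
      have h4 := SpecMap_residueFieldIsoBase_inv (f ≫ g) p hp
      have h5 : Spec.preimage (P.fromSpecResidueField p ≫ f ≫ g) = (residueFieldIsoBase (f ≫ g) p hp).inv := by
        apply Spec.map_injective
        rw [Spec.map_preimage, h4]
      rw [h5]
      infer_instance
    rw [h2] at h3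
    intro y
    obtain ⟨z, hz⟩ := (ConcreteCategory.bijective_of_isIso
      (Spec.preimage (W.fromSpecResidueField (f p) ≫ g) ≫ f.residueFieldMap p)).2 y
    exact ⟨_, hz⟩
  obtain ⟨a', ha'⟩ := h1 (P.residue p b)
  obtain ⟨a, rfl⟩ := IsLocalRing.residue_surjective (R := W.presheaf.stalk (f p)) a'
  refine ⟨a, ?_⟩
  rw [← IsLocalRing.residue_eq_zero_iff, map_sub, sub_eq_zero]
  have h6 : f.residueFieldMap p (W.residue (f p) a) = P.residue p (f.stalkMap p a) := by
    have := Scheme.residue_residueFieldMap f p
    exact congr($this a)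
  exact ha'.symm.trans h6

/-- In an integral scheme, only the generic point has a field as local ring. -/
theorem eq_genericPoint_of_isField {W : Scheme.{u}} [IsIntegral W] (w : W)
    (h : IsField (W.presheaf.stalk w)) : w = genericPoint W := by
  have h0 : ringKrullDim (W.presheaf.stalk w) = 0 := by
    let := h.toField
    exact ringKrullDim_eq_zero_of_field _
  rw [ringKrullDim_stalk_eq_coheight] at h0
  have h1 : Order.coheight w = 0 := by exact_mod_cast h0
  rw [Order.coheight_eq_zero] at h1
  have h3 : w ≤ genericPoint W := genericPoint_specializes w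
  have h4 : genericPoint W ≤ w := h1 h3
  exact (Specializes.antisymm (genericPoint_specializes w) h4).eq.symm

theorem finite_of_isClosed_singleton {T : Type*} [TopologicalSpace T] [NoetherianSpace T] [QuasiSober T]
    (Z : Set T) (hZ : IsClosed Z) (h : ∀ z ∈ Z, IsClosed ({z} : Set T)) : Z.Finite := by
  obtain ⟨S, hS, hc, hi, rfl⟩ := NoetherianSpace.exists_finite_set_isClosed_irreducible hZ
  refine hS.sUnion fun t ht => ?_
  obtain ⟨x, hx⟩ := QuasiSober.sober (hi t ht) (hc t ht)
  have h1 : x ∈ t := hx.mem
  have h2 : closure {x} = t := hx.def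
  rw [← h2, (h x ⟨t, ht, h1⟩).closure_eq]
  exact Set.finite_singleton x

/-- The discrete valuation rings among regular local rings of dimension at most one. -/
theorem dvr_of_regular (A : Type u) [CommRing A] [IsDomain A] [IsRegularLocalRing A] [Ring.KrullDimLE 1 A]
    (h : ¬ IsField A) : IsDiscreteValuationRing A := by
  have h1 : ringKrullDim A = 1 := by
    refine eq_of_le_of_not_lt ((Ring.krullDimLE_iff (n := 1)).mp inferInstance) fun h2 => ?_
    have : Ring.KrullDimLE 0 A := Ring.krullDimLE_iff.mpr (ENat.WithBot.lt_add_one_iff.mp h2)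
    exact h Ring.KrullDimLE.isField_of_isDomain
  obtain ⟨_, h2⟩ := (Groth.Agent.S0549.dvr_iff A).2 ⟨inferInstance, h1⟩
  exact h2

end Pts

section Main

variable {k : Type u} [Field k] [IsAlgClosed k] {P Y : Scheme.{u}} [IsIntegral P]
  (q : Y ⟶ Spec (CommRingCat.of k)) (e : P ⟶ Y) (hq : Curv2.IsNodalFamily q) [IsSeparated q]
  [LocallyOfFinitePresentation q] [IsProper (e ≫ q)] (hP : ∀ p : P, p = genericPoint P ∨ IsClosed ({p} : Set P))
  (hnc : ¬ IsClosed ({e (genericPoint P)} : Set Y))

include q hP hnc in
theorem isFinite : IsFinite e := by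
  have h0 : IsProper e := IsProper.of_comp e q
  have : LocallyQuasiFinite e := by
    refine LocallyQuasiFinite.of_finite_preimage_singleton e fun y => ?_
    have : IsNoetherian P := by
      have : IsLocallyNoetherian P := LocallyOfFiniteType.isLocallyNoetherian (e ≫ q)
      have : CompactSpace P := (quasiCompact_iff_compactSpace (e ≫ q)).1 inferInstance
      constructor
    by_cases hy : IsClosed ({y} : Set Y)
    · refine finite_of_isClosed_singleton _ (hy.preimage e.continuous) fun z hz => ?_
      rcases hP z with h | h
      · subst h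
        rw [Set.mem_preimage, Set.mem_singleton_iff] at hz
        exact absurd (hz ▸ hy) hnc
      · exact h
    · refine (Set.finite_singleton (genericPoint P)).subset fun z hz => ?_
      rcases hP z with h | h
      · exact h
      · have h1 := e.isClosedMap _ h
        rw [Set.image_singleton] at h1
        rw [Set.mem_preimage, Set.mem_singleton_iff] at hz
        exact absurd (hz ▸ h1) hy
  exact IsFinite.of_isProper_of_locallyQuasiFinite e

open Groth.Agent.CurvesB Groth.Agent.CurvesB.NodeSub Groth.Agent.Divis.CartierBasic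

include hq in
theorem nodal_facts (i0 : Y.Over (Spec (CommRingCat.of k))) (hi0 : i0 = ⟨q⟩) :
    (∀ Z ∈ irreducibleComponents (Y : Type u), topologicalKrullDim Z = 1) ∧ Curv2.AtWorstNodal k Y := by
  subst hi0
  let i0 : Y.Over (Spec (CommRingCat.of k)) := ⟨q⟩
  have hpb : IsPullback (𝟙 Y) (Y ↘ Spec (CommRingCat.of k)) q
      (Spec.map (CommRingCat.ofHom (RingHom.id k))) := by
    have : IsIso (Spec.map (CommRingCat.ofHom (RingHom.id k))) := by
      change IsIso (Spec.map (𝟙 (CommRingCat.of k)))
      infer_instance
    refine IsPullback.of_horiz_isIso ⟨?_⟩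
    change 𝟙 Y ≫ q = q ≫ Spec.map (𝟙 (CommRingCat.of k))
    rw [Spec.map_id, Category.comp_id, Category.id_comp]
  exact NodalQuot.atWorstNodal_of_surjective k Y q hq k (RingHom.id k) (fun x => ⟨x, rfl⟩) Y (𝟙 Y) hpb

include hnc in
theorem not_isField [IsIntegral e.image] [QuasiCompact e] (p : P) (hp : IsClosed ({e p} : Set Y)) :
    ¬ IsField (e.image.presheaf.stalk (e.toImage p)) := by
  intro h
  have h1 := eq_genericPoint_of_isField _ h
  rw [← Groth.Agent.CycB.ImageInt.toImage_genericPoint] at h1
  have h2 := congrArg e.imageι h1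
  rw [← Scheme.Hom.comp_apply, ← Scheme.Hom.comp_apply, Scheme.Hom.toImage_imageι] at h2
  exact hnc (h2 ▸ hp)

include hq hnc in
/-- The structure of the image at closed points. -/
theorem cases_at [IsIntegral e.image] (p : P) (hp : IsClosed ({p} : Set P)) :
    (IsDiscreteValuationRing (e.image.presheaf.stalk (e.toImage p)) ∨
      (stalkIdeal e.imageι.ker (e.imageι (e.toImage p)) = ⊥ ∧ e p ∉ q.smoothLocus)) ∧
    (e p ∈ q.smoothLocus → stalkIdeal e.imageι.ker (e.imageι (e.toImage p)) = ⊥) := by
  have h0 : IsProper e := IsProper.of_comp e q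
  have hcl : IsClosed ({e p} : Set Y) := by
    have := e.isClosedMap _ hp
    rwa [Set.image_singleton] at this
  have hT := not_isField e hnc p hcl
  have hie : e.imageι (e.toImage p) = e p := by
    rw [← Scheme.Hom.comp_apply, Scheme.Hom.toImage_imageι]
  let i0 : Y.Over (Spec (CommRingCat.of k)) := ⟨q⟩
  let i1 : e.image.Over (Spec (CommRingCat.of k)) := ⟨e.imageι ≫ q⟩
  obtain ⟨hequi, hX⟩ := nodal_facts q hq i0 rfl
  have hYfp : LocallyOfFinitePresentation (e.image ↘ Spec (CommRingCat.of k)) := by
    have : LocallyOfFiniteType (e.imageι ≫ q) := inferInstance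
    exact NodeSch2.locallyOfFinitePresentation_of_field (e.imageι ≫ q)
  have hft : LocallyOfFiniteType (Y ↘ Spec (CommRingCat.of k)) := inferInstanceAs (LocallyOfFiniteType q)
  have hkd : Ring.KrullDimLE 1 (Y.presheaf.stalk (e.imageι (e.toImage p))) :=
    NodeSch2.krullDimLE_one_stalk
      (NodeSch2.topologicalKrullDim_le_one_of_components hequi) (e.imageι (e.toImage p))
  obtain ⟨E⟩ := nonempty_equiv e.imageι (e.toImage p) _ rfl
  have hkdW : Ring.KrullDimLE 1 (e.image.presheaf.stalk (e.toImage p)) := by
    rw [Ring.krullDimLE_iff]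
    exact (ringKrullDim_le_of_surjective _ (e.imageι.stalkMap_surjective (e.toImage p))).trans
      ((Ring.krullDimLE_iff (n := 1)).mp hkd)
  have hsm : e p ∈ q.smoothLocus → stalkIdeal e.imageι.ker (e.imageι (e.toImage p)) = ⊥ ∧
      IsDiscreteValuationRing (e.image.presheaf.stalk (e.toImage p)) := by
    intro h
    rw [← hie] at h
    have h1 : IsRegularLocalRing (Y.presheaf.stalk (e.imageι (e.toImage p))) :=
      (Groth.Agent.VarietyA.SmoothReg.mem_smoothLocus_iff_of_perfectField q _).1 h
    have h2 := eq_bot_of_isRegularLocalRing (stalkIdeal e.imageι.ker (e.imageι (e.toImage p)))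
      (isReduced_of_injective E.toRingHom E.injective)
      E.toEquiv.nontrivial (fun hf => hT (MulEquiv.isField hf E.symm.toMulEquiv))
    refine ⟨h2, ?_⟩
    have h3 : IsRegularLocalRing (e.image.presheaf.stalk (e.toImage p)) := by
      let E2 : Y.presheaf.stalk (e.imageι (e.toImage p)) ≃+* e.image.presheaf.stalk (e.toImage p) :=
        ((RingEquiv.quotientBot _).symm.trans (Ideal.quotEquivOfEq h2.symm)).trans E
      exact IsRegularLocalRing.of_ringEquiv E2
    exact dvr_of_regular _ hT
  refine ⟨?_, fun h => (hsm h).1⟩
  by_cases hs : e p ∈ q.smoothLocus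
  · exact Or.inl (hsm hs).2
  · rcases hX (e.imageι (e.toImage p)) (by rw [hie]; exact hcl) with h | h
    · exfalso
      apply hs
      obtain ⟨U, hU1, hU2⟩ := h
      rw [hie] at hU1
      have hU3 : Smooth (U.ι ≫ q) := hU2
      exact Groth.Agent.VarietyA.SmoothLocusSch.le_smoothLocus q U hU1
    · rcases eq_bot_or_mem_smoothLocus k e.imageι rfl (e.toImage p) inferInstance hT h with h1 | h1
      · exact Or.inr ⟨h1, hs⟩
      · left
        have h2 : IsRegularLocalRing (e.image.presheaf.stalk (e.toImage p)) :=
          (Groth.Agent.VarietyA.SmoothReg.mem_smoothLocus_iff_of_perfectField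
            (e.image ↘ Spec (CommRingCat.of k)) _).1 h1
        exact dvr_of_regular _ hT

include q in
/-- Where the ideal of the image vanishes the image is a neighbourhood. -/
theorem range_mem_nhds [IsIntegral e.image] (p : P) [IsLocallyNoetherian Y]
    (h : stalkIdeal e.imageι.ker (e.imageι (e.toImage p)) = ⊥) : Set.range e ∈ nhds (e p) := by
  have h0 : IsProper e := IsProper.of_comp e q
  have hfp : LocallyOfFinitePresentation e.imageι := inferInstance
  have h1 := mem_smoothLocus_of_stalkIdeal_eq_bot e.imageι (e.toImage p) h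
  have h2 := etale_smoothLocus_ι_comp e.imageι
  have h3 : IsOpen (Set.range (e.imageι.smoothLocus.ι ≫ e.imageι)) :=
    (e.imageι.smoothLocus.ι ≫ e.imageι).isOpenMap.isOpen_range
  have hie : e.imageι (e.toImage p) = e p := by
    rw [← Scheme.Hom.comp_apply, Scheme.Hom.toImage_imageι]
  refine Filter.mem_of_superset (h3.mem_nhds ⟨⟨_, h1⟩, ?_⟩) ?_
  · exact hie
  · rintro _ ⟨z, rfl⟩
    have h4 : Set.range e.imageι = closure (Set.range e) := by
      rw [Scheme.IdealSheafData.range_subschemeι, Scheme.Hom.support_ker]
    have h5 : IsClosed (Set.range e) := e.isClosedMap.isClosed_range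
    rw [h5.closure_eq] at h4
    rw [Scheme.Hom.comp_apply, ← h4]
    exact ⟨_, rfl⟩

include hq hP hnc in
/-- A unibranch point of the image is not a node. -/
theorem surjective_of_unique [IsIntegral e.image] (p : P) (hp : IsClosed ({p} : Set P))
    (hdvr : IsDiscreteValuationRing (P.presheaf.stalk p))
    (hξ : Function.Surjective (e.toImage.stalkMap (genericPoint P)))
    (h : stalkIdeal e.imageι.ker (e.imageι (e.toImage p)) = ⊥)
    (huniq : ∀ p', e p' = e p → p' = p) : Function.Surjective (e.toImage.stalkMap p) := by
  have h0 : IsProper e := IsProper.of_comp e q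
  have hfin : IsFinite e := isFinite q e hP hnc
  have hgen := Groth.Agent.CycB.ImageInt.toImage_genericPoint e
  have hfin' : IsFinite e.toImage := by
    have : IsFinite (e.toImage ≫ e.imageι) := by rw [Scheme.Hom.toImage_imageι]; exact hfin
    exact IsFinite.of_comp e.toImage e.imageι
  have hcl : IsClosed ({e p} : Set Y) := by
    have := e.isClosedMap _ hp
    rwa [Set.image_singleton] at this
  have hie : e.imageι (e.toImage p) = e p := by
    rw [← Scheme.Hom.comp_apply, Scheme.Hom.toImage_imageι]
  let A := e.image.presheaf.stalk (e.toImage p)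
  let B := P.presheaf.stalk p
  let φ : A →+* B := (e.toImage.stalkMap p).hom
  let _ : Algebra A B := φ.toAlgebra
  obtain ⟨E⟩ := nonempty_equiv e.imageι (e.toImage p) _ rfl
  have hA : SN A := by
    have h1 := Groth.Agent.Sga7.H598.SNNode.sn_stalk k Y q hq (e.imageι (e.toImage p)) (by rw [hie]; exact hcl)
    let E2 : Y.presheaf.stalk (e.imageι (e.toImage p)) ≃+* A :=
        ((RingEquiv.quotientBot _).symm.trans (Ideal.quotEquivOfEq h.symm)).trans E
    exact h1.of_ringEquiv E2
  have hMF : Module.Finite A B := by
    have h1 := Groth.Agent.S0443.result e.toImage p (fun x' hx' => huniq x' (by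
      have := congrArg e.imageι hx'
      rwa [← Scheme.Hom.comp_apply, ← Scheme.Hom.comp_apply, Scheme.Hom.toImage_imageι] at this))
    exact h1
  have hinj : Function.Injective (algebraMap A B) := stalkMap_injective e.toImage hgen p
  have hft : LocallyOfFiniteType (e.toImage ≫ e.imageι ≫ q) := by
    rw [Scheme.Hom.toImage_imageι_assoc]; infer_instance
  refine surjective_of_sn hinj hA ?_ ?_
  · intro b
    obtain ⟨z, hz⟩ := ffMap_surjective e.toImage hgen hξ (algebraMap B P.functionField b)
    obtain ⟨n, d, hd, rfl⟩ := IsFractionRing.div_surjective (A := A) z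
    refine ⟨d, nonZeroDivisors.ne_zero hd, n, ?_⟩
    have hinjB : Function.Injective (algebraMap B P.functionField) := IsFractionRing.injective _ _
    apply hinjB
    have h2 := ffMap_algebraMap e.toImage hgen p
    change algebraMap B P.functionField (e.toImage.stalkMap p n) =
      algebraMap B P.functionField (e.toImage.stalkMap p d * b)
    rw [map_mul, ← h2, ← h2, ← hz, map_div₀]
    rw [mul_div_cancel₀]
    rw [ne_eq, map_eq_zero]
    exact (map_ne_zero_iff _ (IsFractionRing.injective A e.image.functionField)).2
      (nonZeroDivisors.ne_zero hd)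
  · intro b
    exact exists_sub_mem e.toImage (e.imageι ≫ q) p hp b

include q hP hnc in
/-- Points of the source with the same image coincide if all the stalk maps to the image are onto. -/
theorem eq_of_surjective [IsIntegral e.image]
    (hsurj : ∀ p : P, IsClosed ({p} : Set P) → Function.Surjective (e.toImage.stalkMap p)) (p p' : P)
    (hp : IsClosed ({p} : Set P)) (h : e p' = e p) : p' = p := by
  by_contra hne
  have h0 : IsProper e := IsProper.of_comp e q
  have hfin : IsFinite e := isFinite q e hP hnc
  have hgen := Groth.Agent.CycB.ImageInt.toImage_genericPoint e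
  have hw : e.toImage p' = e.toImage p := by
    apply e.imageι.isClosedEmbedding.injective
    rw [← Scheme.Hom.comp_apply, ← Scheme.Hom.comp_apply, Scheme.Hom.toImage_imageι, h]
  obtain ⟨V, hV, hyV, -⟩ := exists_isAffineOpen_mem_and_subset (X := Y) (x := e p) (U := ⊤) trivial
  have hU : IsAffineOpen (e ⁻¹ᵁ V) := hV.preimage e
  let V' : P.Opens := ⟨{p}ᶜ, hp.isOpen_compl⟩
  have hpU : p ∈ e ⁻¹ᵁ V := hyV
  have hp'U : p' ∈ e ⁻¹ᵁ V := by change e p' ∈ V; rw [h]; exact hyV
  obtain ⟨b, hb1, hb2⟩ := hU.exists_basicOpen_le (V := V') ⟨p', hne⟩ hp'U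
  have hb3 : p ∉ P.basicOpen b := fun hh => hb1 hh rfl
  rw [P.mem_basicOpen b p hpU] at hb3
  rw [P.mem_basicOpen b p' hp'U] at hb2
  obtain ⟨a, ha⟩ := hsurj p hp (P.presheaf.germ _ p hpU b)
  let a' : e.image.presheaf.stalk (e.toImage p') :=
    e.image.presheaf.stalkSpecializes (specializes_of_eq hw) a
  have h1 : algebraMap (e.image.presheaf.stalk (e.toImage p')) e.image.functionField a' =
      algebraMap (e.image.presheaf.stalk (e.toImage p)) e.image.functionField a := by
    change (e.image.presheaf.stalkSpecializes _) (e.image.presheaf.stalkSpecializes _ a) =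
      e.image.presheaf.stalkSpecializes _ a
    rw [TopCat.Presheaf.stalkSpecializes_comp_apply]
  have h2 : e.toImage.stalkMap p' a' = P.presheaf.germ _ p' hp'U b := by
    apply IsFractionRing.injective (P.presheaf.stalk p') P.functionField
    rw [← ffMap_algebraMap e.toImage hgen, h1, ffMap_algebraMap e.toImage hgen, ha]
    change (P.presheaf.stalkSpecializes _) (P.presheaf.germ _ _ _ b) =
      (P.presheaf.stalkSpecializes _) (P.presheaf.germ _ _ _ b)
    rw [TopCat.Presheaf.germ_stalkSpecializes_apply, TopCat.Presheaf.germ_stalkSpecializes_apply]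
  have h3 : IsUnit a' := by
    rw [← h2] at hb2
    exact (isUnit_map_iff (e.toImage.stalkMap p').hom a').1 hb2
  have h4 : IsUnit a := by
    have h5 : e.image.presheaf.stalkSpecializes (specializes_of_eq hw.symm) a' = a := by
      change (e.image.presheaf.stalkSpecializes _) (e.image.presheaf.stalkSpecializes _ a) = a
      rw [TopCat.Presheaf.stalkSpecializes_comp_apply, TopCat.Presheaf.stalkSpecializes_refl]
      rfl
    rw [← h5]
    exact h3.map (e.image.presheaf.stalkSpecializes (specializes_of_eq hw.symm)).hom
  apply hb3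
  rw [← ha]
  exact h4.map (e.toImage.stalkMap p).hom

include hq hP hnc in
/-- A proper regular curve mapping to a nodal curve, birationally onto a component, with all but at most two
points going to smooth points, is closed in the nodal curve or its image is open. -/
theorem main (hdvr : ∀ p : P, IsClosed ({p} : Set P) → IsDiscreteValuationRing (P.presheaf.stalk p))
    (hξ : Function.Surjective (e.stalkMap (genericPoint P))) (B : Set P) (hB : B.encard ≤ 2)
    (hsm : ∀ p ∉ B, IsClosed ({p} : Set P) → e p ∈ q.smoothLocus) :
    IsClosedImmersion e ∨ IsOpen (Set.range e) := by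
  have h0 : IsProper e := IsProper.of_comp e q
  have hW : IsIntegral e.image := Groth.Agent.CycB.ImageInt.isIntegral_image e
  have hgen := Groth.Agent.CycB.ImageInt.toImage_genericPoint e
  have hNY : IsLocallyNoetherian Y := LocallyOfFiniteType.isLocallyNoetherian q
  have hcl : ∀ p : P, IsClosed ({p} : Set P) → IsClosed ({e p} : Set Y) := by
    intro p hp
    have := e.isClosedMap _ hp
    rwa [Set.image_singleton] at this
  have hξ' : Function.Surjective (e.toImage.stalkMap (genericPoint P)) := by
    have h1 : Function.Surjective ((e.toImage ≫ e.imageι).stalkMap (genericPoint P)) := by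
      rw [Scheme.Hom.toImage_imageι]; exact hξ
    rw [Scheme.Hom.stalkMap_comp] at h1
    intro y
    obtain ⟨z, hz⟩ := h1 y
    exact ⟨_, hz⟩
  by_cases hex : ∃ p, IsClosed ({p} : Set P) ∧ ¬ Function.Surjective (e.toImage.stalkMap p)
  · right
    obtain ⟨p, hp, hns⟩ := hex
    have hc := (cases_at q e hq hnc p hp).1
    have hbot : stalkIdeal e.imageι.ker (e.imageι (e.toImage p)) = ⊥ ∧ e p ∉ q.smoothLocus := by
      rcases hc with h | h
      · exact absurd (stalkMap_surjective_of_dvr e.toImage hgen hξ' p h) hns
      · exact h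
    have hpB : p ∈ B := by
      by_contra h
      exact hbot.2 (hsm p h hp)
    obtain ⟨p', hp'1, hp'2⟩ : ∃ p', e p' = e p ∧ p' ≠ p := by
      by_contra h
      push Not at h
      exact hns (surjective_of_unique q e hq hP hnc p hp (hdvr p hp) hξ' hbot.1 h)
    have hp'cl : IsClosed ({p'} : Set P) := by
      rcases hP p' with h | h
      · subst h
        exact absurd (hp'1 ▸ hcl p hp) hnc
      · exact h
    have hp'B : p' ∈ B := by
      by_contra h
      exact hbot.2 (hp'1 ▸ hsm p' h hp'cl)
    have hBsub : B = {p', p} := by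
      have h1 : ({p', p} : Set P) ⊆ B := by
        rintro x (rfl | rfl)
        · exact hp'B
        · exact hpB
      have h2 : B.Finite := Set.finite_of_encard_le_coe hB
      refine (h2.eq_of_subset_of_encard_le' h1 ?_).symm
      rw [Set.encard_pair hp'2]
      exact hB
    have hnh := range_mem_nhds q e p hbot.1
    rw [isOpen_iff_mem_nhds]
    rintro _ ⟨p'', rfl⟩
    rcases hP p'' with h | h
    · subst h
      obtain ⟨O, hO, hO1, hO2⟩ := mem_nhds_iff.1 hnh
      refine mem_nhds_iff.2 ⟨O, hO, hO1, ?_⟩
      exact ((genericPoint_specializes p).map e.continuous).mem_open hO1 hO2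
    · by_cases h1 : p'' ∈ B
      · rw [hBsub] at h1
        rcases h1 with rfl | rfl
        · rw [hp'1]; exact hnh
        · exact hnh
      · exact range_mem_nhds q e p'' ((cases_at q e hq hnc p'' h).2 (hsm p'' h1 h))
  · left
    push Not at hex
    have hs : SurjectiveOnStalks e := by
      refine ⟨fun p => ?_⟩
      rcases hP p with h | h
      · subst h; exact hξ
      · have h1 : Function.Surjective ((e.toImage ≫ e.imageι).stalkMap p) := by
          rw [Scheme.Hom.stalkMap_comp]
          exact (hex p h).comp (e.imageι.stalkMap_surjective (e.toImage p))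
        rw [Scheme.Hom.toImage_imageι] at h1
        exact h1
    have hinj : Function.Injective e := by
      intro p' p h
      rcases hP p with h1 | h1
      · rcases hP p' with h2 | h2
        · rw [h1, h2]
        · subst h1
          exact absurd (h ▸ hcl p' h2) hnc
      · exact eq_of_surjective q e hP hnc hex p p' h1 h
    exact ⟨Topology.IsClosedEmbedding.of_continuous_injective_isClosedMap e.continuous hinj
      e.isClosedMap⟩

end Main

end K851.Curve
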