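import Groth.Agent.SSMod.K851.LemN
import Mathlib.AlgebraicGeometry.AlgClosed.Basic
import Mathlib.AlgebraicGeometry.Morphisms.Preimmersion

/-!
# Rational closed points
-/

set_option autoImplicit false
set_option linter.unusedSectionVars false
universe u

open CategoryTheory CategoryTheory.Limits AlgebraicGeometry TopologicalSpace IsLocalRing

namespace K851.Pt

open K851.Fib K851.LemN

theorem exists_fac {L : Type u} [Field L] {Z : Scheme.{u}} (a : Spec (CommRingCat.of L) ⟶ Z) (z : Z)
    (s : Spec (CommRingCat.of L)) (hz : a s = z) :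
    ∃ φ : Z.residueField z ⟶ CommRingCat.of L, a = Spec.map φ ≫ Z.fromSpecResidueField z := by
  obtain ⟨z', φ, h1⟩ : ∃ (z' : Z) (φ : Z.residueField z' ⟶ CommRingCat.of L),
      Spec.map φ ≫ Z.fromSpecResidueField z' = a :=
    ⟨_, _, (Scheme.SpecToEquivOfField L Z).left_inv a⟩
  have : z' = z := by
    rw [← hz, ← h1, Scheme.Hom.comp_apply, Scheme.fromSpecResidueField_apply]
  subst this
  exact ⟨φ, h1.symm⟩

variable {R : Type u} [CommRing R] [IsLocalRing R]

theorem specMap_surj {A B : CommRingCat.{u}} (φ : A ⟶ B) (h : Function.Surjective φ) :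
    IsClosedImmersion (Spec.map φ) := IsClosedImmersion.spec_of_surjective φ h

instance : IsClosedImmersion (sp R) := IsClosedImmersion.spec_of_surjective _ residue_surjective

/-- A point with values in the residue field of `R` is a universal point with its image. -/
theorem fac {Z : Scheme.{u}} (q : Z ⟶ Spec (CommRingCat.of R))
    (xk : Spec (CommRingCat.of (ResidueField R)) ⟶ Z) (hx : xk ≫ q = sp R)
    {L : Type u} [Field L] (a : Spec (CommRingCat.of L) ⟶ Z) (s : Spec (CommRingCat.of L))
    (t : Spec (CommRingCat.of (ResidueField R))) (h : a s = xk t) :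
    ∃ b : Spec (CommRingCat.of L) ⟶ Spec (CommRingCat.of (ResidueField R)), a = b ≫ xk := by
  obtain ⟨ψ, hψ⟩ := exists_fac xk (xk t) t rfl
  obtain ⟨φ, hφ⟩ := exists_fac a (xk t) s h
  have h1 : Function.Surjective ψ := by
    obtain ⟨χ, hχ⟩ := Spec.map_surjective (Z.fromSpecResidueField (xk t) ≫ q)
    have h2 : χ ≫ ψ = CommRingCat.ofHom (residue R) := by
      apply Spec.map_injective
      rw [Spec.map_comp, hχ, ← Category.assoc, ← hψ, hx]
    intro y
    obtain ⟨r, hr⟩ := residue_surjective y
    refine ⟨χ r, ?_⟩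
    have := congr($h2 r)
    rw [← hr]
    exact this
  have h2 : Function.Bijective ψ := ⟨ψ.hom.injective, h1⟩
  have h3 : IsIso ψ := (ConcreteCategory.isIso_iff_bijective ψ).2 h2
  refine ⟨Spec.map φ ≫ inv (Spec.map ψ), ?_⟩
  rw [Category.assoc, hφ]
  congr 1
  rw [IsIso.eq_inv_comp]
  exact hψ.symm

theorem ext {Z : Scheme.{u}} (q : Z ⟶ Spec (CommRingCat.of R))
    (xk : Spec (CommRingCat.of (ResidueField R)) ⟶ Z) (hx : xk ≫ q = sp R)
    {L : Type u} [Field L] (a b : Spec (CommRingCat.of L) ⟶ Z) (s s' : Spec (CommRingCat.of L))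
    (t : Spec (CommRingCat.of (ResidueField R))) (h : a s = xk t) (h' : b s' = xk t)
    (hab : a ≫ q = b ≫ q) : a = b := by
  obtain ⟨a', rfl⟩ := fac q xk hx a s t h
  obtain ⟨b', rfl⟩ := fac q xk hx b s' t h'
  rw [Category.assoc, Category.assoc, hx, cancel_mono] at hab
  rw [hab]

/-- Closed points of the special fibre are rational. -/
theorem exists_pt [IsAlgClosed (ResidueField R)] {Z Zk : Scheme.{u}}
    (q : Z ⟶ Spec (CommRingCat.of R)) (i : Zk ⟶ Z)
    (qk : Zk ⟶ Spec (CommRingCat.of (ResidueField R))) (H : IsPullback i qk q (sp R))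
    [LocallyOfFiniteType q] (z : Z) (hz : IsClosed ({z} : Set Z)) (hq : q z = closedPoint R) :
    ∃ xk : Spec (CommRingCat.of (ResidueField R)) ⟶ Z, xk ≫ q = sp R ∧
      ∀ t, xk t = z := by
  have h0 : LocallyOfFiniteType qk := MorphismProperty.of_isPullback (P := @LocallyOfFiniteType) H inferInstance
  have h1 : IsClosedImmersion i := MorphismProperty.of_isPullback (P := @IsClosedImmersion) H.flip inferInstance
  obtain ⟨zk, hzk⟩ : ∃ zk, i zk = z := by
    have h2 := Scheme.Pullback.exists_preimage_pullback z (closedPoint (ResidueField R) : Spec (CommRingCat.of (ResidueField R)))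
      (f := q) (g := sp R) (by rw [hq]; exact (comap_closedPoint (residue R)).symm)
    obtain ⟨w, hw1, -⟩ := h2
    refine ⟨H.isoPullback.inv w, ?_⟩
    rw [← Scheme.Hom.comp_apply, H.isoPullback_inv_fst, hw1]
  have hcl : IsClosed ({zk} : Set Zk) := by
    have : ({zk} : Set Zk) = i ⁻¹' {z} := by
      ext y
      simp only [Set.mem_singleton_iff, Set.mem_preimage]
      constructor
      · rintro rfl; exact hzk
      · intro h; exact i.isClosedEmbedding.injective (h.trans hzk.symm)
    rw [this]
    exact hz.preimage i.continuous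
  refine ⟨pointOfClosedPoint qk zk hcl ≫ i, ?_, ?_⟩
  · rw [Category.assoc, H.w, pointOfClosedPoint_comp_assoc]
  · intro t
    rw [Scheme.Hom.comp_apply, pointOfClosedPoint_apply, hzk]

/-- Points of the special fibre. -/
theorem exists_lift {Z Zk : Scheme.{u}}
    (q : Z ⟶ Spec (CommRingCat.of R)) (i : Zk ⟶ Z)
    (qk : Zk ⟶ Spec (CommRingCat.of (ResidueField R))) (H : IsPullback i qk q (sp R))
    (z : Z) (hq : q z = closedPoint R) : ∃ zk, i zk = z := by
  have h2 := Scheme.Pullback.exists_preimage_pullback z (closedPoint (ResidueField R) : Spec (CommRingCat.of (ResidueField R)))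
    (f := q) (g := sp R) (by rw [hq]; exact (comap_closedPoint (residue R)).symm)
  obtain ⟨w, hw1, -⟩ := h2
  refine ⟨H.isoPullback.inv w, ?_⟩
  rw [← Scheme.Hom.comp_apply, H.isoPullback_inv_fst, hw1]

theorem mono_of_pt {Z : Scheme.{u}} (q : Z ⟶ Spec (CommRingCat.of R))
    (xk : Spec (CommRingCat.of (ResidueField R)) ⟶ Z) (hx : xk ≫ q = sp R)
    (t : Spec (CommRingCat.of (ResidueField R))) : Mono (Z.fromSpecResidueField (xk t) ≫ q) := by
  obtain ⟨ψ, hψ⟩ := exists_fac xk (xk t) t rfl
  obtain ⟨χ, hχ⟩ := Spec.map_surjective (Z.fromSpecResidueField (xk t) ≫ q)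
  have h2 : χ ≫ ψ = CommRingCat.ofHom (residue R) := by
    apply Spec.map_injective
    rw [Spec.map_comp, hχ, ← Category.assoc, ← hψ, hx]
  have h3 : Function.Surjective χ := by
    intro y
    obtain ⟨r, hr⟩ := residue_surjective (ψ y)
    refine ⟨r, ψ.hom.injective ?_⟩
    exact (congr($h2 r)).trans hr
  have := specMap_surj χ h3
  rw [← hχ]
  infer_instance

end K851.Pt
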