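import Groth.Agent.SSMod.K851.Et
import Groth.Agent.SSMod.K851.Pt
import Groth.Agent.SSMod.K851.Curve
import Groth.Agent.Sga7.H734.NodalBC
import Groth.Agent.S1589
import Groth.Agent.CurvesB.DimOneTop
import Mathlib.AlgebraicGeometry.Geometrically.Reduced

/-!
# Components of the special fibre of a nodal family
-/

set_option autoImplicit false
set_option linter.unusedSectionVars false
set_option linter.dupNamespace false
universe u

open CategoryTheory CategoryTheory.Limits AlgebraicGeometry TopologicalSpace IsLocalRing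

namespace K851.Comp

open K851.Fib K851.LemN K851.Et K851.Pt

theorem isReduced_of_geom {K : Type u} [Field K] {X : Scheme.{u}} (h : X ⟶ Spec (CommRingCat.of K))
    (hh : GeometricallyReduced h) : IsReduced X := by
  have hpb : IsPullback (𝟙 X) h h (𝟙 (Spec (CommRingCat.of K))) := IsPullback.of_horiz_isIso ⟨by simp⟩
  exact GeometricallyReduced.geometrically_isReduced (f := h) (𝟙 (Spec (CommRingCat.of K))) (𝟙 X) h hpb

theorem isReduced_fiber {X S : Scheme.{u}} (f : X ⟶ S) (hf : Curv2.IsNodalFamily f) (s : S) :
    IsReduced (f.fiber s) := by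
  have h1 := hf.2.1
  have h2 : LocallyOfFiniteType (f.fiberToSpecResidueField s) :=
    MorphismProperty.of_isPullback (P := @LocallyOfFiniteType) (IsPullback.of_hasPullback _ _) inferInstance
  exact isReduced_of_geom (K := S.residueField s) (f.fiberToSpecResidueField s)
    (@Groth.Agent.S1589.result (S.residueField s) _ (f.fiber s) ⟨f.fiberToSpecResidueField s⟩
    h2 (hf.2.2 s).1 (hf.2.2 s).2).2

section Field

variable {k : Type u} [Field k] [IsAlgClosed k] {Y : Scheme.{u}} (q : Y ⟶ Spec (CommRingCat.of k))
  (hq : Curv2.IsNodalFamily q)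

include hq

theorem nodal_facts (i0 : Y.Over (Spec (CommRingCat.of k))) (hi0 : i0 = ⟨q⟩) :
    (∀ Z ∈ irreducibleComponents (Y : Type u), topologicalKrullDim Z = 1) ∧ Curv2.AtWorstNodal k Y := by
  subst hi0
  let i0 : Y.Over (Spec (CommRingCat.of k)) := ⟨q⟩
  have hpb : IsPullback (𝟙 Y) (Y ↘ Spec (CommRingCat.of k)) q
      (Spec.map (CommRingCat.ofHom (RingHom.id k))) := by
    have : IsIso (Spec.map (CommRingCat.ofHom (RingHom.id k))) := by
      change IsIso (Spec.map (𝟙 (CommRingCat.of k)))
      infer_instance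
    refine IsPullback.of_horiz_isIso ⟨?_⟩
    change 𝟙 Y ≫ q = q ≫ Spec.map (𝟙 (CommRingCat.of k))
    rw [Spec.map_id, Category.comp_id, Category.id_comp]
  exact Groth.Agent.CurvesB.NodalQuot.atWorstNodal_of_surjective k Y q hq k (RingHom.id k)
    (fun x => ⟨x, rfl⟩) Y (𝟙 Y) hpb

theorem isReduced_field : IsReduced Y := by
  have h1 := hq.2.1
  let i0 : Y.Over (Spec (CommRingCat.of k)) := ⟨q⟩
  obtain ⟨hequi, hX⟩ := nodal_facts q hq i0 rfl
  have h2 : LocallyOfFiniteType (Y ↘ Spec (CommRingCat.of k)) := inferInstanceAs (LocallyOfFiniteType q)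
  exact isReduced_of_geom q (Groth.Agent.S1589.result k Y hequi hX).2

/-- A non-closed point of a nodal curve is maximal. -/
theorem eq_of_specializes (z : Y) (hz : ¬ IsClosed ({z} : Set Y)) (y : Y) (hy : y ⤳ z) : y = z := by
  let i0 : Y.Over (Spec (CommRingCat.of k)) := ⟨q⟩
  obtain ⟨hequi, hX⟩ := nodal_facts q hq i0 rfl
  rw [Groth.Agent.CurvesB.DimOneTop.forall_irreducibleComponents_iff] at hequi
  -- a maximal generization of `y`
  obtain ⟨η, hη1, hη2⟩ : ∃ η : Y, η ⤳ y ∧ ∀ t, t ⤳ η → t = η := by
    have hirr := isIrreducible_irreducibleComponent (x := y)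
    obtain ⟨η, hη⟩ := QuasiSober.sober hirr isClosed_irreducibleComponent
    refine ⟨η, hη.specializes mem_irreducibleComponent, fun t ht => ?_⟩
    have h1 : irreducibleComponent y ⊆ closure {t} := by
      rw [← hη.def]
      exact (isClosed_closure.closure_subset_iff).2 (Set.singleton_subset_iff.2 (specializes_iff_mem_closure.1 ht))
    have h2 : closure {t} ⊆ irreducibleComponent y :=
      (irreducibleComponent_mem_irreducibleComponents y).2 (isIrreducible_singleton.closure) h1
    have h3 : closure {t} = closure {η} := by rw [hη.def]; exact le_antisymm h2 h1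
    exact (inseparable_iff_closure_eq.2 h3).eq
  have h1 := (hequi η hη2).2
  by_contra hne
  have hηz : η ⤳ z := hη1.trans hy
  by_cases hηz' : z = η
  · subst hηz'
    exact hne (hη2 y hy)
  · apply hz
    have h2 := h1 z hηz hηz'
    have h3 : closure ({z} : Set Y) = {z} := by
      ext t
      rw [← specializes_iff_mem_closure, Set.mem_singleton_iff]
      exact ⟨fun h => h2 t h, fun h => h ▸ specializes_rfl⟩
    rw [← h3]
    exact isClosed_closure

theorem finite_not_closed [NoetherianSpace Y] : {z : Y | ¬ IsClosed ({z} : Set Y)}.Finite := by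
  have h1 : Set.InjOn (fun z : Y => closure ({z} : Set Y)) {z : Y | ¬ IsClosed ({z} : Set Y)} := by
    intro a _ b _ hab
    exact (inseparable_iff_closure_eq.2 hab).eq
  refine Set.Finite.of_finite_image ((NoetherianSpace.finite_irreducibleComponents (α := Y)).subset ?_) h1
  rintro _ ⟨z, hz, rfl⟩
  refine ⟨isIrreducible_singleton.closure, fun t ht hle => ?_⟩
  obtain ⟨η, hη⟩ := QuasiSober.sober ht.closure isClosed_closure
  have h2 : z ∈ closure t := subset_closure (hle (subset_closure rfl))
  have h3 : η ⤳ z := hη.specializes h2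
  have h4 := eq_of_specializes q hq z hz η h3
  subst h4
  change t ⊆ closure {η}
  rw [hη.def]
  exact subset_closure

theorem isField_stalk (z : Y) (hz : ¬ IsClosed ({z} : Set Y)) : IsField (Y.presheaf.stalk z) := by
  have := isReduced_field q hq
  exact isField_stalk_of_max z (eq_of_specializes q hq z hz)

end Field

section DVR

variable {R : Type u} [CommRing R] [IsDomain R] [IsDiscreteValuationRing R] [IsAlgClosed (ResidueField R)]
  {π : R} (hπ : Irreducible π) {Z : Scheme.{u}} (q : Z ⟶ Spec (CommRingCat.of R))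
  (hq : Curv2.IsNodalFamily q)

include hπ hq in
theorem exists_dvr (z : Z) (hz : q z = closedPoint R) (hcl : ¬ IsClosed ({z} : Set Z)) :
    ∃ _ : IsDomain (Z.presheaf.stalk z), IsDiscreteValuationRing (Z.presheaf.stalk z) ∧
      Irreducible (st q z π) := by
  have hfl := hq.1
  have hlfp := hq.2.1
  have H : IsPullback (pullback.fst q (sp R)) (pullback.snd q (sp R)) q (sp R) :=
    IsPullback.of_hasPullback _ _
  have hnk : Curv2.IsNodalFamily (pullback.snd q (sp R)) :=
    Groth.Agent.Sga7.H734.NodalBC.isNodalFamily_of_isPullback H hq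
  have hcli : IsClosedImmersion (pullback.fst q (sp R)) := inferInstance
  obtain ⟨zk, hzk⟩ := exists_lift q _ _ H z hz
  have hzcl : ¬ IsClosed ({zk} : Set ↥(pullback q (sp R))) := by
    intro h
    apply hcl
    have h1 := (pullback.fst q (sp R)).isClosedMap _ h
    rwa [Set.image_singleton, hzk] at h1
  have hF := isField_stalk (pullback.snd q (sp R)) hnk zk hzcl
  have hker := ker_stalkMap hπ.maximalIdeal_eq q _ _ H zk
  rw [← hzk]
  have hN : IsLocallyNoetherian Z := LocallyOfFiniteType.isLocallyNoetherian q
  have hm : maximalIdeal (Z.presheaf.stalk (pullback.fst q (sp R) zk)) =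
      Ideal.span {st q (pullback.fst q (sp R) zk) π} := by
    rw [← hker]
    have hs : Function.Surjective ((pullback.fst q (sp R)).stalkMap zk).hom :=
      Scheme.Hom.stalkMap_surjective _ _
    have hmax : (RingHom.ker ((pullback.fst q (sp R)).stalkMap zk).hom).IsMaximal := by
      let _ := hF.toField
      exact RingHom.ker_isMaximal_of_surjective _ hs
    exact (eq_maximalIdeal hmax).symm
  exact K851.Loc.dvr_of hm fun x hx => eq_zero_of_st_mul q _ hπ.ne_zero x hx

include hq in
theorem finite_comp [CompactSpace Z] : {z : Z | q z = closedPoint R ∧ ¬ IsClosed ({z} : Set Z)}.Finite := by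
  have hlfp := hq.2.1
  have H : IsPullback (pullback.fst q (sp R)) (pullback.snd q (sp R)) q (sp R) :=
    IsPullback.of_hasPullback _ _
  have hnk : Curv2.IsNodalFamily (pullback.snd q (sp R)) :=
    Groth.Agent.Sga7.H734.NodalBC.isNodalFamily_of_isPullback H hq
  have hcli : IsClosedImmersion (pullback.fst q (sp R)) := inferInstance
  have hN : IsLocallyNoetherian Z := LocallyOfFiniteType.isLocallyNoetherian q
  have hNZ : IsNoetherian Z := {}
  have hNs : NoetherianSpace ↥(pullback q (sp R)) :=
    (pullback.fst q (sp R)).isClosedEmbedding.isInducing.noetherianSpace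
  refine ((finite_not_closed (pullback.snd q (sp R)) hnk).image (pullback.fst q (sp R))).subset ?_
  rintro z ⟨hz, hcl⟩
  obtain ⟨zk, hzk⟩ := exists_lift q _ _ H z hz
  refine ⟨zk, fun h => hcl ?_, hzk⟩
  have h1 := (pullback.fst q (sp R)).isClosedMap _ h
  rwa [Set.image_singleton, hzk] at h1

end DVR

end K851.Comp
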