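import Groth.Agent.Ega4B.NagFinal
import Groth.Agent.S2656
import Mathlib.RingTheory.Int.Basic
import Groth.Agent.Ega4B.NagIntClos
import Mathlib.AlgebraicGeometry.AffineTransitionLimit
import Mathlib.AlgebraicGeometry.Limits
import Mathlib.AlgebraicGeometry.Noetherian
import Mathlib.Algebra.Category.Ring.FilteredColimits
import Mathlib.RingTheory.FiniteType

/-!
# Normal domains are filtered unions of normal subrings of finite type over the integers
-/

set_option autoImplicit false
set_option linter.unusedSectionVars false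
set_option linter.dupNamespace false
universe u

open CategoryTheory CategoryTheory.Limits AlgebraicGeometry TopologicalSpace

namespace K851.BA

open Groth.Agent in
theorem isNagata_uliftInt : CAlg.IsNagata (ULift.{u} ℤ) := by
  have h1 : IsPrincipalIdealRing (ULift.{u} ℤ) :=
    IsPrincipalIdealRing.of_surjective (ULift.ringEquiv.symm : ℤ ≃+* ULift.{u} ℤ).toRingHom
      (ULift.ringEquiv.symm : ℤ ≃+* ULift.{u} ℤ).surjective
  have h2 : IsDomain (ULift.{u} ℤ) := (ULift.ringEquiv : ULift.{u} ℤ ≃+* ℤ).toMulEquiv.isDomain _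
  have h3 : CharZero (ULift.{u} ℤ) :=
    charZero_of_injective_ringHom (f := (ULift.ringEquiv.symm : ℤ ≃+* ULift.{u} ℤ).toRingHom)
      (ULift.ringEquiv.symm : ℤ ≃+* ULift.{u} ℤ).injective
  exact Groth.Agent.S2656.result (ULift.{u} ℤ)

theorem isNagata_of_fg {R : Type u} [CommRing R] (R₀ : Subalgebra ℤ R) (h : R₀.FG) : CAlg.IsNagata R₀ := by
  have h1 : Algebra.FiniteType ℤ R₀ := R₀.fg_iff_finiteType.mp h
  let _ : Algebra (ULift.{u} ℤ) R₀ := ((algebraMap ℤ R₀).comp (ULift.ringEquiv : ULift.{u} ℤ ≃+* ℤ).toRingHom).toAlgebra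
  have h2 : Algebra.FiniteType (ULift.{u} ℤ) R₀ := by
    obtain ⟨s, hs⟩ := h1.1
    refine ⟨s, ?_⟩
    rw [eq_top_iff]
    intro x _
    have hx : x ∈ Algebra.adjoin ℤ (s : Set R₀) := by rw [hs]; trivial
    induction hx using Algebra.adjoin_induction with
    | mem x hx => exact Algebra.subset_adjoin hx
    | algebraMap r => exact Subalgebra.algebraMap_mem _ (ULift.up r : ULift.{u} ℤ)
    | add x y _ _ hx hy => exact add_mem (hx trivial) (hy trivial)
    | mul x y _ _ hx hy => exact mul_mem (hx trivial) (hy trivial)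
  exact Groth.Agent.Ega4B.NagFinal.isNagata_of_finiteType (R := ULift.{u} ℤ) isNagata_uliftInt


section

variable (A : Type u) [CommRing A] [IsDomain A] [IsIntegrallyClosed A]

omit [IsDomain A] [IsIntegrallyClosed A] in
theorem exists_sub (R₀ : Subalgebra ℤ A) (h : R₀.FG) (B : Type u) [CommRing B] [Algebra R₀ B]
    (hB : Module.Finite R₀ B) (hBi : IsDomain B) (hBc : IsIntegrallyClosed B) (ψ : B →+* A)
    (hψi : Function.Injective ψ) (hψ : ∀ r : R₀, ψ (algebraMap R₀ B r) = r) :
    ∃ N : Subalgebra ℤ A, R₀ ≤ N ∧ N.FG ∧ IsIntegrallyClosed N := by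
  let ψa : B →ₐ[ℤ] A := ψ.toIntAlgHom
  refine ⟨ψa.range, ?_, ?_, ?_⟩
  · intro r hr
    exact ⟨algebraMap R₀ _ ⟨r, hr⟩, hψ ⟨r, hr⟩⟩
  · obtain ⟨s, hs⟩ := h
    obtain ⟨t, ht⟩ := hB.1
    classical
    refine ⟨s ∪ t.image ψ, le_antisymm ?_ ?_⟩
    · rw [Algebra.adjoin_le_iff]
      intro x hx
      rw [Finset.coe_union, Finset.coe_image] at hx
      rcases hx with hx | ⟨y, -, rfl⟩
      · have hx' : x ∈ R₀ := by rw [← hs]; exact Algebra.subset_adjoin hx
        exact ⟨algebraMap R₀ _ ⟨x, hx'⟩, hψ ⟨x, hx'⟩⟩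
      · exact ⟨y, rfl⟩
    · rintro _ ⟨b, rfl⟩
      have hb : b ∈ Submodule.span R₀ (t : Set B) := by rw [ht]; trivial
      change ψ b ∈ _
      have hR : ∀ r : R₀, (r : A) ∈ Algebra.adjoin ℤ ((s ∪ t.image ψ : Finset A) : Set A) := by
        intro r
        have h1 : (r : A) ∈ Algebra.adjoin ℤ (s : Set A) := by rw [hs]; exact r.2
        refine Algebra.adjoin_mono ?_ h1
        rw [Finset.coe_union]
        exact Set.subset_union_left
      induction hb using Submodule.span_induction with
      | mem x hx =>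
        apply Algebra.subset_adjoin
        rw [Finset.coe_union, Finset.coe_image]
        exact Or.inr ⟨x, hx, rfl⟩
      | zero => rw [map_zero]; exact zero_mem _
      | add x y _ _ hx hy => rw [map_add]; exact add_mem hx hy
      | smul r x _ hx =>
        rw [Algebra.smul_def, map_mul, hψ]
        exact mul_mem (hR r) hx
  · exact IsIntegrallyClosed.of_equiv (AlgEquiv.ofInjective ψa hψi).toRingEquiv

/-- Finitely generated subrings are contained in normal finitely generated subrings. -/
theorem exists_normal (R₀ : Subalgebra ℤ A) (h : R₀.FG) :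
    ∃ N : Subalgebra ℤ A, R₀ ≤ N ∧ N.FG ∧ IsIntegrallyClosed N := by
  let K₀ := FractionRing R₀
  let K := FractionRing A
  have hinj : Function.Injective ((algebraMap A K).comp R₀.val.toRingHom) :=
    (IsFractionRing.injective A K).comp Subtype.val_injective
  let ι : K₀ →+* K := IsFractionRing.lift hinj
  have hι : ∀ r : R₀, ι (algebraMap R₀ K₀ r) = algebraMap A K r := fun r => IsFractionRing.lift_algebraMap hinj r
  have hnag := isNagata_of_fg R₀ h
  have hfin : Module.Finite R₀ (integralClosure R₀ K₀) := by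
    have : Algebra.EssFiniteType R₀ K₀ := Algebra.EssFiniteType.of_isLocalization K₀ (nonZeroDivisors R₀)
    exact Groth.Agent.Ega4B.NagIntClos.finite_of_isDomain hnag
  have hic : IsIntegrallyClosed (integralClosure R₀ K₀) :=
    integralClosure.isIntegrallyClosedOfFiniteExtension K₀
  have hex : ∀ z : integralClosure R₀ K₀, ∃ a : A, algebraMap A K a = ι z := by
    intro z
    have h1 : IsIntegral A (ι z) := by
      obtain ⟨P, hP, hP'⟩ := z.2
      refine ⟨P.map R₀.val.toRingHom, hP.map _, ?_⟩
      rw [Polynomial.eval₂_map]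
      have h2 : (algebraMap A K).comp R₀.val.toRingHom = ι.comp (algebraMap R₀ K₀) := by
        ext r; exact (hι r).symm
      rw [h2, ← Polynomial.hom_eval₂, hP', map_zero]
    exact IsIntegrallyClosed.isIntegral_iff.1 h1
  choose ψ₀ hψ₀ using hex
  have hK : Function.Injective (algebraMap A K) := IsFractionRing.injective A K
  let ψ : integralClosure R₀ K₀ →+* A :=
    { toFun := ψ₀
      map_one' := hK (by rw [hψ₀]; simp)
      map_mul' := fun x y => hK (by rw [hψ₀, map_mul, hψ₀, hψ₀]; simp)
      map_zero' := hK (by rw [hψ₀]; simp)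
      map_add' := fun x y => hK (by rw [hψ₀, map_add, hψ₀, hψ₀]; simp) }
  have hψ : ∀ z, algebraMap A K (ψ z) = ι z := hψ₀
  have hψi : Function.Injective ψ := by
    intro x y hxy
    apply Subtype.ext
    apply ι.injective
    rw [← hψ, ← hψ, hxy]
  exact exists_sub A R₀ h (integralClosure R₀ K₀) hfin inferInstance hic ψ hψi
    fun r => hK ((hψ _).trans (hι r))

/-- The type of normal finitely generated subrings of `A`, ordered by inclusion. -/
abbrev NSub : Type u := {S : Subalgebra ℤ A // S.FG ∧ IsIntegrallyClosed S}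

instance : IsDirectedOrder (NSub A) where
  directed a b := by
    obtain ⟨N, h1, h2, h3⟩ := exists_normal A (a.1 ⊔ b.1) (a.2.1.sup b.2.1)
    exact ⟨⟨N, h2, h3⟩, le_sup_left.trans h1, le_sup_right.trans h1⟩

instance : Nonempty (NSub A) := by
  obtain ⟨N, -, h2, h3⟩ := exists_normal A ⊥ Subalgebra.fg_bot
  exact ⟨⟨N, h2, h3⟩⟩

/-- The diagram of normal finitely generated subrings. -/
def ringDiagram : NSub A ⥤ CommRingCat.{u} where
  obj S := CommRingCat.of S.1
  map {S T} h := CommRingCat.ofHom (Subalgebra.inclusion (leOfHom h)).toRingHom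
  map_id S := by ext x; rfl
  map_comp f g := by ext x; rfl

/-- The cocone with vertex `A`. -/
def ringCocone : Cocone (ringDiagram A) where
  pt := CommRingCat.of A
  ι := { app := fun S => CommRingCat.ofHom S.1.val.toRingHom
         naturality := fun S T h => by ext x; rfl }

/-- `A` is the filtered colimit of its normal finitely generated subrings. -/
noncomputable def isColimitRingCocone : IsColimit (ringCocone A) := by
  haveI : ReflectsColimit (ringDiagram A) (forget CommRingCat.{u}) :=
    reflectsColimit_of_reflectsIsomorphisms (ringDiagram A) (forget CommRingCat.{u})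
  refine isColimitOfReflects (forget CommRingCat.{u}) ?_
  refine Types.FilteredColimit.isColimitOf _ _ ?_ ?_
  · intro x
    obtain ⟨N, h1, h2, h3⟩ := exists_normal A (Algebra.adjoin ℤ {x})
      (Subalgebra.fg_def.2 ⟨{x}, Set.finite_singleton x, rfl⟩)
    exact ⟨⟨N, h2, h3⟩, ⟨x, h1 (Algebra.subset_adjoin rfl)⟩, rfl⟩
  · intro i j xi xj h
    obtain ⟨k, hik, hjk⟩ := exists_ge_ge i j
    refine ⟨k, homOfLE hik, homOfLE hjk, ?_⟩
    exact Subtype.ext h

/-- The diagram of spectra of the normal finitely generated subrings of `A`. -/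
noncomputable def specDiagram : (NSub A)ᵒᵖ ⥤ Scheme.{u} := (ringDiagram A).op ⋙ Scheme.Spec

/-- The cone with vertex `Spec A`. -/
noncomputable def specCone : Cone (specDiagram A) := Scheme.Spec.mapCone (ringCocone A).op

/-- `Spec A` is the limit of the spectra of the normal finitely generated subrings. -/
noncomputable def isLimitSpecCone : IsLimit (specCone A) :=
  isLimitOfPreserves Scheme.Spec (isColimitRingCocone A).op

theorem specCone_pt : (specCone A).pt = Spec (CommRingCat.of A) := rfl

instance (i : (NSub A)ᵒᵖ) : IsNoetherianRing i.unop.1 := by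
  have := (Subalgebra.fg_iff_finiteType _).1 i.unop.2.1
  exact Algebra.FiniteType.isNoetherianRing ℤ _

instance (i : (NSub A)ᵒᵖ) : IsIntegrallyClosed i.unop.1 := i.unop.2.2

instance (i : (NSub A)ᵒᵖ) : IsAffine ((specDiagram A).obj i) :=
  inferInstanceAs (IsAffine (Spec (CommRingCat.of i.unop.1)))

instance {i j : (NSub A)ᵒᵖ} (f : i ⟶ j) : IsAffineHom ((specDiagram A).map f) := inferInstance

instance (i : (NSub A)ᵒᵖ) : IsNoetherian ((specDiagram A).obj i) :=
  inferInstanceAs (IsNoetherian (Spec (CommRingCat.of i.unop.1)))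

end

end K851.BA
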