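import Groth.Agent.Flat2D.TripleModel
import Groth.Agent.ConsPropPair.K286.Desc
import Groth.Agent.ModPair.K973.EtaleDesc
import Groth.Agent.Sga3.H515.LimSmooth
import Groth.Agent.S1591
import Groth.Agent.S1592
import Groth.Agent.S2155
import Groth.Agent.Sga7.H734.NodalBC

/-!
# Descent of nodal families along limits; properties of models
-/

set_option autoImplicit false
set_option linter.unusedSectionVars false
set_option linter.dupNamespace false
set_option backward.isDefEq.respectTransparency false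
set_option backward.defeqAttrib.useBackward true
universe u

open CategoryTheory CategoryTheory.Limits AlgebraicGeometry TopologicalSpace

namespace K851.BB

open Groth.Agent.CalgA.LimFP Groth.Agent.Ega43.LimitDescend

/-- Nodal families, as a morphism property. -/
def nodal : MorphismProperty Scheme.{u} := fun _ _ f => Curv2.IsNodalFamily f

instance : nodal.{u}.IsStableUnderBaseChange :=
  ⟨fun {_ _ _ _ _ _ _ _} h hf => Groth.Agent.Sga7.H734.NodalBC.isNodalFamily_of_isPullback h hf⟩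

instance : nodal.{u}.RespectsIso := MorphismProperty.IsStableUnderBaseChange.respectsIso

instance isIso_top {X : Scheme.{u}} : IsIso (⊤ : X.Opens).ι :=
  inferInstanceAs (IsIso (Scheme.topIso X).hom)

theorem nodal_of_top {X S : Scheme.{u}} (f : X ⟶ S) (U : X.Opens) (hU : U = ⊤)
    (h : Curv2.IsNodalFamily (U.ι ≫ f)) : Curv2.IsNodalFamily f := by
  subst hU
  exact (MorphismProperty.cancel_left_of_respectsIso nodal (⊤ : X.Opens).ι f).1 h

theorem descendsLim_nodal : DescendsLim nodal.{u} := by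
  intro J _ _ E c hc _ _ _ B X₀ t ht f₀ _ _ _ p hp X q f hX hf
  obtain ⟨j₁, h₁⟩ := Groth.Agent.Sga3.H515.LimSmooth.descendsLim_flat E c hc t ht f₀ p hp q f hX hf.1
  have h₁' : Flat (pullback.snd f₀ (t j₁)) := h₁
  obtain ⟨U, -, hU3⟩ := Groth.Agent.S1591.result (pullback.snd f₀ (t j₁))
  have H1 := isPullback_pbCone t ht f₀ c p hp q f hX j₁
  have h2 : Curv2.IsNodalFamily (pullback.snd (pullback.snd f₀ (t j₁)) (c.π.app j₁)) := by
    have := (MorphismProperty.cancel_left_of_respectsIso nodal H1.isoPullback.inv f).2 hf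
    rwa [H1.isoPullback_inv_snd] at this
  have h3 := (hU3 c.pt (c.π.app j₁)).2 ⊤
    ((MorphismProperty.cancel_left_of_respectsIso nodal (⊤ : Scheme.Opens _).ι _).2 h2)
  have h4 : (pbCone t ht f₀ c p hp q f hX).π.app j₁ ⁻¹ᵁ U = ⊤ := by
    rw [eq_top_iff]
    intro x _
    have h5 : H1.isoPullback.hom x ∈ pullback.fst (pullback.snd f₀ (t j₁)) (c.π.app j₁) ⁻¹ᵁ U :=
      h3 trivial
    change pullback.fst (pullback.snd f₀ (t j₁)) (c.π.app j₁) (H1.isoPullback.hom x) ∈ U at h5
    rw [← Scheme.Hom.comp_apply, H1.isoPullback_hom_fst] at h5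
    exact h5
  obtain ⟨j, a, hj⟩ := exists_map_eq_top (pbDiagram t ht f₀) _
    (isLimitPbCone t ht f₀ c p hp q f hX hc) U h4
  refine ⟨j, ?_⟩
  have H2 := isPullback_pbSnd t ht f₀ a
  have h6 := (hU3 (E.obj j) (E.map a)).1
  have h7 : pullback.fst (pullback.snd f₀ (t j₁)) (E.map a) ⁻¹ᵁ U = ⊤ := by
    rw [eq_top_iff]
    intro x _
    change pullback.fst (pullback.snd f₀ (t j₁)) (E.map a) x ∈ U
    rw [← H2.isoPullback_inv_fst, Scheme.Hom.comp_apply]
    have h8 : H2.isoPullback.inv x ∈ (pbDiagram t ht f₀).map a ⁻¹ᵁ U := by rw [hj]; trivial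
    exact h8
  have h8 := nodal_of_top _ _ h7 h6
  have := (MorphismProperty.cancel_left_of_respectsIso nodal H2.isoPullback.hom _).2 h8
  rwa [H2.isoPullback_hom_snd] at this

variable {I : Type u} [SmallCategory I] {D : I ⥤ Scheme.{u}} {c : Cone D}
  [IsCofiltered I] [∀ (i j : I) (f : i ⟶ j), IsAffineHom (D.map f)] (hc : IsLimit c)
  [∀ i, CompactSpace (D.obj i)] [∀ i, QuasiSeparatedSpace (D.obj i)]

attribute [local instance] Mdl.lfp Mdl.qc Mdl.qs

include hc in
theorem exists_prop {P : MorphismProperty Scheme.{u}} (hP : DescendsLim P)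
    {X : Scheme.{u}} {f' : X ⟶ c.pt} {i : I} (M : Mdl f' i) (hf : P f') :
    ∃ (j : I) (a : j ⟶ i), P (M.bc a).f := by
  obtain ⟨j, hj⟩ := hP (Over.forget i ⋙ D) (overCone c i) (isLimitOverCone c hc i)
    (fun j ↦ D.map j.hom) (fun φ ↦ overT_w D i φ) M.f (c.π.app i) (fun j ↦ by simp) M.p f' M.h hf
  exact ⟨j.left, j.hom, hj⟩

theorem prop_bc {P : MorphismProperty Scheme.{u}} [P.IsStableUnderBaseChange]
    {X : Scheme.{u}} {f' : X ⟶ c.pt} {i : I} (M : Mdl f' i) {j : I} (a : j ⟶ i) (h : P M.f) :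
    P (M.bc a).f :=
  P.of_isPullback (IsPullback.of_hasPullback M.f (D.map a)) h

include hc in
theorem hom_exists_prop {P : MorphismProperty Scheme.{u}} [P.RespectsIso] (hP : DescendsLim P)
    {X Y : Scheme.{u}} {φ : X ⟶ Y} {f' : X ⟶ c.pt} {g' : Y ⟶ c.pt} {i : I} {M : Mdl f' i} {N : Mdl g' i}
    (v : Mdl.Hom φ M N) (hφ : P φ) : ∃ (j : I) (a : j ⟶ i), P (v.bc a).φ := by
  have hl : LocallyOfFinitePresentation v.φ := by
    have h1 : LocallyOfFinitePresentation (v.φ ≫ N.f) := by rw [v.w]; infer_instance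
    exact Groth.Agent.Ega43.FPOfComp.locallyOfFinitePresentation_of_comp v.φ N.f
  have hqc : QuasiCompact v.φ := by
    have h1 : QuasiCompact (v.φ ≫ N.f) := by rw [v.w]; infer_instance
    exact QuasiCompact.of_comp v.φ N.f
  have hqs : QuasiSeparated v.φ := by
    have h1 : QuasiSeparated (v.φ ≫ N.f) := by rw [v.w]; infer_instance
    exact QuasiSeparated.of_comp v.φ N.f
  have h2 : ∀ {j k : Over i} (a : j ⟶ k), IsAffineHom ((bcDiagram D N.f).map a) :=
    fun a => isAffineHom_bcDiagram_map a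
  have h3 : ∀ j : Over i, CompactSpace ((bcDiagram D N.f).obj j) :=
    fun j => compactSpace_bcDiagram_obj j
  have h4 : ∀ j : Over i, QuasiSeparatedSpace ((bcDiagram D N.f).obj j) :=
    fun j => quasiSeparatedSpace_bcDiagram_obj j
  obtain ⟨j, hj⟩ := hP (bcDiagram D N.f) (bcCone N.h) (isLimitBcCone hc N.h)
    (fun j => pullback.fst N.f (D.map j.hom)) (fun a => by simp) v.φ N.p (fun j => by simp) M.p φ
    v.isPullback hφ
  refine ⟨j.left, j.hom, ?_⟩
  have H := v.isPullback_bc j.hom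
  have h5 := (MorphismProperty.cancel_left_of_respectsIso P H.isoPullback.hom _).2 hj
  rwa [H.isoPullback_hom_snd] at h5

theorem hom_prop_bc {P : MorphismProperty Scheme.{u}} [P.IsStableUnderBaseChange]
    {X Y : Scheme.{u}} {φ : X ⟶ Y} {f' : X ⟶ c.pt} {g' : Y ⟶ c.pt} {i : I} {M : Mdl f' i} {N : Mdl g' i}
    (v : Mdl.Hom φ M N) {j : I} (a : j ⟶ i) (h : P v.φ) : P (v.bc a).φ :=
  P.of_isPullback (v.isPullback_bc a) h

end K851.BB
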