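import Groth.Agent.SSMod.K851.Sit
import Groth.Agent.Lefpen.H711.PencilOpen
import Groth.Agent.S4440
import Groth.Agent.Lefpen.H717.ProjIrr
import Groth.Agent.VarietyA.SmoothReg

/-!
# The projective line
-/

set_option autoImplicit false
set_option linter.unusedSectionVars false
set_option linter.dupNamespace false
universe u

open CategoryTheory CategoryTheory.Limits AlgebraicGeometry TopologicalSpace IsLocalRing

namespace K851.PP

open K851.Sit K851.Dat Groth.Agent.Lefpen.H711.PencilOpen

variable {k : Type u} [Field k] [IsAlgClosed k]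

theorem toSpec_smooth : Smooth (CohB1.ProjSpace.toSpec 1 k) := by
  have : SmoothOfRelativeDimension 1 (CohB1.ProjSpace.toSpec 1 k) :=
    Groth.Agent.Sga5.ProjSmooth.smooth_toSpec 1 k
  exact SmoothOfRelativeDimension.smooth 1 _

/-- The inclusion of a principal open of the line in the projective line. -/
theorem exists_embed (p : Polynomial k) (hp : p ≠ 0) (hdeg : p.natDegree ≤ 1) :
    ∃ i : Spec (CommRingCat.of (Localization.Away p)) ⟶ CohB1.ProjSpace 1 k, IsOpenImmersion i ∧
      i ≫ CohB1.ProjSpace.toSpec 1 k = Spec.map (CommRingCat.ofHom (kP p)) ∧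
      (Set.range i)ᶜ.encard ≤ 2 := by
  have hdomP : IsDomain (Localization.Away p) := isDomain_away hp
  let E : MvPolynomial (Fin 1) k ≃ₐ[k] Polynomial k := MvPolynomial.uniqueAlgEquiv k (Fin 1)
  have hEC : ∀ a, E (MvPolynomial.C a) = Polynomial.C a := fun a => E.commutes a
  have hEX : E (MvPolynomial.X 0) = Polynomial.X := by
    simp [E, MvPolynomial.uniqueAlgEquiv]
  let φ : CommRingCat.of (MvPolynomial (Fin 1) k) ⟶ CommRingCat.of (Polynomial k) :=
    CommRingCat.ofHom E.toRingEquiv.toRingHom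
  have hφ : IsIso φ := (ConcreteCategory.isIso_iff_bijective _).2 E.bijective
  let ℓ : Spec (CommRingCat.of (Localization.Away p)) ⟶ Spec (CommRingCat.of (Polynomial k)) :=
    Spec.map (CommRingCat.ofHom (algebraMap (Polynomial k) (Localization.Away p)))
  have hℓ : IsOpenImmersion ℓ := IsOpenImmersion.of_isLocalization p
  let i := ℓ ≫ Spec.map φ ≫ Groth.Agent.Sga5.ProjSmooth.chart 1 k 0
  have hio : IsOpenImmersion i := inferInstanceAs
    (IsOpenImmersion (ℓ ≫ Spec.map φ ≫ Groth.Agent.Sga5.ProjSmooth.chart 1 k 0))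
  refine ⟨i, hio, ?_, ?_⟩
  · simp only [i, ℓ, Category.assoc]
    rw [Groth.Agent.Sga5.ProjSmooth.chart_toSpec, ← Spec.map_comp, ← Spec.map_comp]
    congr 1
    apply CommRingCat.hom_ext
    ext a
    change algebraMap (Polynomial k) (Localization.Away p) (E (MvPolynomial.C a)) = _
    rw [hEC]
    rfl
  · have hsub : (Set.range i)ᶜ ⊆ {P 1 (0 : k)} ∪ (fun c : k => P 0 c) '' {c | p.eval c = 0} := by
      intro x hx
      rcases point_cases x with h | h | ⟨c, h⟩
      · exfalso
        apply hx
        have hne : Nonempty (Spec (CommRingCat.of (Localization.Away p))) :=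
          inferInstanceAs (Nonempty (PrimeSpectrum (Localization.Away p)))
        obtain ⟨z⟩ := hne
        have h1 : Groth.Agent.Sga5.ProjConn.genPt 1 k ⤳ i z :=
          Groth.Agent.Sga4h.BidGeoP1.genPt_specializes k 1 _
        rw [h]
        exact h1.mem_open i.opensRange.2 ⟨z, rfl⟩
      · exact Or.inl h
      · right
        refine ⟨c, ?_, h.symm⟩
        by_contra hc
        change ¬ p.eval c = 0 at hc
        apply hx
        rw [h, chart_point]
        let ψ : Localization.Away p →+* k := IsLocalization.Away.lift p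
          (g := Polynomial.evalRingHom c) (IsUnit.mk0 _ hc)
        refine ⟨Spec.map (CommRingCat.ofHom ψ) default, ?_⟩
        have h1 : Spec.map (CommRingCat.ofHom ψ) ≫ ℓ ≫ Spec.map φ =
            Spec.map (CommRingCat.ofHom (MvPolynomial.eval (fun _ : Fin 1 => c))) := by
          rw [← Spec.map_comp, ← Spec.map_comp]
          congr 1
          apply CommRingCat.hom_ext
          apply MvPolynomial.ringHom_ext
          · intro a
            change ψ (algebraMap _ _ (E (MvPolynomial.C a))) = _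
            rw [hEC]
            refine (IsLocalization.Away.lift_eq p _ _).trans ?_
            simp
          · intro j
            change ψ (algebraMap _ _ (E (MvPolynomial.X j))) = _
            have hj : j = 0 := Subsingleton.elim _ _
            rw [hj, hEX]
            refine (IsLocalization.Away.lift_eq p _ _).trans ?_
            simp
        rw [← h1]
        simp only [i, Scheme.Hom.comp_apply]
    have hroots : {c : k | p.eval c = 0}.encard ≤ 1 := by
      classical
      have h1 : {c : k | p.eval c = 0} = ↑(p.roots.toFinset) := by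
        ext c
        simp [hp, Polynomial.IsRoot]
      rw [h1, Set.encard_coe_eq_coe_finsetCard]
      have h2 : p.roots.toFinset.card ≤ 1 :=
        (Multiset.toFinset_card_le _).trans ((Polynomial.card_roots' p).trans hdeg)
      exact_mod_cast h2
    refine (Set.encard_le_encard hsub).trans ((Set.encard_union_le _ _).trans ?_)
    have h1 : ((fun c : k => P 0 c) '' {c | p.eval c = 0}).encard ≤ 1 :=
      (Set.encard_image_le _ _).trans hroots
    rw [Set.encard_singleton]
    calc (1 : ℕ∞) + ((fun c : k => P 0 c) '' {c | p.eval c = 0}).encard ≤ 1 + 1 := by gcongr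
      _ = 2 := by norm_num

instance isIntegral_P1 : IsIntegral (CohB1.ProjSpace 1 k) :=
  Groth.Agent.Lefpen.H717.ProjIrr.isIntegral_projSpace 1 k

theorem eq_generic_or_closed (y : CohB1.ProjSpace 1 k) :
    y = genericPoint (CohB1.ProjSpace 1 k) ∨ IsClosed ({y} : Set (CohB1.ProjSpace 1 k)) := by
  rcases Groth.Agent.Sga4h.BidGeoP1.eq_genPt_or_isClosed k y with h | h
  · left
    rw [h]
    have h1 : Groth.Agent.Sga5.ProjConn.genPt 1 k ⤳ genericPoint (CohB1.ProjSpace 1 k) :=
      Groth.Agent.Sga4h.BidGeoP1.genPt_specializes k 1 _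
    exact (h1.antisymm (genericPoint_specializes _)).eq
  · exact Or.inr h

theorem isRegular (y : CohB1.ProjSpace 1 k) :
    IsRegularLocalRing ((CohB1.ProjSpace 1 k).presheaf.stalk y) := by
  have := toSpec_smooth (k := k)
  rw [← Groth.Agent.VarietyA.SmoothReg.mem_smoothLocus_iff_of_perfectField (CohB1.ProjSpace.toSpec 1 k),
    Scheme.Hom.smoothLocus_eq_top]
  trivial

theorem krullDimLE (y : CohB1.ProjSpace 1 k) :
    Ring.KrullDimLE 1 ((CohB1.ProjSpace 1 k).presheaf.stalk y) := by
  obtain ⟨h1, h2⟩ := Groth.Agent.Lefpen.H723.P1Flat.stalk_pid k y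
  infer_instance

theorem isDVR (y : CohB1.ProjSpace 1 k) (hy : IsClosed ({y} : Set (CohB1.ProjSpace 1 k))) :
    IsDiscreteValuationRing ((CohB1.ProjSpace 1 k).presheaf.stalk y) := by
  have h1 := isRegular y
  have h2 := krullDimLE y
  refine K851.Curve.dvr_of_regular _ fun h => ?_
  have h3 := K851.Curve.eq_genericPoint_of_isField y h
  have h4 : IsClosed ({Groth.Agent.Sga5.ProjConn.genPt 1 k} : Set (CohB1.ProjSpace 1 k)) := by
    have h5 : Groth.Agent.Sga5.ProjConn.genPt 1 k = y := by
      rw [h3]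
      have h1 : Groth.Agent.Sga5.ProjConn.genPt 1 k ⤳ genericPoint (CohB1.ProjSpace 1 k) :=
        Groth.Agent.Sga4h.BidGeoP1.genPt_specializes k 1 _
      exact (h1.antisymm (genericPoint_specializes _)).eq
    rw [h5]; exact hy
  have h5 : P 0 (0 : k) ∈ ({Groth.Agent.Sga5.ProjConn.genPt 1 k} : Set (CohB1.ProjSpace 1 k)) :=
    (Groth.Agent.Sga4h.BidGeoP1.genPt_specializes k 1 (P 0 (0 : k))).mem_closed h4 rfl
  exact genPt_ne_P 0 (0 : k) (Set.mem_singleton_iff.1 h5).symm

/-- Extension of maps from a principal open of the line to a scheme proper over an affine scheme. -/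
theorem exists_extend {C Y : Scheme.{u}} [IsLocallyNoetherian C] (g : Y ⟶ C) [IsProper g]
    (c₀ : Spec (CommRingCat.of k) ⟶ C) {B : Scheme.{u}} [Nonempty B] (i : B ⟶ CohB1.ProjSpace 1 k)
    [IsOpenImmersion i] (m : B ⟶ Y) (hm : m ≫ g = i ≫ CohB1.ProjSpace.toSpec 1 k ≫ c₀) :
    ∃ e : CohB1.ProjSpace 1 k ⟶ Y, i ≫ e = m ∧ e ≫ g = CohB1.ProjSpace.toSpec 1 k ≫ c₀ := by
  have hsm := toSpec_smooth (k := k)
  have hN : IsLocallyNoetherian (CohB1.ProjSpace 1 k) :=
    LocallyOfFiniteType.isLocallyNoetherian (CohB1.ProjSpace.toSpec 1 k)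
  let V : (CohB1.ProjSpace 1 k).Opens := i.opensRange
  have hV : Dense (V : Set (CohB1.ProjSpace 1 k)) := by
    refine V.2.dense ?_
    obtain ⟨b⟩ := ‹Nonempty B›
    exact ⟨i b, b, rfl⟩
  let gV : (V : Scheme.{u}) ⟶ Y := i.isoOpensRange.inv ≫ m
  have hgV : gV ≫ g = V.ι ≫ CohB1.ProjSpace.toSpec 1 k ≫ c₀ := by
    simp only [gV, Category.assoc, hm]
    rw [Iso.inv_comp_eq, Scheme.Hom.isoOpensRange_hom_ι_assoc]
  obtain ⟨U, hVU, e', he1, he2, hU⟩ := Groth.Agent.S4440.result g (CohB1.ProjSpace.toSpec 1 k ≫ c₀)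
    (fun y _ => isRegular y) V hV gV hgV
  have hUtop : U = ⊤ := by
    refine top_unique fun y _ => hU y ?_
    exact (Ring.krullDimLE_iff (n := 1)).mp (krullDimLE y)
  subst hUtop
  refine ⟨(Scheme.topIso (CohB1.ProjSpace 1 k)).inv ≫ e', ?_, ?_⟩
  · have h1 : i ≫ (Scheme.topIso (CohB1.ProjSpace 1 k)).inv =
        i.isoOpensRange.hom ≫ (CohB1.ProjSpace 1 k).homOfLE hVU := by
      rw [← cancel_mono (⊤ : (CohB1.ProjSpace 1 k).Opens).ι, Category.assoc, Category.assoc,
        Scheme.homOfLE_ι, Scheme.Hom.isoOpensRange_hom_ι]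
      have : (Scheme.topIso (CohB1.ProjSpace 1 k)).inv ≫ (⊤ : (CohB1.ProjSpace 1 k).Opens).ι = 𝟙 _ := by
        rw [← Scheme.topIso_hom, Iso.inv_hom_id]
      rw [this, Category.comp_id]
    rw [← Category.assoc, h1, Category.assoc, he2]
    simp only [gV]
    rw [Iso.hom_inv_id_assoc]
  · rw [Category.assoc, he1, ← Scheme.topIso_hom, Iso.inv_hom_id_assoc]

end K851.PP
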