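import Groth.Agent.SSMod.K851.FB
import Groth.Agent.SSMod.K851.PP
import Groth.Agent.VarietyB.ProjSpaceProper
import Groth.Prelude.Def_SSMod

/-!
# The contradiction: no rational curve
-/

set_option autoImplicit false
set_option linter.unusedSectionVars false
set_option linter.dupNamespace false
universe u

open CategoryTheory CategoryTheory.Limits AlgebraicGeometry TopologicalSpace IsLocalRing

namespace K851.PQ

open K851.Fib K851.LemN K851.Et K851.Sep K851.Pt K851.Tor K851.Dat K851.NS K851.Line K851.Mark K851.Chart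
  K851.DDef K851.Ext K851.Tx K851.Sel K851.TA K851.TB K851.TC K851.Sit K851.FA K851.FB K851.PP

/-- Smoothness is stable under base change, pointwise. -/
theorem smooth_baseChange {X S X' S' : Scheme.{u}} {a : X' ⟶ X} {q' : X' ⟶ S'} {q : X ⟶ S} {b : S' ⟶ S}
    (H : IsPullback a q' q b) [LocallyOfFinitePresentation q] [LocallyOfFinitePresentation q'] (x : X')
    (hx : a x ∈ q.smoothLocus) : x ∈ q'.smoothLocus := by
  have h1 := smooth_smoothLocus q
  have h2 : IsPullback (a ∣_ q.smoothLocus) ((a ⁻¹ᵁ q.smoothLocus).ι ≫ q') (q.smoothLocus.ι ≫ q) b :=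
    (isPullback_morphismRestrict a q.smoothLocus).paste_vert H
  have h3 : Smooth ((a ⁻¹ᵁ q.smoothLocus).ι ≫ q') := MorphismProperty.of_isPullback (P := @Smooth) h2 h1
  obtain ⟨v, hv⟩ : ∃ v, (a ⁻¹ᵁ q.smoothLocus).ι v = x := by
    have : x ∈ Set.range (a ⁻¹ᵁ q.smoothLocus).ι := by rw [Scheme.Opens.range_ι]; exact hx
    exact this
  rw [← hv]
  exact mem_smoothLocus_of q' _ v

/-- Maximal points of the fibres of a nodal family specialize. -/
theorem exists_specializes {Z S : Scheme.{u}} (q : Z ⟶ S) (hq : Curv2.IsNodalFamily q) (η : Z)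
    (hη : ∀ t, t ⤳ η → q t = q η → t = η) : ∃ y, η ⤳ y ∧ y ≠ η ∧ q y = q η := by
  have h1 := (hq.2.2 (q η)).1
  rw [Groth.Agent.CurvesB.DimOneTop.forall_irreducibleComponents_iff] at h1
  have hq' : ∀ z, q (q.fiberι (q η) z) = q η := by
    intro z
    have : q.fiberι (q η) z ∈ Set.range (q.fiberι (q η)) := ⟨z, rfl⟩
    rw [Scheme.Hom.range_fiberι] at this
    exact this
  have hinj : Function.Injective (q.fiberι (q η)) := (q.fiberι (q η)).isEmbedding.injective
  obtain ⟨⟨x, hx1, hx2⟩, -⟩ := h1 (q.asFiber η) (by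
    intro y hy
    apply hinj
    rw [Scheme.Hom.fiberι_asFiber]
    apply hη
    · have := hy.map (q.fiberι (q η)).continuous
      rwa [Scheme.Hom.fiberι_asFiber] at this
    · exact hq' y)
  refine ⟨q.fiberι (q η) x, ?_, ?_, hq' x⟩
  · have := hx1.map (q.fiberι (q η)).continuous
    rwa [Scheme.Hom.fiberι_asFiber] at this
  · intro h
    apply hx2
    apply hinj
    rw [h, Scheme.Hom.fiberι_asFiber]

/-- Injectivity over an open over which the morphism is an isomorphism. -/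
theorem inj_of_isIso {X C : Scheme.{u}} (f : X ⟶ C) (O : C.Opens) [IsIso (f ∣_ O)] (x y : X)
    (hx : f x ∈ O) (h : f x = f y) : x = y := by
  have hy : f y ∈ O := h ▸ hx
  obtain ⟨x', hx'⟩ : ∃ v, (f ⁻¹ᵁ O).ι v = x := by
    have : x ∈ Set.range (f ⁻¹ᵁ O).ι := by rw [Scheme.Opens.range_ι]; exact hx
    exact this
  obtain ⟨y', hy'⟩ : ∃ v, (f ⁻¹ᵁ O).ι v = y := by
    have : y ∈ Set.range (f ⁻¹ᵁ O).ι := by rw [Scheme.Opens.range_ι]; exact hy
    exact this
  have h1 : (f ∣_ O) x' = (f ∣_ O) y' := by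
    apply O.ι.isOpenEmbedding.injective
    rw [← Scheme.Hom.comp_apply, ← Scheme.Hom.comp_apply, morphismRestrict_ι, Scheme.Hom.comp_apply,
      Scheme.Hom.comp_apply, hx', hy', h]
  have h2 : Function.Injective (f ∣_ O) := (f ∣_ O).homeomorph.injective
  rw [← hx', ← hy', h2 h1]

variable {R : Type u} [CommRing R] [IsDomain R] [IsDiscreteValuationRing R]

theorem mem_O (𝔇 : DD R) (y : 𝔇.C) (hy : 𝔇.c y ≠ cp (CommRingCat.of R)) : y ∈ 𝔇.c ⁻¹ᵁ Dπ 𝔇.π := by
  rw [mem_iff]
  intro hcon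
  apply hy
  by_contra hne
  have h10 := eq_bot_of_ne (V := CommRingCat.of R) _ hne
  rw [h10] at hcon
  exact 𝔇.hπ.ne_zero hcon

variable [IsAlgClosed (ResidueField R)] {𝔇 : DD R}

theorem bco_fst {C Y S S' : Scheme.{u}} (g : Y ⟶ C) (c : C ⟶ S) (s : S' ⟶ S) :
    CInt.baseChangeOver g c s ≫ pullback.fst c s = pullback.fst (g ≫ c) s ≫ g := pullback.lift_fst _ _ _

theorem bco_snd {C Y S S' : Scheme.{u}} (g : Y ⟶ C) (c : C ⟶ S) (s : S' ⟶ S) :
    CInt.baseChangeOver g c s ≫ pullback.snd c s = pullback.snd (g ≫ c) s :=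
  (pullback.lift_snd _ _ _).trans (Category.comp_id _)

theorem bco_isPullback {C Y S S' : Scheme.{u}} (g : Y ⟶ C) (c : C ⟶ S) (s : S' ⟶ S) :
    IsPullback (pullback.fst (g ≫ c) s) (CInt.baseChangeOver g c s) g (pullback.fst c s) := by
  refine IsPullback.of_bot (v₂₁ := pullback.snd c s) (v₂₂ := c) (h₃₁ := s) ?_ (bco_fst g c s).symm
    (IsPullback.of_hasPullback c s)
  rw [bco_snd]
  exact IsPullback.of_hasPullback (g ≫ c) s

/-- The embedding of the line and its extension. -/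
theorem exists_e (S : Sit 𝔇) : ∃ (i : Spec (CommRingCat.of (Localization.Away S.p)) ⟶
      CohB1.ProjSpace 1 (ResidueField R)) (_ : IsOpenImmersion i)
      (e : CohB1.ProjSpace 1 (ResidueField R) ⟶ pullback 𝔇.qY (sp R))
      (c₀ : Spec (CommRingCat.of (ResidueField R)) ⟶ pullback 𝔇.c (sp R)),
      i ≫ CohB1.ProjSpace.toSpec 1 (ResidueField R) = Spec.map (CommRingCat.ofHom (kP S.p)) ∧
      (Set.range i)ᶜ.encard ≤ 2 ∧ i ≫ e ≫ pullback.fst 𝔇.qY (sp R) = S.j ≫ S.h ∧
      e ≫ CInt.baseChangeOver 𝔇.g 𝔇.c (sp R) = CohB1.ProjSpace.toSpec 1 (ResidueField R) ≫ c₀ ∧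
      e ≫ pullback.snd 𝔇.qY (sp R) = CohB1.ProjSpace.toSpec 1 (ResidueField R) := by
  have hdomP : IsDomain (Localization.Away S.p) := isDomain_away S.hp
  obtain ⟨i, hi, hi1, hi2⟩ := exists_embed S.p S.hp S.hdeg
  let gk := CInt.baseChangeOver 𝔇.g 𝔇.c (sp R)
  have hpr : IsProper gk := MorphismProperty.of_isPullback (P := @IsProper)
    (bco_isPullback 𝔇.g 𝔇.c (sp R)) inferInstance
  have hNC : IsLocallyNoetherian (pullback 𝔇.c (sp R)) :=
    LocallyOfFiniteType.isLocallyNoetherian (pullback.snd 𝔇.c (sp R))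
  let m : Spec (CommRingCat.of (Localization.Away S.p)) ⟶ pullback 𝔇.qY (sp R) :=
    pullback.lift (S.j ≫ S.h) (Spec.map (CommRingCat.ofHom (kP S.p))) (jh_qY S)
  have hm1 : m ≫ pullback.fst 𝔇.qY (sp R) = S.j ≫ S.h := pullback.lift_fst _ _ _
  have hm2 : m ≫ pullback.snd 𝔇.qY (sp R) = Spec.map (CommRingCat.ofHom (kP S.p)) :=
    pullback.lift_snd _ _ _
  let c₀ : Spec (CommRingCat.of (ResidueField R)) ⟶ pullback 𝔇.c (sp R) :=
    pullback.lift (S.x₀ ≫ 𝔇.f) (𝟙 _) (by
      rw [Category.assoc, Category.id_comp]; exact S.hx₀)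
  have hc1 : c₀ ≫ pullback.fst 𝔇.c (sp R) = S.x₀ ≫ 𝔇.f := pullback.lift_fst _ _ _
  have hc2 : c₀ ≫ pullback.snd 𝔇.c (sp R) = 𝟙 _ := pullback.lift_snd _ _ _
  have hne : Nonempty (Spec (CommRingCat.of (Localization.Away S.p))) :=
    inferInstanceAs (Nonempty (PrimeSpectrum (Localization.Away S.p)))
  have hm : m ≫ gk = i ≫ CohB1.ProjSpace.toSpec 1 (ResidueField R) ≫ c₀ := by
    apply pullback.hom_ext
    · rw [Category.assoc, bco_fst, reassoc_of% hm1, Category.assoc, Category.assoc, hc1, ← Category.assoc i,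
        hi1, S.w, ← Category.assoc, S.js, Category.assoc]
    · rw [Category.assoc, bco_snd, Category.assoc, Category.assoc, hc2, Category.comp_id, hi1]
      exact hm2
  obtain ⟨e, he1, he2⟩ := exists_extend gk c₀ i m hm
  refine ⟨i, hi, e, c₀, hi1, hi2, ?_, he2, ?_⟩
  · rw [reassoc_of% he1, hm1]
  · have h1 : e ≫ pullback.snd 𝔇.qY (sp R) = (e ≫ gk) ≫ pullback.snd 𝔇.c (sp R) := by
      rw [Category.assoc, bco_snd]
    rw [h1, he2, Category.assoc, hc2, Category.comp_id]

theorem smooth_unmarked [IsAdicComplete (maximalIdeal R) R] (S : Sit 𝔇)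
    (m : Spec (CommRingCat.of (Localization.Away S.p)) ⟶ pullback 𝔇.qY (sp R))
    (hm : m ≫ pullback.fst 𝔇.qY (sp R) = S.j ≫ S.h)
    (z : Spec (CommRingCat.of (Localization.Away S.p))) :
    m z ∈ (pullback.snd 𝔇.qY (sp R)).smoothLocus ∧
      pullback.fst 𝔇.qY (sp R) (m z) ∉ Set.range 𝔇.iY := by
  let V : (Spec (CommRingCat.of (Localization.Away S.p))).Opens :=
    m ⁻¹ᵁ ((pullback.snd 𝔇.qY (sp R)).smoothLocus ⊓
      (pullback.fst 𝔇.qY (sp R)) ⁻¹ᵁ ⟨(Set.range 𝔇.iY)ᶜ, 𝔇.iY.isClosedEmbedding.isClosed_range.isOpen_compl⟩)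
  have h := mem_of_closed (kP S.p) (lft_kP S.p) V ?_ z
  · exact h
  intro b t hb
  have h1 : pullback.fst 𝔇.qY (sp R) (m (b t)) = (b ≫ S.j ≫ S.h) t := by
    rw [← hm]
    simp only [Scheme.Hom.comp_apply]
  constructor
  · apply smooth_baseChange (IsPullback.of_hasPullback 𝔇.qY (sp R))
    rw [h1]
    exact claimA S b hb t
  · change pullback.fst 𝔇.qY (sp R) (m (b t)) ∉ Set.range 𝔇.iY
    rw [h1]
    exact claimB S b hb t

theorem gen_facts (S : Sit 𝔇) (i : Spec (CommRingCat.of (Localization.Away S.p)) ⟶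
      CohB1.ProjSpace 1 (ResidueField R)) [IsOpenImmersion i]
      (e : CohB1.ProjSpace 1 (ResidueField R) ⟶ pullback 𝔇.qY (sp R))
      (h : i ≫ e ≫ pullback.fst 𝔇.qY (sp R) = S.j ≫ S.h) :
    ¬ IsClosed ({pullback.fst 𝔇.qY (sp R) (e (genericPoint _))} : Set 𝔇.Y) ∧
    ¬ IsClosed ({e (genericPoint _)} : Set ↥(pullback 𝔇.qY (sp R))) ∧
      Function.Surjective (e.stalkMap (genericPoint _)) ∧
      genericPoint (CohB1.ProjSpace 1 (ResidueField R)) ∈ Set.range i := by
  have hdomP : IsDomain (Localization.Away S.p) := isDomain_away S.hp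
  have hint : IsIntegral (Spec (CommRingCat.of (Localization.Away S.p))) := inferInstance
  let η : Spec (CommRingCat.of (Localization.Away S.p)) := (⊥ : PrimeSpectrum (Localization.Away S.p))
  have hη : i η = genericPoint (CohB1.ProjSpace 1 (ResidueField R)) := by
    have h1 : genericPoint (CohB1.ProjSpace 1 (ResidueField R)) ∈ i.opensRange :=
      (genericPoint_specializes (i η)).mem_open i.opensRange.2 ⟨η, rfl⟩
    obtain ⟨z, hz⟩ := h1
    have h2 : η ⤳ z := (PrimeSpectrum.le_iff_specializes _ _).1 bot_le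
    have h3 := h2.map i.continuous
    rw [hz] at h3
    exact (h3.antisymm (genericPoint_specializes _)).eq
  obtain ⟨h1, h2⟩ := S.gen η rfl
  have h3 : pullback.fst 𝔇.qY (sp R) (e (genericPoint _)) = (S.j ≫ S.h) η := by
    rw [← hη, ← h]
    simp only [Scheme.Hom.comp_apply]
  have h4 : ¬ IsClosed ({pullback.fst 𝔇.qY (sp R) (e (genericPoint _))} : Set 𝔇.Y) := by
    rw [h3]; exact h1
  refine ⟨h4, ?_, ?_, ⟨η, hη⟩⟩
  · intro hcl
    apply h4
    have h5 := (pullback.fst 𝔇.qY (sp R)).isClosedMap _ hcl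
    rwa [Set.image_singleton] at h5
  · rw [← h, Scheme.Hom.stalkMap_comp, Scheme.Hom.stalkMap_comp] at h2
    have h5 : Function.Surjective ((i ≫ e).stalkMap η) := by
      rw [Scheme.Hom.stalkMap_comp]
      intro y
      obtain ⟨x, hx⟩ := h2 y
      exact ⟨_, hx⟩
    have h6 := surj_of_comp i e η h5 (ConcreteCategory.bijective_of_isIso (i.stalkMap η)).1
    rwa [hη] at h6

theorem isProper_toSpec : IsProper (CohB1.ProjSpace.toSpec 1 (ResidueField R)) :=
  Groth.Agent.VarietyB.ProjSpaceProper.isProper_toSpec 1 (ResidueField R)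

/-- Component lemma. -/
theorem range_mem_irreducibleComponents {k : Type u} [Field k] [IsAlgClosed k] {P Y : Scheme.{u}}
    [IsIntegral P] (q : Y ⟶ Spec (CommRingCat.of k)) (hq : Curv2.IsNodalFamily q)
    [LocallyOfFinitePresentation q] (e : P ⟶ Y) (he : IsClosed (Set.range e))
    (hnc : ¬ IsClosed ({e (genericPoint P)} : Set Y)) :
    Set.range e ∈ irreducibleComponents (Y : Type u) := by
  have h1 : closure {e (genericPoint P)} = Set.range e := by
    apply le_antisymm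
    · exact (he.closure_subset_iff).2 (Set.singleton_subset_iff.2 ⟨_, rfl⟩)
    · rintro _ ⟨p, rfl⟩
      exact specializes_iff_mem_closure.1 ((genericPoint_specializes p).map e.continuous)
  rw [← h1, Groth.Agent.CurvesB.DimOneTop.closure_mem_irreducibleComponents_iff]
  exact fun y hy => K851.Comp.eq_of_specializes q hq _ hnc y hy

end K851.PQ
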