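import Groth.Agent.SSMod.K851.BB
import Groth.Agent.SSMod.K851.PQ

/-!
# Models of a pair of marked nodal modifications at a stage of a limit
-/

set_option autoImplicit false
set_option linter.unusedSectionVars false
set_option linter.dupNamespace false
set_option backward.isDefEq.respectTransparency false
set_option backward.defeqAttrib.useBackward true
universe u

open CategoryTheory CategoryTheory.Limits AlgebraicGeometry TopologicalSpace

namespace K851.BC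

open Groth.Agent.CalgA.LimFP Groth.Agent.Ega43.LimitDescend K851.BB

variable {I : Type u} [SmallCategory I] {D : I ⥤ Scheme.{u}} {c : Cone D}
  {C' X' Y' DX' DY' : Scheme.{u}} (c' : C' ⟶ c.pt) (f' : X' ⟶ C') (g' : Y' ⟶ C') (iX' : DX' ⟶ X')
  (iY' : DY' ⟶ Y')

attribute [local instance] Mdl.lfp Mdl.qc Mdl.qs

/-- A model of the whole situation at a stage. -/
structure Tw (i : I) where
  MC : Mdl c' i
  MX : Mdl (f' ≫ c') i
  MY : Mdl (g' ≫ c') i
  MDX : Mdl (iX' ≫ f' ≫ c') i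
  MDY : Mdl (iY' ≫ g' ≫ c') i
  hf : Mdl.Hom f' MX MC
  hg : Mdl.Hom g' MY MC
  hX : Mdl.Hom iX' MDX MX
  hY : Mdl.Hom iY' MDY MY

variable {c' f' g' iX' iY'}

/-- Base change to a later stage. -/
noncomputable def Tw.bc {i : I} (T : Tw c' f' g' iX' iY' i) {j : I} (a : j ⟶ i) : Tw c' f' g' iX' iY' j where
  MC := T.MC.bc a
  MX := T.MX.bc a
  MY := T.MY.bc a
  MDX := T.MDX.bc a
  MDY := T.MDY.bc a
  hf := T.hf.bc a
  hg := T.hg.bc a
  hX := T.hX.bc a
  hY := T.hY.bc a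

/-- A property of models is good if it is stable under passing to later stages, and satisfied at some
later stage. -/
inductive Reach : ∀ {i j : I}, Tw c' f' g' iX' iY' i → Tw c' f' g' iX' iY' j → Prop
  | refl {i : I} (T : Tw c' f' g' iX' iY' i) : Reach T T
  | bc {i j k : I} {T : Tw c' f' g' iX' iY' i} {T' : Tw c' f' g' iX' iY' j} (h : Reach T T') (a : k ⟶ j) :
      Reach T (T'.bc a)

theorem Reach.trans {i j k : I} {T : Tw c' f' g' iX' iY' i} {T' : Tw c' f' g' iX' iY' j}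
    {T'' : Tw c' f' g' iX' iY' k} (h : Reach T T') (h' : Reach T' T'') : Reach T T'' := by
  induction h' with
  | refl => exact h
  | bc _ a ih => exact (ih h).bc a

variable (c' f' g' iX' iY') in
/-- Good properties. -/
structure Good (P : ∀ i, Tw c' f' g' iX' iY' i → Prop) : Prop where
  st : ∀ (i : I) (T : Tw c' f' g' iX' iY' i) (j : I) (a : j ⟶ i), P i T → P j (T.bc a)
  ev : ∀ (i : I) (T : Tw c' f' g' iX' iY' i), ∃ (j : I) (T' : Tw c' f' g' iX' iY' j), Reach T T' ∧ P j T'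

theorem Good.reach {P : ∀ i, Tw c' f' g' iX' iY' i → Prop} (h : Good c' f' g' iX' iY' P) {i j : I}
    {T : Tw c' f' g' iX' iY' i} {T' : Tw c' f' g' iX' iY' j} (hr : Reach T T') (hT : P i T) : P j T' := by
  induction hr with
  | refl => exact hT
  | bc _ a ih => exact h.st _ _ _ a (ih hT)

theorem Good.and {P Q : ∀ i, Tw c' f' g' iX' iY' i → Prop} (hP : Good c' f' g' iX' iY' P)
    (hQ : Good c' f' g' iX' iY' Q) : Good c' f' g' iX' iY' fun i T => P i T ∧ Q i T where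
  st i T j a h := ⟨hP.st i T j a h.1, hQ.st i T j a h.2⟩
  ev i T := by
    obtain ⟨j, T', h1, h2⟩ := hP.ev i T
    obtain ⟨k, T'', h3, h4⟩ := hQ.ev j T'
    exact ⟨k, T'', h1.trans h3, hP.reach h3 h2, h4⟩

variable [IsCofiltered I] [∀ (i j : I) (f : i ⟶ j), IsAffineHom (D.map f)] (hc : IsLimit c)
  [∀ i, CompactSpace (D.obj i)] [∀ i, QuasiSeparatedSpace (D.obj i)]

include hc in
theorem exists_tw [LocallyOfFinitePresentation c'] [QuasiCompact c'] [QuasiSeparated c']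
    [LocallyOfFinitePresentation (f' ≫ c')] [QuasiCompact (f' ≫ c')] [QuasiSeparated (f' ≫ c')]
    [LocallyOfFinitePresentation (g' ≫ c')] [QuasiCompact (g' ≫ c')] [QuasiSeparated (g' ≫ c')]
    [LocallyOfFinitePresentation (iX' ≫ f' ≫ c')] [QuasiCompact (iX' ≫ f' ≫ c')]
    [QuasiSeparated (iX' ≫ f' ≫ c')] [LocallyOfFinitePresentation (iY' ≫ g' ≫ c')]
    [QuasiCompact (iY' ≫ g' ≫ c')] [QuasiSeparated (iY' ≫ g' ≫ c')] :
    ∃ i, Nonempty (Tw c' f' g' iX' iY' i) := by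
  obtain ⟨i1, ⟨M1⟩⟩ := Groth.Agent.Ega3B.LimInv.exists_mdl (D := D) (c := c) hc (f' := c')
  obtain ⟨i2, ⟨M2⟩⟩ := Groth.Agent.Ega3B.LimInv.exists_mdl (D := D) (c := c) hc (f' := f' ≫ c')
  obtain ⟨i3, ⟨M3⟩⟩ := Groth.Agent.Ega3B.LimInv.exists_mdl (D := D) (c := c) hc (f' := g' ≫ c')
  obtain ⟨i4, ⟨M4⟩⟩ := Groth.Agent.Ega3B.LimInv.exists_mdl (D := D) (c := c) hc (f' := iX' ≫ f' ≫ c')
  obtain ⟨i5, ⟨M5⟩⟩ := Groth.Agent.Ega3B.LimInv.exists_mdl (D := D) (c := c) hc (f' := iY' ≫ g' ≫ c')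
  obtain ⟨k1, a1, a2, -⟩ := IsCofilteredOrEmpty.cone_objs i1 i2
  obtain ⟨k2, b1, a3, -⟩ := IsCofilteredOrEmpty.cone_objs k1 i3
  obtain ⟨k3, b2, a4, -⟩ := IsCofilteredOrEmpty.cone_objs k2 i4
  obtain ⟨k4, b3, a5, -⟩ := IsCofilteredOrEmpty.cone_objs k3 i5
  let N1 : Mdl c' k4 := M1.bc (b3 ≫ b2 ≫ b1 ≫ a1)
  let N2 : Mdl (f' ≫ c') k4 := M2.bc (b3 ≫ b2 ≫ b1 ≫ a2)
  let N3 : Mdl (g' ≫ c') k4 := M3.bc (b3 ≫ b2 ≫ a3)
  let N4 : Mdl (iX' ≫ f' ≫ c') k4 := M4.bc (b3 ≫ a4)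
  let N5 : Mdl (iY' ≫ g' ≫ c') k4 := M5.bc a5
  obtain ⟨l1, e1, ⟨u1⟩⟩ := N2.exists_hom hc N1 f' rfl
  obtain ⟨l2, e2, ⟨u2⟩⟩ := (N3.bc e1).exists_hom hc (N1.bc e1) g' rfl
  obtain ⟨l3, e3, ⟨u3⟩⟩ := ((N4.bc e1).bc e2).exists_hom hc ((N2.bc e1).bc e2) iX' rfl
  obtain ⟨l4, e4, ⟨u4⟩⟩ := (((N5.bc e1).bc e2).bc e3).exists_hom hc (((N3.bc e1).bc e2).bc e3) iY' rfl
  exact ⟨l4, ⟨⟨_, _, _, _, _, ((u1.bc e2).bc e3).bc e4, (u2.bc e3).bc e4, u3.bc e4, u4⟩⟩⟩

include hc in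
theorem good_C {P : MorphismProperty Scheme.{u}} [P.IsStableUnderBaseChange] (hP : DescendsLim P) (h : P c') :
    Good c' f' g' iX' iY' fun _ T => P T.MC.f where
  st i T j a h := prop_bc T.MC a h
  ev i T := by
    obtain ⟨j, a, h1⟩ := exists_prop hc hP T.MC h
    exact ⟨j, T.bc a, (Reach.refl T).bc a, h1⟩

include hc in
theorem good_X {P : MorphismProperty Scheme.{u}} [P.IsStableUnderBaseChange] (hP : DescendsLim P)
    (h : P (f' ≫ c')) : Good c' f' g' iX' iY' fun _ T => P T.MX.f where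
  st i T j a h := prop_bc T.MX a h
  ev i T := by
    obtain ⟨j, a, h1⟩ := exists_prop hc hP T.MX h
    exact ⟨j, T.bc a, (Reach.refl T).bc a, h1⟩

include hc in
theorem good_Y {P : MorphismProperty Scheme.{u}} [P.IsStableUnderBaseChange] (hP : DescendsLim P)
    (h : P (g' ≫ c')) : Good c' f' g' iX' iY' fun _ T => P T.MY.f where
  st i T j a h := prop_bc T.MY a h
  ev i T := by
    obtain ⟨j, a, h1⟩ := exists_prop hc hP T.MY h
    exact ⟨j, T.bc a, (Reach.refl T).bc a, h1⟩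

include hc in
theorem good_DX {P : MorphismProperty Scheme.{u}} [P.IsStableUnderBaseChange] (hP : DescendsLim P)
    (h : P (iX' ≫ f' ≫ c')) : Good c' f' g' iX' iY' fun _ T => P T.MDX.f where
  st i T j a h := prop_bc T.MDX a h
  ev i T := by
    obtain ⟨j, a, h1⟩ := exists_prop hc hP T.MDX h
    exact ⟨j, T.bc a, (Reach.refl T).bc a, h1⟩

include hc in
theorem good_DY {P : MorphismProperty Scheme.{u}} [P.IsStableUnderBaseChange] (hP : DescendsLim P)
    (h : P (iY' ≫ g' ≫ c')) : Good c' f' g' iX' iY' fun _ T => P T.MDY.f where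
  st i T j a h := prop_bc T.MDY a h
  ev i T := by
    obtain ⟨j, a, h1⟩ := exists_prop hc hP T.MDY h
    exact ⟨j, T.bc a, (Reach.refl T).bc a, h1⟩

include hc in
theorem good_f {P : MorphismProperty Scheme.{u}} [P.IsStableUnderBaseChange] [P.RespectsIso]
    (hP : DescendsLim P) (h : P f') : Good c' f' g' iX' iY' fun _ T => P T.hf.φ where
  st i T j a h := hom_prop_bc T.hf a h
  ev i T := by
    obtain ⟨j, a, h1⟩ := hom_exists_prop hc hP T.hf h
    exact ⟨j, T.bc a, (Reach.refl T).bc a, h1⟩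

include hc in
theorem good_g {P : MorphismProperty Scheme.{u}} [P.IsStableUnderBaseChange] [P.RespectsIso]
    (hP : DescendsLim P) (h : P g') : Good c' f' g' iX' iY' fun _ T => P T.hg.φ where
  st i T j a h := hom_prop_bc T.hg a h
  ev i T := by
    obtain ⟨j, a, h1⟩ := hom_exists_prop hc hP T.hg h
    exact ⟨j, T.bc a, (Reach.refl T).bc a, h1⟩

include hc in
theorem good_iX {P : MorphismProperty Scheme.{u}} [P.IsStableUnderBaseChange] [P.RespectsIso]
    (hP : DescendsLim P) (h : P iX') : Good c' f' g' iX' iY' fun _ T => P T.hX.φ where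
  st i T j a h := hom_prop_bc T.hX a h
  ev i T := by
    obtain ⟨j, a, h1⟩ := hom_exists_prop hc hP T.hX h
    exact ⟨j, T.bc a, (Reach.refl T).bc a, h1⟩

include hc in
theorem good_iY {P : MorphismProperty Scheme.{u}} [P.IsStableUnderBaseChange] [P.RespectsIso]
    (hP : DescendsLim P) (h : P iY') : Good c' f' g' iX' iY' fun _ T => P T.hY.φ where
  st i T j a h := hom_prop_bc T.hY a h
  ev i T := by
    obtain ⟨j, a, h1⟩ := hom_exists_prop hc hP T.hY h
    exact ⟨j, T.bc a, (Reach.refl T).bc a, h1⟩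

end K851.BC
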