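import Groth.Agent.SSMod.K851.BC

/-!
# Descent of the smoothness along the markings
-/

set_option autoImplicit false
set_option linter.unusedSectionVars false
set_option linter.dupNamespace false
set_option backward.isDefEq.respectTransparency false
set_option backward.defeqAttrib.useBackward true
universe u

open CategoryTheory CategoryTheory.Limits AlgebraicGeometry TopologicalSpace

namespace K851.BD

open Groth.Agent.CalgA.LimFP Groth.Agent.Ega43.LimitDescend K851.BB K851.BC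

attribute [local instance] Mdl.lfp Mdl.qc Mdl.qs

variable {I : Type u} [SmallCategory I] {D : I ⥤ Scheme.{u}} {c : Cone D}

theorem smooth_iff {X S X' S' : Scheme.{u}} {f : X ⟶ S} {g : S' ⟶ S} {f' : X' ⟶ S'} {g' : X' ⟶ X}
    (h : IsPullback g' f' f g) [LocallyOfFinitePresentation f] [LocallyOfFinitePresentation f'] [Flat f]
    (x : X') : x ∈ f'.smoothLocus ↔ g' x ∈ f.smoothLocus := by
  rw [Groth.Agent.S2155.result f g f' g' h (Or.inl inferInstance)]
  rfl

theorem smooth_bc {X DX : Scheme.{u}} {q' : X ⟶ c.pt} {r' : DX ⟶ c.pt} {ψ : DX ⟶ X} {i : I} {M : Mdl r' i}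
    {N : Mdl q' i} (v : Mdl.Hom ψ M N) [Flat N.f] {j : I} (a : j ⟶ i) (h : ∀ d, v.φ d ∈ N.f.smoothLocus) :
    ∀ d, (v.bc a).φ d ∈ (N.bc a).f.smoothLocus := by
  intro d
  have H : IsPullback (pullback.fst N.f (D.map a)) (N.bc a).f N.f (D.map a) := IsPullback.of_hasPullback _ _
  rw [smooth_iff H]
  have h1 : (v.bc a).φ ≫ pullback.fst N.f (D.map a) = pullback.fst M.f (D.map a) ≫ v.φ :=
    (v.isPullback_bc a).w.symm
  have h2 := congr($h1 d)
  rw [Scheme.Hom.comp_apply, Scheme.Hom.comp_apply] at h2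
  have h3 := h (pullback.fst M.f (D.map a) d)
  rw [← h2] at h3
  exact h3

variable [IsCofiltered I] [∀ (i j : I) (f : i ⟶ j), IsAffineHom (D.map f)] (hc : IsLimit c)
  [∀ i, CompactSpace (D.obj i)] [∀ i, QuasiSeparatedSpace (D.obj i)]

include hc in
theorem exists_smooth {X DX : Scheme.{u}} {q' : X ⟶ c.pt} {r' : DX ⟶ c.pt} {ψ : DX ⟶ X} {i : I}
    {M : Mdl r' i} {N : Mdl q' i} (v : Mdl.Hom ψ M N) [Flat N.f] [LocallyOfFinitePresentation q']
    (h : ∀ d, ψ d ∈ q'.smoothLocus) : ∃ (j : I) (a : j ⟶ i), ∀ d, (v.bc a).φ d ∈ (N.bc a).f.smoothLocus := by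
  have h2 : ∀ {j k : Over i} (a : j ⟶ k), IsAffineHom ((bcDiagram D M.f).map a) :=
    fun a => isAffineHom_bcDiagram_map a
  have h3 : ∀ j : Over i, CompactSpace ((bcDiagram D M.f).obj j) :=
    fun j => compactSpace_bcDiagram_obj j
  let U : M.A.Opens := v.φ ⁻¹ᵁ N.f.smoothLocus
  let U₀ : ((bcDiagram D M.f).obj (Over.mk (𝟙 i))).Opens := pullback.fst M.f (D.map (𝟙 i)) ⁻¹ᵁ U
  have hU₀ : (bcCone M.h).π.app (Over.mk (𝟙 i)) ⁻¹ᵁ U₀ = ⊤ := by
    rw [eq_top_iff]
    intro d _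
    have e1 : (bcCone M.h).π.app (Over.mk (𝟙 i)) ≫ pullback.fst M.f (D.map (𝟙 i)) = M.p := by simp
    change v.φ (((bcCone M.h).π.app (Over.mk (𝟙 i)) ≫ pullback.fst M.f (D.map (𝟙 i))) d) ∈ N.f.smoothLocus
    rw [e1, ← Scheme.Hom.comp_apply, v.wp, Scheme.Hom.comp_apply]
    exact (smooth_iff N.h _).1 (h d)
  obtain ⟨j, a, ha⟩ := exists_map_eq_top (bcDiagram D M.f) _ (isLimitBcCone hc M.h) U₀ hU₀
  refine ⟨j.left, j.hom, ?_⟩
  intro d
  have H : IsPullback (pullback.fst N.f (D.map j.hom)) (N.bc j.hom).f N.f (D.map j.hom) :=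
    IsPullback.of_hasPullback _ _
  rw [smooth_iff H]
  have h1 : (v.bc j.hom).φ ≫ pullback.fst N.f (D.map j.hom) = pullback.fst M.f (D.map j.hom) ≫ v.φ :=
    (v.isPullback_bc j.hom).w.symm
  have h5 := congr($h1 d)
  rw [Scheme.Hom.comp_apply, Scheme.Hom.comp_apply] at h5
  suffices h7 : v.φ (pullback.fst M.f (D.map j.hom) d) ∈ N.f.smoothLocus by
    rw [← h5] at h7
    exact h7
  have h6 : d ∈ (bcDiagram D M.f).map a ⁻¹ᵁ U₀ := by rw [ha]; trivial
  have e2 : (bcDiagram D M.f).map a ≫ pullback.fst M.f (D.map (𝟙 i)) = pullback.fst M.f (D.map j.hom) := by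
    simp
  change v.φ (((bcDiagram D M.f).map a ≫ pullback.fst M.f (D.map (𝟙 i))) d) ∈ N.f.smoothLocus at h6
  rw [e2] at h6
  exact h6

variable {C' X' Y' DX' DY' : Scheme.{u}} {c' : C' ⟶ c.pt} {f' : X' ⟶ C'} {g' : Y' ⟶ C'} {iX' : DX' ⟶ X'}
  {iY' : DY' ⟶ Y'}

include hc in
theorem good_sX (hf : Flat (f' ≫ c')) [LocallyOfFinitePresentation (f' ≫ c')]
    (h : ∀ d, iX' d ∈ (f' ≫ c').smoothLocus) :
    Good c' f' g' iX' iY' fun _ T => Flat T.MX.f ∧ ∀ d, T.hX.φ d ∈ T.MX.f.smoothLocus where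
  st i T j a hT := by
    have := hT.1
    exact ⟨inferInstanceAs (Flat (T.MX.bc a).f), smooth_bc T.hX a hT.2⟩
  ev i T := by
    obtain ⟨j, T', h1, h2⟩ :=
      (good_X (g' := g') (iX' := iX') (iY' := iY') hc
        Groth.Agent.Sga3.H515.LimSmooth.descendsLim_flat hf).ev i T
    have h2' : Flat T'.MX.f := h2
    obtain ⟨k, a, h3⟩ := exists_smooth hc T'.hX h
    exact ⟨k, T'.bc a, h1.bc a, inferInstanceAs (Flat (T'.MX.bc a).f), h3⟩

include hc in
theorem good_sY (hf : Flat (g' ≫ c')) [LocallyOfFinitePresentation (g' ≫ c')]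
    (h : ∀ d, iY' d ∈ (g' ≫ c').smoothLocus) :
    Good c' f' g' iX' iY' fun _ T => Flat T.MY.f ∧ ∀ d, T.hY.φ d ∈ T.MY.f.smoothLocus where
  st i T j a hT := by
    have := hT.1
    exact ⟨inferInstanceAs (Flat (T.MY.bc a).f), smooth_bc T.hY a hT.2⟩
  ev i T := by
    obtain ⟨j, T', h1, h2⟩ :=
      (good_Y (f' := f') (iX' := iX') (iY' := iY') hc
        Groth.Agent.Sga3.H515.LimSmooth.descendsLim_flat hf).ev i T
    have h2' : Flat T'.MY.f := h2
    obtain ⟨k, a, h3⟩ := exists_smooth hc T'.hY h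
    exact ⟨k, T'.bc a, h1.bc a, inferInstanceAs (Flat (T'.MY.bc a).f), h3⟩

/-- All the properties. -/
structure AllP {i : I} (T : Tw c' f' g' iX' iY' i) : Prop where
  aff : IsAffineHom T.MC.f
  pf : IsProper T.hf.φ
  pg : IsProper T.hg.φ
  cX : IsClosedImmersion T.hX.φ
  cY : IsClosedImmersion T.hY.φ
  nX : Curv2.IsNodalFamily T.MX.f
  nY : Curv2.IsNodalFamily T.MY.f
  eX : Etale T.MDX.f
  eY : Etale T.MDY.f
  sX : ∀ d, T.hX.φ d ∈ T.MX.f.smoothLocus
  sY : ∀ d, T.hY.φ d ∈ T.MY.f.smoothLocus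

include hc in
theorem exists_all [LocallyOfFinitePresentation c'] [QuasiCompact c'] [QuasiSeparated c']
    [LocallyOfFinitePresentation (f' ≫ c')] [LocallyOfFinitePresentation (g' ≫ c')]
    (aff : IsAffineHom c') (pf : IsProper f') (pg : IsProper g') (cX : IsClosedImmersion iX')
    (cY : IsClosedImmersion iY') (nX : Curv2.IsNodalFamily (f' ≫ c')) (nY : Curv2.IsNodalFamily (g' ≫ c'))
    (eX : Etale (iX' ≫ f' ≫ c')) (eY : Etale (iY' ≫ g' ≫ c')) (sX : ∀ d, iX' d ∈ (f' ≫ c').smoothLocus)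
    (sY : ∀ d, iY' d ∈ (g' ≫ c').smoothLocus) :
    ∃ (i : I) (T : Tw c' f' g' iX' iY' i), AllP T := by
  have l3 := nX.1
  have l4 := nY.1
  obtain ⟨i, ⟨T⟩⟩ := exists_tw (c' := c') (f' := f') (g' := g') (iX' := iX') (iY' := iY') hc
  have hr1 : MorphismProperty.RespectsIso @IsProper.{u} := MorphismProperty.IsStableUnderBaseChange.respectsIso
  have G := (good_C (f' := f') (g' := g') (iX' := iX') (iY' := iY') hc
      K286.Desc.descendsLim_isAffineHom aff).and
    ((good_f (c' := c') (f' := f') (g' := g') (iX' := iX') (iY' := iY') hc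
      K286.Desc.descendsLim_isProper pf).and
    ((good_g (c' := c') (f' := f') (g' := g') (iX' := iX') (iY' := iY') hc
      K286.Desc.descendsLim_isProper pg).and
    ((good_iX (c' := c') (f' := f') (g' := g') (iX' := iX') (iY' := iY') hc
      Groth.Agent.Ega43.LimitDescendClosed.descendsLim_isClosedImmersion cX).and
    ((good_iY (c' := c') (f' := f') (g' := g') (iX' := iX') (iY' := iY') hc
      Groth.Agent.Ega43.LimitDescendClosed.descendsLim_isClosedImmersion cY).and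
    ((good_X (c' := c') (f' := f') (g' := g') (iX' := iX') (iY' := iY') hc
      descendsLim_nodal nX).and
    ((good_Y (c' := c') (f' := f') (g' := g') (iX' := iX') (iY' := iY') hc
      descendsLim_nodal nY).and
    ((good_DX (c' := c') (f' := f') (g' := g') (iX' := iX') (iY' := iY') hc
      K973.EtaleDesc.descendsLim_etale eX).and
    ((good_DY (c' := c') (f' := f') (g' := g') (iX' := iX') (iY' := iY') hc
      K973.EtaleDesc.descendsLim_etale eY).and
    ((good_sX (c' := c') (f' := f') (g' := g') (iX' := iX') (iY' := iY') hc l3 sX).and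
    (good_sY (c' := c') (f' := f') (g' := g') (iX' := iX') (iY' := iY') hc l4 sY))))))))))
  obtain ⟨j, T', -, h1, h2, h3, h4, h5, h6, h7, h8, h9, h10, h11⟩ := G.ev i T
  exact ⟨j, T', ⟨h1, h2, h3, h4, h5, h6, h7, h8, h9, h10.2, h11.2⟩⟩

end K851.BD
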