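import Groth.Agent.SSMod.K851.NA

/-!
# Two marked nodal modifications over a normal noetherian base
-/

set_option autoImplicit false
set_option linter.unusedSectionVars false
set_option linter.dupNamespace false
universe u

open CategoryTheory CategoryTheory.Limits AlgebraicGeometry TopologicalSpace IsLocalRing

namespace K851.NB

open K851.Fib K851.LemN K851.Et K851.Sep K851.Dat K851.DDef K851.Ext K851.NA K851.PQ K851.PR

/-- Two marked nodal modifications of `C` over a ring, isomorphic to `C` over a basic open. -/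
structure NN (O : Type u) [CommRing O] where
  b : O
  hb : b ≠ 0
  C : Scheme.{u}
  X : Scheme.{u}
  Y : Scheme.{u}
  DX : Scheme.{u}
  DY : Scheme.{u}
  c : C ⟶ Spec (CommRingCat.of O)
  f : X ⟶ C
  g : Y ⟶ C
  iX : DX ⟶ X
  iY : DY ⟶ Y
  pf : IsProper f
  pg : IsProper g
  aC : IsAffine C
  fc : LocallyOfFiniteType c
  nX : Curv2.IsNodalFamily (f ≫ c)
  nY : Curv2.IsNodalFamily (g ≫ c)
  lX : LocallyOfFinitePresentation (f ≫ c)
  lY : LocallyOfFinitePresentation (g ≫ c)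
  cX : IsClosedImmersion iX
  cY : IsClosedImmersion iY
  eX : Etale (iX ≫ f ≫ c)
  eY : Etale (iY ≫ g ≫ c)
  sX : ∀ d, iX d ∈ (f ≫ c).smoothLocus
  sY : ∀ d, iY d ∈ (g ≫ c).smoothLocus
  isoX : IsIso (f ∣_ (c ⁻¹ᵁ Dπ b))
  isoY : IsIso (g ∣_ (c ⁻¹ᵁ Dπ b))
  hD : ∀ (x : X) (y : Y), f x = g y → (c (f x) : PrimeSpectrum O).asIdeal = ⊥ → y ∈ Set.range iY →
    x ∈ Set.range iX

attribute [instance] NN.pf NN.pg NN.aC NN.fc NN.lX NN.lY NN.cX NN.cY NN.eX NN.eY NN.isoX NN.isoY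

variable {O : Type u} [CommRing O]

/-- The structure maps. -/
noncomputable abbrev NN.qX (𝔑 : NN O) : 𝔑.X ⟶ Spec (CommRingCat.of O) := 𝔑.f ≫ 𝔑.c
noncomputable abbrev NN.qY (𝔑 : NN O) : 𝔑.Y ⟶ Spec (CommRingCat.of O) := 𝔑.g ≫ 𝔑.c

instance (𝔑 : NN O) : Flat 𝔑.qX := 𝔑.nX.1
instance (𝔑 : NN O) : Flat 𝔑.qY := 𝔑.nY.1

/-- No exceptional component in the geometric fibre at `τ`. -/
def NoExcAt (𝔑 : NN O) (Ω : Type u) [Field Ω] (τ : Spec (CommRingCat.of Ω) ⟶ Spec (CommRingCat.of O)) :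
    Prop :=
  ∀ Z ∈ irreducibleComponents (↥(pullback (𝔑.g ≫ 𝔑.c) τ) : Type u),
    ¬ SSMod.IsExcComp Ω (CInt.baseChangeOver 𝔑.g 𝔑.c τ) (pullback.snd (𝔑.g ≫ 𝔑.c) τ)
      ((pullback.fst (𝔑.g ≫ 𝔑.c) τ).base ⁻¹' Set.range (𝔑.iY.base : 𝔑.DY → 𝔑.Y)) Z

theorem mem_iff_iso {Ω : Type u} [Field Ω] {Y₁ Y₂ : Scheme.{u}} {q₁ : Y₁ ⟶ Spec (CommRingCat.of Ω)}
    {q₂ : Y₂ ⟶ Spec (CommRingCat.of Ω)} {Φ : Y₁ ⟶ Y₂} [IsIso Φ] (hq : Φ ≫ q₂ = q₁)
    [LocallyOfFinitePresentation q₁] [LocallyOfFinitePresentation q₂] (z : Y₁) :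
    Φ z ∈ q₂.smoothLocus ↔ z ∈ q₁.smoothLocus := by
  subst hq
  exact K851.NS.mem_iff_of_etale Φ q₂ z

/-- Transport of exceptional components along an isomorphism. -/
theorem excComp_iso {Ω : Type u} [Field Ω] {Y₁ C₁ Y₂ C₂ : Scheme.{u}} (g₁ : Y₁ ⟶ C₁) (g₂ : Y₂ ⟶ C₂)
    (q₁ : Y₁ ⟶ Spec (CommRingCat.of Ω)) (q₂ : Y₂ ⟶ Spec (CommRingCat.of Ω)) (M₁ : Set Y₁) (M₂ : Set Y₂)
    (Φ : Y₁ ⟶ Y₂) [IsIso Φ] (Ψ : C₁ ⟶ C₂) (hΦ : Φ ≫ g₂ = g₁ ≫ Ψ) (hq : Φ ≫ q₂ = q₁)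
    (hM : M₁ = Φ ⁻¹' M₂) [LocallyOfFinitePresentation q₁] [LocallyOfFinitePresentation q₂]
    (Z : Set Y₁) (hZ : SSMod.IsExcComp Ω g₁ q₁ M₁ Z) : SSMod.IsExcComp Ω g₂ q₂ M₂ (Φ '' Z) := by
  obtain ⟨⟨e, he, he1, he2⟩, h2, h3⟩ := hZ
  have hinj : Function.Injective Φ := Φ.homeomorph.injective
  refine ⟨⟨e ≫ Φ, inferInstance, by rw [Category.assoc, hq, he1], ?_⟩, ?_, ?_⟩
  · rw [← he2]
    ext y
    constructor
    · rintro ⟨p, rfl⟩
      exact ⟨e p, ⟨p, rfl⟩, by rw [← Scheme.Hom.comp_apply]⟩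
    · rintro ⟨_, ⟨p, rfl⟩, rfl⟩
      exact ⟨p, by rw [← Scheme.Hom.comp_apply]⟩
  · have hsub : Φ '' Z ∩ (M₂ ∪ DualGr.nonsmoothPts q₂) ⊆ Φ '' (Z ∩ (M₁ ∪ DualGr.nonsmoothPts q₁)) := by
      rintro _ ⟨⟨z, hz, rfl⟩, hz'⟩
      refine ⟨z, ⟨hz, ?_⟩, rfl⟩
      rcases hz' with h | h
      · left; rw [hM]; exact h
      · right
        intro hs
        apply h
        have h4 : z ∈ q₁.smoothLocus := hs
        have h5 := (mem_iff_iso hq z).2 h4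
        exact h5
    exact (Set.encard_le_encard hsub).trans ((Set.encard_image_le _ _).trans h2)
  · rintro _ ⟨_, ⟨z, hz, rfl⟩, rfl⟩ _ ⟨_, ⟨z', hz', rfl⟩, rfl⟩
    have h4 : g₁ z = g₁ z' := h3 ⟨z, hz, rfl⟩ ⟨z', hz', rfl⟩
    change g₂ (Φ z) = g₂ (Φ z')
    rw [← Scheme.Hom.comp_apply, ← Scheme.Hom.comp_apply, hΦ, Scheme.Hom.comp_apply,
      Scheme.Hom.comp_apply, h4]

/-- Isomorphisms over opens are stable under base change. -/
theorem isIso_restrict {X C X' C' : Scheme.{u}} {f : X ⟶ C} {f' : X' ⟶ C'} {a : X' ⟶ X} {α : C' ⟶ C}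
    (H : IsPullback a f' f α) (W : C.Opens) (W' : C'.Opens) (hW : ∀ z ∈ W', α z ∈ W) [IsIso (f ∣_ W)] :
    IsIso (f' ∣_ W') := by
  let j : (W' : Scheme.{u}) ⟶ W := IsOpenImmersion.lift W.ι (W'.ι ≫ α) (by
    rw [Scheme.Opens.range_ι]
    rintro _ ⟨z, rfl⟩
    rw [Scheme.Hom.comp_apply]
    apply hW
    have : W'.ι z ∈ Set.range W'.ι := ⟨z, rfl⟩
    rwa [Scheme.Opens.range_ι] at this)
  have hj : j ≫ W.ι = W'.ι ≫ α := IsOpenImmersion.lift_fac _ _ _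
  have P1 := ((isPullback_morphismRestrict f' W').flip).paste_horiz H
  have P2 := (isPullback_morphismRestrict f W).flip
  rw [← hj] at P1
  have h1 : ((f' ⁻¹ᵁ W').ι ≫ a) ≫ f = ((f' ∣_ W') ≫ j) ≫ W.ι := by
    rw [P1.w, Category.assoc]
  let l : ((f' ⁻¹ᵁ W' : X'.Opens) : Scheme.{u}) ⟶ (f ⁻¹ᵁ W : X.Opens) := P2.lift _ _ h1
  have hl1 : l ≫ (f ⁻¹ᵁ W).ι = (f' ⁻¹ᵁ W').ι ≫ a := P2.lift_fst _ _ h1
  have hl2 : l ≫ (f ∣_ W) = (f' ∣_ W') ≫ j := P2.lift_snd _ _ h1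
  rw [← hl1] at P1
  have P3 : IsPullback l (f' ∣_ W') (f ∣_ W) j := IsPullback.of_right P1 hl2 P2
  exact P3.isIso_snd_of_isIso

theorem bco2_isPullback {Y D S S' : Scheme.{u}} (i : D ⟶ Y) (q : Y ⟶ S) (s : S' ⟶ S) :
    IsPullback (pullback.fst (i ≫ q) s) (CInt.baseChangeOver i q s) i (pullback.fst q s) :=
  bco_isPullback i q s

section BC

variable (𝔑 : NN O) {V : Type u} [CommRing V] [IsDomain V] [IsDiscreteValuationRing V] {π : V}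
  (hπ : Irreducible π) (φ : O →+* V) (hφ : Function.Injective φ)

include hφ in
theorem map_b_ne : φ 𝔑.b ≠ 0 := fun h => 𝔑.hb (hφ (by rw [h, map_zero]))

include hπ hφ in
/-- The points of the generic fibre. -/
theorem mem_of_ne (z : Spec (CommRingCat.of V)) (hz : π ∉ (z : PrimeSpectrum V).asIdeal) :
    Spec.map (CommRingCat.ofHom φ) z ∈ Dπ 𝔑.b := by
  have h1 : z ≠ cp (CommRingCat.of V) := by
    rintro rfl
    exact hz hπ.not_isUnit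
  change φ 𝔑.b ∉ (z : PrimeSpectrum V).asIdeal
  have h2 := eq_bot_of_ne (V := CommRingCat.of V) z h1
  rw [h2]
  exact map_b_ne 𝔑 φ hφ

include hφ in
theorem eq_bot_of_ne_cp (z : Spec (CommRingCat.of V)) (hz : z ≠ cp (CommRingCat.of V)) :
    (Spec.map (CommRingCat.ofHom φ) z : PrimeSpectrum O).asIdeal = ⊥ := by
  change (z : PrimeSpectrum V).asIdeal.comap φ = ⊥
  have h2 := eq_bot_of_ne (V := CommRingCat.of V) z hz
  rw [h2]
  exact (RingHom.injective_iff_ker_eq_bot φ).1 hφ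

/-- Ranges of closed subschemes under base change. -/
theorem mem_range_bco {Y D S S' : Scheme.{u}} (i : D ⟶ Y) (q : Y ⟶ S) (s : S' ⟶ S)
    (y : ↥(pullback q s)) : y ∈ Set.range (CInt.baseChangeOver i q s) ↔
      pullback.fst q s y ∈ Set.range i := by
  constructor
  · rintro ⟨d, rfl⟩
    refine ⟨pullback.fst (i ≫ q) s d, ?_⟩
    rw [← Scheme.Hom.comp_apply, ← Scheme.Hom.comp_apply, bco_fst]
  · rintro ⟨d, hd⟩
    have H := bco2_isPullback i q s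
    obtain ⟨w, hw1, hw2⟩ := Scheme.Pullback.exists_preimage_pullback d y (f := i) (g := pullback.fst q s) hd
    refine ⟨H.isoPullback.inv w, ?_⟩
    rw [← Scheme.Hom.comp_apply, H.isoPullback_inv_snd]
    exact hw2

/-- Base change to a discrete valuation ring. -/
noncomputable def toDD : DD V where
  π := π
  hπ := hπ
  C := pullback 𝔑.c (Spec.map (CommRingCat.ofHom φ))
  X := pullback (𝔑.f ≫ 𝔑.c) (Spec.map (CommRingCat.ofHom φ))
  Y := pullback (𝔑.g ≫ 𝔑.c) (Spec.map (CommRingCat.ofHom φ))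
  DX := pullback (𝔑.iX ≫ 𝔑.f ≫ 𝔑.c) (Spec.map (CommRingCat.ofHom φ))
  DY := pullback (𝔑.iY ≫ 𝔑.g ≫ 𝔑.c) (Spec.map (CommRingCat.ofHom φ))
  c := pullback.snd _ _
  f := CInt.baseChangeOver 𝔑.f 𝔑.c _
  g := CInt.baseChangeOver 𝔑.g 𝔑.c _
  iX := CInt.baseChangeOver 𝔑.iX (𝔑.f ≫ 𝔑.c) _
  iY := CInt.baseChangeOver 𝔑.iY (𝔑.g ≫ 𝔑.c) _
  pf := MorphismProperty.of_isPullback (P := @IsProper) (bco_isPullback 𝔑.f 𝔑.c _) inferInstance
  pg := MorphismProperty.of_isPullback (P := @IsProper) (bco_isPullback 𝔑.g 𝔑.c _) inferInstance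
  aC := inferInstance
  fc := inferInstance
  nX := by
    rw [bco_snd]
    exact Groth.Agent.Sga7.H734.NodalBC.isNodalFamily_of_isPullback (IsPullback.of_hasPullback _ _) 𝔑.nX
  nY := by
    rw [bco_snd]
    exact Groth.Agent.Sga7.H734.NodalBC.isNodalFamily_of_isPullback (IsPullback.of_hasPullback _ _) 𝔑.nY
  lX := by rw [bco_snd]; infer_instance
  lY := by rw [bco_snd]; infer_instance
  cX := MorphismProperty.of_isPullback (P := @IsClosedImmersion)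
    (bco2_isPullback 𝔑.iX (𝔑.f ≫ 𝔑.c) _) inferInstance
  cY := MorphismProperty.of_isPullback (P := @IsClosedImmersion)
    (bco2_isPullback 𝔑.iY (𝔑.g ≫ 𝔑.c) _) inferInstance
  eX := by
    rw [bco_snd, bco_snd]; infer_instance
  eY := by
    rw [bco_snd, bco_snd]; infer_instance
  sX := by
    intro d
    have h1 : pullback.fst (𝔑.f ≫ 𝔑.c) (Spec.map (CommRingCat.ofHom φ))
        (CInt.baseChangeOver 𝔑.iX (𝔑.f ≫ 𝔑.c) (Spec.map (CommRingCat.ofHom φ)) d) ∈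
        (𝔑.f ≫ 𝔑.c).smoothLocus := by
      rw [← Scheme.Hom.comp_apply, bco_fst, Scheme.Hom.comp_apply]
      exact 𝔑.sX _
    have h2 := smooth_baseChange (IsPullback.of_hasPullback (𝔑.f ≫ 𝔑.c)
      (Spec.map (CommRingCat.ofHom φ))) _ h1
    have hl : LocallyOfFinitePresentation (CInt.baseChangeOver 𝔑.f 𝔑.c (Spec.map (CommRingCat.ofHom φ)) ≫
        pullback.snd 𝔑.c (Spec.map (CommRingCat.ofHom φ))) := by rw [bco_snd]; infer_instance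
    exact (K851.FB.mem_congr (bco_snd 𝔑.f 𝔑.c (Spec.map (CommRingCat.ofHom φ))) rfl).2 h2
  sY := by
    intro d
    have h1 : pullback.fst (𝔑.g ≫ 𝔑.c) (Spec.map (CommRingCat.ofHom φ))
        (CInt.baseChangeOver 𝔑.iY (𝔑.g ≫ 𝔑.c) (Spec.map (CommRingCat.ofHom φ)) d) ∈
        (𝔑.g ≫ 𝔑.c).smoothLocus := by
      rw [← Scheme.Hom.comp_apply, bco_fst, Scheme.Hom.comp_apply]
      exact 𝔑.sY _
    have h2 := smooth_baseChange (IsPullback.of_hasPullback (𝔑.g ≫ 𝔑.c)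
      (Spec.map (CommRingCat.ofHom φ))) _ h1
    have hl : LocallyOfFinitePresentation (CInt.baseChangeOver 𝔑.g 𝔑.c (Spec.map (CommRingCat.ofHom φ)) ≫
        pullback.snd 𝔑.c (Spec.map (CommRingCat.ofHom φ))) := by rw [bco_snd]; infer_instance
    exact (K851.FB.mem_congr (bco_snd 𝔑.g 𝔑.c (Spec.map (CommRingCat.ofHom φ))) rfl).2 h2
  isoX := isIso_restrict (bco_isPullback 𝔑.f 𝔑.c _) (𝔑.c ⁻¹ᵁ Dπ 𝔑.b) _ (by
    intro z hz
    change 𝔑.c (pullback.fst 𝔑.c (Spec.map (CommRingCat.ofHom φ)) z) ∈ Dπ 𝔑.b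
    rw [← Scheme.Hom.comp_apply, pullback.condition, Scheme.Hom.comp_apply]
    exact mem_of_ne 𝔑 hπ φ hφ _ hz)
  isoY := isIso_restrict (bco_isPullback 𝔑.g 𝔑.c _) (𝔑.c ⁻¹ᵁ Dπ 𝔑.b) _ (by
    intro z hz
    change 𝔑.c (pullback.fst 𝔑.c (Spec.map (CommRingCat.ofHom φ)) z) ∈ Dπ 𝔑.b
    rw [← Scheme.Hom.comp_apply, pullback.condition, Scheme.Hom.comp_apply]
    exact mem_of_ne 𝔑 hπ φ hφ _ hz)
  hD := by
    intro x y hxy hx hy
    rw [mem_range_bco] at hy ⊢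
    · refine 𝔑.hD _ (pullback.fst (𝔑.g ≫ 𝔑.c) (Spec.map (CommRingCat.ofHom φ)) y) ?_ ?_ hy
      · rw [← Scheme.Hom.comp_apply, ← Scheme.Hom.comp_apply, ← bco_fst, ← bco_fst,
          Scheme.Hom.comp_apply, Scheme.Hom.comp_apply, hxy]
      · rw [← Scheme.Hom.comp_apply (pullback.fst (𝔑.f ≫ 𝔑.c) (Spec.map (CommRingCat.ofHom φ))),
          ← bco_fst, Scheme.Hom.comp_apply, ← Scheme.Hom.comp_apply _ 𝔑.c, pullback.condition,
          Scheme.Hom.comp_apply]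
        exact eq_bot_of_ne_cp φ hφ _ hx

theorem image_mem_irreducibleComponents {A B : Type*} [TopologicalSpace A] [TopologicalSpace B] (e : A ≃ₜ B)
    (Z : Set A) (hZ : Z ∈ irreducibleComponents A) : e '' Z ∈ irreducibleComponents B := by
  refine ⟨hZ.1.image e e.continuous.continuousOn, fun t ht hle => ?_⟩
  have h1 : Z ≤ e.symm '' t := by
    intro z hz
    exact ⟨e z, hle ⟨z, hz, rfl⟩, e.symm_apply_apply z⟩
  have h2 := hZ.2 (ht.image e.symm e.symm.continuous.continuousOn) h1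
  intro y hy
  exact ⟨e.symm y, h2 ⟨y, hy, rfl⟩, e.apply_symm_apply y⟩

/-- Transport of the absence of exceptional components. -/
theorem noExc_toDD (h : NoExcAt 𝔑 (ResidueField V) (sp V ≫ Spec.map (CommRingCat.ofHom φ)))
    [IsAlgClosed (ResidueField V)] [IsAdicComplete (maximalIdeal V) V] :
    NoExc (toDD 𝔑 hπ φ hφ) := by
  intro Z hZ hexc
  let σ := Spec.map (CommRingCat.ofHom φ)
  let g' := CInt.baseChangeOver 𝔑.g 𝔑.c σ
  let c' := pullback.snd 𝔑.c σ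
  have H1 : IsPullback (pullback.fst (g' ≫ c') (sp V)) (pullback.snd (g' ≫ c') (sp V)) (g' ≫ c') (sp V) :=
    IsPullback.of_hasPullback _ _
  have H2 : IsPullback (pullback.fst (𝔑.g ≫ 𝔑.c) σ) (g' ≫ c') (𝔑.g ≫ 𝔑.c) σ := by
    have : g' ≫ c' = pullback.snd (𝔑.g ≫ 𝔑.c) σ := bco_snd _ _ _
    rw [this]
    exact IsPullback.of_hasPullback _ _
  have H3 := H1.paste_horiz H2
  let Φ : pullback (g' ≫ c') (sp V) ⟶ pullback (𝔑.g ≫ 𝔑.c) (sp V ≫ σ) := H3.isoPullback.hom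
  have hΦ1 : Φ ≫ pullback.fst (𝔑.g ≫ 𝔑.c) (sp V ≫ σ) =
      pullback.fst (g' ≫ c') (sp V) ≫ pullback.fst (𝔑.g ≫ 𝔑.c) σ := H3.isoPullback_hom_fst
  have hΦ2 : Φ ≫ pullback.snd (𝔑.g ≫ 𝔑.c) (sp V ≫ σ) = pullback.snd (g' ≫ c') (sp V) :=
    H3.isoPullback_hom_snd
  let Ψ : pullback c' (sp V) ⟶ pullback 𝔑.c (sp V ≫ σ) :=
    pullback.lift (pullback.fst c' (sp V) ≫ pullback.fst 𝔑.c σ) (pullback.snd c' (sp V)) (by
      have h4 : pullback.fst 𝔑.c σ ≫ 𝔑.c = c' ≫ σ := pullback.condition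
      rw [Category.assoc, h4, pullback.condition_assoc])
  have hΨ1 : Ψ ≫ pullback.fst 𝔑.c (sp V ≫ σ) = pullback.fst c' (sp V) ≫ pullback.fst 𝔑.c σ :=
    pullback.lift_fst _ _ _
  have hΨ2 : Ψ ≫ pullback.snd 𝔑.c (sp V ≫ σ) = pullback.snd c' (sp V) := pullback.lift_snd _ _ _
  have hl1 : LocallyOfFinitePresentation (pullback.snd (g' ≫ c') (sp V)) := by
    have : LocallyOfFinitePresentation (g' ≫ c') := (toDD 𝔑 hπ φ hφ).lY
    infer_instance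
  refine h (Φ '' Z) (image_mem_irreducibleComponents Φ.homeomorph Z hZ)
    (excComp_iso (CInt.baseChangeOver g' c' (sp V)) _ (pullback.snd (g' ≫ c') (sp V)) _ _ _ Φ Ψ ?_ hΦ2 ?_
      Z hexc)
  · apply pullback.hom_ext
    · rw [Category.assoc, bco_fst, ← Category.assoc, hΦ1, Category.assoc, Category.assoc, hΨ1,
        ← Category.assoc (CInt.baseChangeOver g' c' (sp V)), bco_fst, Category.assoc, bco_fst]
    · have e1 : CInt.baseChangeOver 𝔑.g 𝔑.c (sp V ≫ σ) ≫ pullback.snd 𝔑.c (sp V ≫ σ) =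
        pullback.snd (𝔑.g ≫ 𝔑.c) (sp V ≫ σ) := bco_snd _ _ _
      have e2 : CInt.baseChangeOver g' c' (sp V) ≫ pullback.snd c' (sp V) =
        pullback.snd (g' ≫ c') (sp V) := bco_snd _ _ _
      calc (Φ ≫ CInt.baseChangeOver 𝔑.g 𝔑.c (sp V ≫ σ)) ≫ pullback.snd 𝔑.c (sp V ≫ σ)
          = Φ ≫ (CInt.baseChangeOver 𝔑.g 𝔑.c (sp V ≫ σ) ≫ pullback.snd 𝔑.c (sp V ≫ σ)) :=
            Category.assoc _ _ _
        _ = pullback.snd (g' ≫ c') (sp V) := (congrArg (Φ ≫ ·) e1).trans hΦ2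
        _ = CInt.baseChangeOver g' c' (sp V) ≫ (Ψ ≫ pullback.snd 𝔑.c (sp V ≫ σ)) :=
            e2.symm.trans (congrArg (CInt.baseChangeOver g' c' (sp V) ≫ ·) hΨ2.symm)
        _ = _ := (Category.assoc _ _ _).symm
  · have key : ∀ y : ↥(pullback (g' ≫ c') (sp V)),
        (pullback.fst (g' ≫ c') (sp V) y ∈ Set.range (CInt.baseChangeOver 𝔑.iY (𝔑.g ≫ 𝔑.c) σ) ↔
        pullback.fst (𝔑.g ≫ 𝔑.c) (sp V ≫ σ) (Φ y) ∈ Set.range 𝔑.iY) := by
      intro y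
      have e3 : pullback.fst (𝔑.g ≫ 𝔑.c) (sp V ≫ σ) (Φ y) =
          pullback.fst (𝔑.g ≫ 𝔑.c) σ (pullback.fst (g' ≫ c') (sp V) y) := by
        have := congr($hΦ1 y)
        rwa [Scheme.Hom.comp_apply, Scheme.Hom.comp_apply] at this
      rw [e3]
      exact mem_range_bco 𝔑.iY (𝔑.g ≫ 𝔑.c) σ _
    ext y
    exact key y

end BC

end K851.NB
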