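import Groth.Agent.SGA1.K150.IndOpen
import Groth.Agent.Ega43.LimitDescendIso
import Mathlib.AlgebraicGeometry.Morphisms.FlatDescent
import Groth.Agent.SSMod.K851.NB

/-!
# Spreading out isomorphisms from the generic fibre
-/

set_option autoImplicit false
set_option linter.unusedSectionVars false
set_option linter.dupNamespace false
universe u

open CategoryTheory CategoryTheory.Limits AlgebraicGeometry TopologicalSpace

namespace K851.BE

open K851.PQ K851.DDef Groth.Agent.Sga1.SectionSpread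

/-- Isomorphisms over larger opens. -/
theorem isIso_restrict_of_fac {X C X' C' : Scheme.{u}} {f : X ⟶ C} {f' : X' ⟶ C'} {a : X' ⟶ X} {α : C' ⟶ C}
    (H : IsPullback a f' f α) [IsIso f'] (W : C.Opens) (l : (W : Scheme.{u}) ⟶ C') (hl : l ≫ α = W.ι) :
    IsIso (f ∣_ W) := by
  have P2 := (isPullback_morphismRestrict f W).flip
  rw [← hl] at P2
  have h1 : (f ⁻¹ᵁ W).ι ≫ f = ((f ∣_ W) ≫ l) ≫ α := by rw [P2.w, Category.assoc]
  have h2 : H.lift _ _ h1 ≫ a = (f ⁻¹ᵁ W).ι := H.lift_fst _ _ _
  have h3 : H.lift _ _ h1 ≫ f' = (f ∣_ W) ≫ l := H.lift_snd _ _ _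
  rw [← h2] at P2
  have P3 : IsPullback (H.lift _ _ h1) (f ∣_ W) f' l := IsPullback.of_right P2 h3 H
  exact P3.isIso_snd_of_isIso

variable {O : Type u} [CommRing O] [IsDomain O]

/-- The generic point of a domain. -/
noncomputable abbrev gp (O : Type u) [CommRing O] [IsDomain O] :
    Spec (CommRingCat.of (FractionRing O)) ⟶ Spec (CommRingCat.of O) :=
  Spec.map (CommRingCat.ofHom (algebraMap O (FractionRing O)))

/-- Isomorphism on generic fibres. -/
def GI {X C : Scheme.{u}} (f : X ⟶ C) (c : C ⟶ Spec (CommRingCat.of O)) : Prop :=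
  IsIso (CInt.baseChangeOver f c (gp O))

theorem exists_open {X C : Scheme.{u}} (f : X ⟶ C) (c : C ⟶ Spec (CommRingCat.of O))
    [LocallyOfFinitePresentation f] [QuasiCompact f] [QuasiSeparated f] [QuasiCompact c] [QuasiSeparated c]
    (h : GI f c) : ∃ b : O, b ≠ 0 ∧ IsIso (f ∣_ (c ⁻¹ᵁ Dπ b)) := by
  let K := FractionRing O
  have hC : K150.IndOpen.IndOpen O K := K150.IndOpen.indOpen_of_isLocalization K (nonZeroDivisors O)
  let θ : ∀ (B : Type u) [CommRing B] [Algebra O B], bc (f ≫ c) B ⟶ bc c B := fun B _ _ =>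
    CInt.baseChangeOver f c (str O B)
  have hpb : ∀ (B : Type u) [CommRing B] [Algebra O B],
      IsPullback (pullback.fst (f ≫ c) (str O B)) (θ B) f (pullback.fst c (str O B)) := fun B _ _ =>
    bco_isPullback f c (str O B)
  have hθ : ∀ (B B' : Type u) [CommRing B] [Algebra O B] [CommRing B'] [Algebra O B'] (χ : B →ₐ[O] B'),
      IsPullback (bcMap (f ≫ c) χ) (θ B') (θ B) (bcMap c χ) := by
    intro B B' _ _ _ _ χ
    refine IsPullback.of_right (h₁₂ := pullback.fst (f ≫ c) (str O B)) (v₁₃ := f)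
      (h₂₂ := pullback.fst c (str O B)) ?_ ?_ (hpb B)
    · rw [bcMap_fst, bcMap_fst]
      exact hpb B'
    · apply pullback.hom_ext
      · have e1 : θ B ≫ pullback.fst c (str O B) = pullback.fst (f ≫ c) (str O B) ≫ f := bco_fst _ _ _
        have e2 : θ B' ≫ pullback.fst c (str O B') = pullback.fst (f ≫ c) (str O B') ≫ f := bco_fst _ _ _
        rw [Category.assoc, e1, bcMap_fst_assoc, Category.assoc, bcMap_fst, e2]
      · have e1 : θ B ≫ pullback.snd c (str O B) = pullback.snd (f ≫ c) (str O B) := bco_snd _ _ _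
        have e2 : θ B' ≫ pullback.snd c (str O B') = pullback.snd (f ≫ c) (str O B') := bco_snd _ _ _
        rw [Category.assoc, e1, bcMap_snd, Category.assoc, bcMap_snd, ← Category.assoc (θ B'), e2]
  have i1 : LocallyOfFinitePresentation (θ O) :=
    MorphismProperty.of_isPullback (P := @LocallyOfFinitePresentation) (hpb O) inferInstance
  have i2 : QuasiCompact (θ O) := MorphismProperty.of_isPullback (P := @QuasiCompact) (hpb O) inferInstance
  have i3 : QuasiSeparated (θ O) := MorphismProperty.of_isPullback (P := @QuasiSeparated) (hpb O) inferInstance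
  obtain ⟨B', _, _, hop, ψ, χ', hχ', H⟩ := K150.IndOpen.exists_open_prop (f ≫ c) K
    Groth.Agent.Ega43.LimitDescendIso.descendsLim_isomorphisms hC c O (Algebra.ofId O K) (θ O) (θ K)
    (hθ O K (Algebra.ofId O K)) h
  have hiso : IsIso (θ B') := H (θ B') (hθ O B' ψ)
  let U : (Spec (CommRingCat.of O)).Opens := (str O B').opensRange
  have hη : ((⊥ : PrimeSpectrum O) : Spec (CommRingCat.of O)) ∈ (U : Set ↥(Spec (CommRingCat.of O))) := by
    have h1 : Spec.map (CommRingCat.ofHom (χ' : B' →+* K)) ≫ str O B' = gp O := by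
      rw [← Spec.map_comp]
      congr 1
      ext r
      exact χ'.commutes r
    let t : Spec (CommRingCat.of K) := (⊥ : PrimeSpectrum K)
    have h2 : gp O t = (⊥ : PrimeSpectrum O) := by
      apply PrimeSpectrum.ext
      change (⊥ : Ideal K).comap (algebraMap O K) = ⊥
      exact (RingHom.injective_iff_ker_eq_bot _).1 (IsFractionRing.injective O K)
    have h3 : str O B' (Spec.map (CommRingCat.ofHom (χ' : B' →+* K)) t) = (⊥ : PrimeSpectrum O) := by
      rw [← Scheme.Hom.comp_apply, h1, h2]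
    exact ⟨_, h3⟩
  obtain ⟨_, ⟨_, ⟨b, rfl⟩, rfl⟩, hb1, hb2⟩ :=
    (PrimeSpectrum.isBasis_basic_opens (R := O)).exists_subset_of_mem_open hη U.2
  have hb : b ≠ 0 := hb1
  refine ⟨b, hb, ?_⟩
  have hα : IsOpenImmersion (pullback.fst c (str O B')) := inferInstance
  have hran : Set.range (c ⁻¹ᵁ Dπ b).ι ⊆ Set.range (pullback.fst c (str O B')) := by
    rw [Scheme.Opens.range_ι]
    intro z hz
    have hz' : c z ∈ Dπ b := hz
    obtain ⟨y, hy⟩ := hb2 hz'
    obtain ⟨w, hw, -⟩ := Scheme.Pullback.exists_preimage_pullback z y (f := c) (g := str O B') hy.symm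
    exact ⟨w, hw⟩
  exact isIso_restrict_of_fac (hpb B') (c ⁻¹ᵁ Dπ b) (IsOpenImmersion.lift (pullback.fst c (str O B')) _ hran)
    (IsOpenImmersion.lift_fac _ _ _)

theorem exists_frac {A : Type u} [CommRing A] [IsDomain A] (j : O →+* A)
    (hj : Function.Injective j) : ∃ ι : FractionRing O →+* FractionRing A,
      ι.comp (algebraMap O (FractionRing O)) = (algebraMap A (FractionRing A)).comp j := by
  refine ⟨IsLocalization.map (M := nonZeroDivisors O) (T := nonZeroDivisors A) (FractionRing A) j ?_, ?_⟩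
  · intro x hx
    change j x ∈ nonZeroDivisors A
    exact map_mem_nonZeroDivisors j hj hx
  · ext r
    simp

/-- Descent of generic isomorphisms along injections of domains. -/
theorem gi_descend {A : Type u} [CommRing A] [IsDomain A] (j : O →+* A) (hj : Function.Injective j)
    {X C X' C' : Scheme.{u}} {f : X ⟶ C} {c : C ⟶ Spec (CommRingCat.of O)} {f' : X' ⟶ C'}
    {c' : C' ⟶ Spec (CommRingCat.of A)} {p : X' ⟶ X} {q : C' ⟶ C} (hX : IsPullback p f' f q)
    (hC : IsPullback q c' c (Spec.map (CommRingCat.ofHom j))) (h : GI f' c') : GI f c := by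
  obtain ⟨ι, e⟩ := exists_frac j hj
  let b : Spec (CommRingCat.of (FractionRing A)) ⟶ Spec (CommRingCat.of (FractionRing O)) :=
    Spec.map (CommRingCat.ofHom ι)
  have hb : b ≫ gp O = gp A ≫ Spec.map (CommRingCat.ofHom j) := by
    rw [← Spec.map_comp, ← Spec.map_comp, ← CommRingCat.ofHom_comp, ← CommRingCat.ofHom_comp, e]
  -- `C'_L ⟶ C_K`
  have H1 : IsPullback (pullback.fst c' (gp A)) (pullback.snd c' (gp A)) c' (gp A) :=
    IsPullback.of_hasPullback _ _
  have H2 := H1.paste_horiz hC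
  have H3 : IsPullback (pullback.fst c (gp O)) (pullback.snd c (gp O)) c (gp O) :=
    IsPullback.of_hasPullback _ _
  rw [← hb] at H2
  have hw : (pullback.fst c' (gp A) ≫ q) ≫ c = (pullback.snd c' (gp A) ≫ b) ≫ gp O := by
    rw [H2.w, Category.assoc]
  let m : pullback c' (gp A) ⟶ pullback c (gp O) := H3.lift _ _ hw
  have hm1 : m ≫ pullback.fst c (gp O) = pullback.fst c' (gp A) ≫ q := H3.lift_fst _ _ _
  have hm2 : m ≫ pullback.snd c (gp O) = pullback.snd c' (gp A) ≫ b := H3.lift_snd _ _ _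
  have H4 : IsPullback m (pullback.snd c' (gp A)) (pullback.snd c (gp O)) b := by
    rw [← hm1] at H2
    exact IsPullback.of_right H2 hm2 H3
  have hbP : (@Surjective ⊓ @Flat ⊓ @QuasiCompact : MorphismProperty Scheme.{u}) b := by
    refine ⟨⟨?_, ?_⟩, ?_⟩
    · constructor
      intro y
      exact ⟨(⊥ : PrimeSpectrum (FractionRing A)), Subsingleton.elim (α := PrimeSpectrum (FractionRing O)) _ _⟩
    · exact Groth.Agent.Fdesc.BaseField.flat_of_field b
    · exact (inferInstance : QuasiCompact b)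
  have hmP : (@Surjective ⊓ @Flat ⊓ @QuasiCompact : MorphismProperty Scheme.{u}) m :=
    ⟨⟨MorphismProperty.of_isPullback (P := @Surjective) H4.flip hbP.1.1,
      MorphismProperty.of_isPullback (P := @Flat) H4.flip hbP.1.2⟩,
      MorphismProperty.of_isPullback (P := @QuasiCompact) H4.flip hbP.2⟩
  -- `f'_L` is a base change of `f_K`
  have F1 : IsPullback (pullback.fst (f' ≫ c') (gp A)) (CInt.baseChangeOver f' c' (gp A)) f'
    (pullback.fst c' (gp A)) := bco_isPullback f' c' (gp A)
  have F2 := F1.paste_horiz hX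
  rw [← hm1] at F2
  have F3 : IsPullback (pullback.fst (f ≫ c) (gp O)) (CInt.baseChangeOver f c (gp O)) f
    (pullback.fst c (gp O)) := bco_isPullback f c (gp O)
  have hw2 : (pullback.fst (f' ≫ c') (gp A) ≫ p) ≫ f =
      (CInt.baseChangeOver f' c' (gp A) ≫ m) ≫ pullback.fst c (gp O) := by rw [F2.w, Category.assoc]
  have hn1 : F3.lift _ _ hw2 ≫ pullback.fst (f ≫ c) (gp O) = pullback.fst (f' ≫ c') (gp A) ≫ p :=
    F3.lift_fst _ _ _
  have hn2 : F3.lift _ _ hw2 ≫ CInt.baseChangeOver f c (gp O) = CInt.baseChangeOver f' c' (gp A) ≫ m :=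
    F3.lift_snd _ _ _
  rw [← hn1] at F2
  have F4 : IsPullback (F3.lift _ _ hw2) (CInt.baseChangeOver f' c' (gp A)) (CInt.baseChangeOver f c (gp O)) m :=
    IsPullback.of_right F2 hn2 F3
  exact MorphismProperty.of_isPullback_of_descendsAlong (P := MorphismProperty.isomorphisms Scheme.{u})
    (Q := @Surjective ⊓ @Flat ⊓ @QuasiCompact) F4.flip hmP h

end K851.BE
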