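import Groth.Agent.SSMod.K851.NG

/-!
# Minimality over a normal noetherian base
-/

set_option autoImplicit false
set_option linter.unusedSectionVars false
set_option linter.dupNamespace false
universe u

open CategoryTheory CategoryTheory.Limits AlgebraicGeometry TopologicalSpace IsLocalRing

namespace K851.NH

open K851.Fib K851.LemN K851.Et K851.Sep K851.Pt K851.Dat K851.DDef K851.Ext K851.NA K851.PQ K851.PR K851.NB
  K851.NC K851.ND K851.NE K851.NF K851.NG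

/-- Maximal generizations. -/
theorem exists_max {T : Scheme.{u}} (y : T) : ∃ η : T, η ⤳ y ∧ ∀ t, t ⤳ η → t = η := by
  have hirr := isIrreducible_irreducibleComponent (x := y)
  obtain ⟨η, hη⟩ := QuasiSober.sober hirr isClosed_irreducibleComponent
  refine ⟨η, hη.specializes mem_irreducibleComponent, fun t ht => ?_⟩
  have h1 : irreducibleComponent y ⊆ closure {t} := by
    rw [← hη.def]
    exact (isClosed_closure.closure_subset_iff).2 (Set.singleton_subset_iff.2 (specializes_iff_mem_closure.1 ht))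
  have h2 : closure {t} ⊆ irreducibleComponent y :=
    (irreducibleComponent_mem_irreducibleComponents y).2 (isIrreducible_singleton.closure) h1
  have h3 : closure {t} = closure {η} := by rw [hη.def]; exact le_antisymm h2 h1
  exact (inseparable_iff_closure_eq.2 h3).eq

section DVR

variable {V : Type u} [CommRing V] [IsDomain V] [IsDiscreteValuationRing V] [IsAlgClosed (ResidueField V)]
  [IsAdicComplete (maximalIdeal V) V]

theorem false_of_clopen_X (𝔇 : DD V) (W : (pullback 𝔇.qX (sp V)).Opens)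
    (hcl : IsClosed (W : Set ↥(pullback 𝔇.qX (sp V)))) [hcs : ConnectedSpace (W : Scheme.{u})]
    [huc : UniversallyClosed (W.ι ≫ pullback.snd 𝔇.qX (sp V))] (z₀ : ↥(pullback 𝔇.qX (sp V))) (hz₀ : z₀ ∈ W) :
    False := by
  obtain ⟨η, hη1, hη2⟩ := exists_max z₀
  have hnod := Groth.Agent.Sga7.H734.NodalBC.isNodalFamily_of_isPullback
    (IsPullback.of_hasPullback 𝔇.qX (sp V)) 𝔇.nX
  obtain ⟨y, hy1, hy2, -⟩ := exists_specializes (pullback.snd 𝔇.qX (sp V)) hnod η (fun t ht _ => hη2 t ht)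
  have hηW : η ∈ W := hη1.mem_open W.2 hz₀
  refine @false_of_clopen' V _ _ _ _ _ (selfDD 𝔇) W hcl hcs huc η hηW ?_
  intro hcon
  have h1 : IsClosed ({η} : Set ↥(pullback 𝔇.qX (sp V))) := by
    have h2 : ({η} : Set ↥(pullback 𝔇.qX (sp V))) =
        pullback.fst 𝔇.qX (sp V) ⁻¹' {pullback.fst 𝔇.qX (sp V) η} := by
      ext t
      simp only [Set.mem_singleton_iff, Set.mem_preimage]
      exact ⟨fun h => congrArg _ h, fun h => (pullback.fst 𝔇.qX (sp V)).isClosedEmbedding.injective h⟩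
    rw [h2]
    exact IsClosed.preimage (pullback.fst 𝔇.qX (sp V)).continuous hcon
  have h3 := specializes_iff_mem_closure.1 hy1
  rw [h1.closure_eq] at h3
  exact hy2 h3

end DVR

variable {O : Type u} [CommRing O] [IsDomain O] [IsNoetherianRing O] [IsIntegrallyClosed O] (𝔑 : NN O)

/-- The main theorem over a normal noetherian domain. -/
theorem nn_main {S' : Scheme.{u}} (ρ' : S' ⟶ Spec (CommRingCat.of O))
    (H : ∀ (Ω : Type u) [Field Ω] [IsAlgClosed Ω] (v' : Spec (CommRingCat.of Ω) ⟶ S'),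
      NoExcAt 𝔑 Ω (v' ≫ ρ')) (x : 𝔑.X) (hs : 𝔑.qX x ∈ Set.range ρ') : x ∈ gN 𝔑 := by
  by_contra hx
  obtain ⟨z, hz'⟩ := (infinite_of_bad (pN 𝔑) x hx).nonempty
  have hz : pN 𝔑 z = x := hz'
  have hb : 𝔑.qX x ∉ Dπ 𝔑.b := fun h => hx (XK_le_gN 𝔑 h)
  obtain ⟨A, i1, i2, i3, a, ha, hA⟩ := exists_dvr_at 𝔑 z (by rw [hz]; exact hb)
  have hax : ∀ t, (sp A ≫ a ≫ pN 𝔑) t = x := fun t => by
    rw [Scheme.Hom.comp_apply, Scheme.Hom.comp_apply, map_residue (CommRingCat.of A) t, ha, hz]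
  obtain ⟨Ω, k1, k2, ρ, -, -, -, -⟩ := exists_common (sp A ≫ a ≫ pN 𝔑) (sp A ≫ a ≫ pN 𝔑) 𝔑.qX ρ' x hax hax hs
  obtain ⟨V, j1, j2, j3, φ, e, j4, j5, hφ, he⟩ := exists_complete A Ω ρ
  obtain ⟨π, hπ⟩ := IsDiscreteValuationRing.exists_irreducible V
  let ψ : O →+* V := φ.comp (ro (a ≫ pN 𝔑 ≫ 𝔑.qX))
  have hψ : Spec.map (CommRingCat.ofHom ψ) = Spec.map (CommRingCat.ofHom φ) ≫ a ≫ pN 𝔑 ≫ 𝔑.qX := by
    have h1 : CommRingCat.ofHom ψ = CommRingCat.ofHom (ro (a ≫ pN 𝔑 ≫ 𝔑.qX)) ≫ CommRingCat.ofHom φ := rfl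
    rw [h1, Spec.map_comp, map_ro]
  have hψb : Function.Injective ψ := hφ.comp hA
  let β : Spec (CommRingCat.of Ω) ⟶ Spec (CommRingCat.of V) :=
    Spec.map (CommRingCat.ofHom (e : ResidueField V →+* Ω)) ≫ sp V
  have hβ1 : β ≫ Spec.map (CommRingCat.ofHom φ) = Spec.map (CommRingCat.ofHom ρ) ≫ sp A := by
    rw [Category.assoc, ← Spec.map_comp, ← Spec.map_comp, ← Spec.map_comp]
    congr 1
    ext r
    exact he r
  let t₀ : Spec (CommRingCat.of Ω) := (⊥ : PrimeSpectrum Ω)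
  have hφcp : Spec.map (CommRingCat.ofHom φ) (cp (CommRingCat.of V)) = cp (CommRingCat.of A) := by
    have h1 : β t₀ = cp (CommRingCat.of V) := by
      rw [Scheme.Hom.comp_apply]; exact map_residue (CommRingCat.of V) _
    rw [← h1, ← Scheme.Hom.comp_apply, hβ1, Scheme.Hom.comp_apply]
    exact map_residue (CommRingCat.of A) _
  let σ := Spec.map (CommRingCat.ofHom ψ)
  let τ : Spec (CommRingCat.of (ResidueField V)) ⟶ Spec (CommRingCat.of O) := sp V ≫ σ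
  have hτ : ∀ t, τ t = 𝔑.qX x := by
    intro t
    have h1 : (sp V) t = cp (CommRingCat.of V) := map_residue (CommRingCat.of V) t
    change (sp V ≫ σ) t = _
    rw [Scheme.Hom.comp_apply, h1]
    change Spec.map (CommRingCat.ofHom ψ) (cp (CommRingCat.of V)) = _
    rw [hψ, Scheme.Hom.comp_apply, hφcp, Scheme.Hom.comp_apply, Scheme.Hom.comp_apply, ha, hz]
  let t₁ : Spec (CommRingCat.of (ResidueField V)) := (⊥ : PrimeSpectrum (ResidueField V))
  obtain ⟨w₀, hw₀, -⟩ := Scheme.Pullback.exists_preimage_pullback x t₁ (f := 𝔑.qX) (g := τ) (hτ t₁).symm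
  let B : Set ↥(pullback 𝔑.qX τ) := {w | pullback.fst 𝔑.qX τ w ∉ gN 𝔑}
  have hBo : IsOpen B := isOpen_bad 𝔑 ρ' H _ τ (fun t => by rw [hτ]; exact hs)
  have hBc : IsClosed B := by
    rw [← isOpen_compl_iff]
    have : Bᶜ = pullback.fst 𝔑.qX τ ⁻¹' (gN 𝔑 : Set 𝔑.X) := by
      ext w
      exact not_not
    rw [this]
    exact (gN 𝔑).2.preimage (pullback.fst 𝔑.qX τ).continuous
  have hlc : LocallyConnectedSpace ↥(pullback 𝔑.qX τ) :=
    Groth.Agent.Sga3C.LocConn.locallyConnectedSpace_of_isLocallyNoetherian _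
  let W₀ : Set ↥(pullback 𝔑.qX τ) := connectedComponent w₀
  have hW₀ : W₀ ⊆ B := IsClopen.connectedComponent_subset ⟨hBc, hBo⟩ (by
    change pullback.fst 𝔑.qX τ w₀ ∉ gN 𝔑
    rw [hw₀]; exact hx)
  have hW₀o : IsOpen W₀ := isOpen_connectedComponent
  have hW₀c : IsClosed W₀ := isClosed_connectedComponent
  obtain ⟨w₁, hw₁, hw₁c, hcon⟩ := contracted 𝔑 τ W₀ hW₀c isPreconnected_connectedComponent
    ⟨w₀, mem_connectedComponent⟩ (fun w hw => hW₀ hw)
  let W : (pullback 𝔑.qX τ).Opens := ⟨W₀, hW₀o⟩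
  have huc := universallyClosed_of_contracted 𝔑 τ W hW₀c w₁ hw₁c hcon
  have hconn : ConnectedSpace (W : Scheme.{u}) :=
    isConnected_iff_connectedSpace.1 (isConnected_connectedComponent (x := w₀))
  -- transfer
  let 𝔇 := toDD 𝔑 hπ ψ hψb
  let f' := CInt.baseChangeOver 𝔑.f 𝔑.c σ
  let c' := pullback.snd 𝔑.c σ
  have H1 : IsPullback (pullback.fst (f' ≫ c') (sp V)) (pullback.snd (f' ≫ c') (sp V)) (f' ≫ c') (sp V) :=
    IsPullback.of_hasPullback _ _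
  have H2 : IsPullback (pullback.fst (𝔑.f ≫ 𝔑.c) σ) (f' ≫ c') (𝔑.f ≫ 𝔑.c) σ := by
    have : f' ≫ c' = pullback.snd (𝔑.f ≫ 𝔑.c) σ := bco_snd _ _ _
    rw [this]
    exact IsPullback.of_hasPullback _ _
  have H3 := H1.paste_horiz H2
  let Φ : pullback (f' ≫ c') (sp V) ⟶ pullback (𝔑.f ≫ 𝔑.c) τ := H3.isoPullback.hom
  have hΦ2 : Φ ≫ pullback.snd (𝔑.f ≫ 𝔑.c) τ = pullback.snd (f' ≫ c') (sp V) :=
    H3.isoPullback_hom_snd
  let W' : (pullback (f' ≫ c') (sp V)).Opens := Φ ⁻¹ᵁ W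
  have hW'c : IsClosed (W' : Set ↥(pullback (f' ≫ c') (sp V))) := hW₀c.preimage Φ.continuous
  have hconn' : ConnectedSpace (W' : Scheme.{u}) := by
    let hh := (asIso (Φ ∣_ W)).inv.homeomorph
    have h1 : Function.Surjective hh := hh.surjective
    exact h1.connectedSpace hh.continuous
  have huc' : UniversallyClosed (W'.ι ≫ pullback.snd (f' ≫ c') (sp V)) := by
    have h1 : W'.ι ≫ pullback.snd (f' ≫ c') (sp V) = (Φ ∣_ W) ≫ W.ι ≫ pullback.snd (𝔑.f ≫ 𝔑.c) τ := by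
      rw [← hΦ2, ← Category.assoc, ← morphismRestrict_ι, Category.assoc]
    rw [h1]; infer_instance
  obtain ⟨z₀, hz₀⟩ : ∃ z₀, Φ z₀ = w₀ := Φ.homeomorph.surjective w₀
  refine @false_of_clopen_X V _ _ _ _ _ 𝔇 W' hW'c hconn' huc' z₀ ?_
  change Φ z₀ ∈ W
  rw [hz₀]
  exact mem_connectedComponent

/-- A morphism extending the isomorphism over the dense open. -/
theorem nn_hom {S' : Scheme.{u}} (ρ' : S' ⟶ Spec (CommRingCat.of O))
    (H : ∀ (Ω : Type u) [Field Ω] [IsAlgClosed Ω] (v' : Spec (CommRingCat.of Ω) ⟶ S'),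
      NoExcAt 𝔑 Ω (v' ≫ ρ')) {T : Scheme.{u}} (t : T ⟶ 𝔑.X) (hT : ∀ y, 𝔑.qX (t y) ∈ Set.range ρ') :
    ∃ h : T ⟶ 𝔑.Y, h ≫ 𝔑.g = t ≫ 𝔑.f := by
  obtain ⟨h, h1, -⟩ := exists_ext (XK 𝔑).ι 𝔑.f 𝔑.g (hK 𝔑) (hK_g 𝔑) (ic 𝔑)
  refine ⟨IsOpenImmersion.lift (gN 𝔑).ι t ?_ ≫ h, ?_⟩
  · rw [Scheme.Opens.range_ι]
    rintro _ ⟨y, rfl⟩
    exact nn_main 𝔑 ρ' H _ (hT y)
  · rw [Category.assoc, h1, ← Category.assoc, IsOpenImmersion.lift_fac]

end K851.NH
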