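import Groth.Agent.SSMod.K851.BD
import Groth.Agent.SSMod.K851.BA
import Groth.Agent.SSMod.K851.BE
import Groth.Agent.SSMod.K851.NH

/-!
# Minimality over normal affine bases, for affine curves
-/

set_option autoImplicit false
set_option linter.unusedSectionVars false
set_option linter.dupNamespace false
universe u

open CategoryTheory CategoryTheory.Limits AlgebraicGeometry TopologicalSpace

namespace K851.BF

open Groth.Agent.CalgA.LimFP K851.DDef K851.NB K851.BE K851.PQ

variable {A : Type u} [CommRing A] [IsDomain A]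

/-- A model over a normal noetherian subring. -/
structure Cl {C' X' Y' DX' DY' : Scheme.{u}} (c' : C' ⟶ Spec (CommRingCat.of A)) (f' : X' ⟶ C')
    (g' : Y' ⟶ C') (iX' : DX' ⟶ X') (iY' : DY' ⟶ Y') where
  O : Type u
  [cr : CommRing O]
  [dom : IsDomain O]
  [noe : IsNoetherianRing O]
  [ic : IsIntegrallyClosed O]
  j : O →+* A
  hj : Function.Injective j
  C : Scheme.{u}
  X : Scheme.{u}
  Y : Scheme.{u}
  DX : Scheme.{u}
  DY : Scheme.{u}
  c : C ⟶ Spec (CommRingCat.of O)
  f : X ⟶ C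
  g : Y ⟶ C
  iX : DX ⟶ X
  iY : DY ⟶ Y
  pC : C' ⟶ C
  pX : X' ⟶ X
  pY : Y' ⟶ Y
  pDX : DX' ⟶ DX
  pDY : DY' ⟶ DY
  hC : IsPullback pC c' c (Spec.map (CommRingCat.ofHom j))
  hX : IsPullback pX f' f pC
  hY : IsPullback pY g' g pC
  hDX : IsPullback pDX iX' iX pX
  hDY : IsPullback pDY iY' iY pY
  aC : IsAffine C
  lC : LocallyOfFinitePresentation c
  pf : IsProper f
  pg : IsProper g
  cX : IsClosedImmersion iX
  cY : IsClosedImmersion iY
  nX : Curv2.IsNodalFamily (f ≫ c)
  nY : Curv2.IsNodalFamily (g ≫ c)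
  lX : LocallyOfFinitePresentation (f ≫ c)
  lY : LocallyOfFinitePresentation (g ≫ c)
  eX : Etale (iX ≫ f ≫ c)
  eY : Etale (iY ≫ g ≫ c)
  sX : ∀ d, iX d ∈ (f ≫ c).smoothLocus
  sY : ∀ d, iY d ∈ (g ≫ c).smoothLocus

attribute [instance] Cl.cr Cl.dom Cl.noe Cl.ic Cl.aC Cl.lC Cl.pf Cl.pg Cl.cX Cl.cY Cl.lX Cl.lY Cl.eX Cl.eY

theorem nonempty_cl [IsIntegrallyClosed A] {C' X' Y' DX' DY' : Scheme.{u}}
    (c' : C' ⟶ Spec (CommRingCat.of A)) (f' : X' ⟶ C')
    (g' : Y' ⟶ C') (iX' : DX' ⟶ X') (iY' : DY' ⟶ Y') [IsAffine C'] [LocallyOfFinitePresentation c']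
    [LocallyOfFinitePresentation (f' ≫ c')] [LocallyOfFinitePresentation (g' ≫ c')]
    (pf : IsProper f') (pg : IsProper g') (cX : IsClosedImmersion iX')
    (cY : IsClosedImmersion iY') (nX : Curv2.IsNodalFamily (f' ≫ c')) (nY : Curv2.IsNodalFamily (g' ≫ c'))
    (eX : Etale (iX' ≫ f' ≫ c')) (eY : Etale (iY' ≫ g' ≫ c')) (sX : ∀ d, iX' d ∈ (f' ≫ c').smoothLocus)
    (sY : ∀ d, iY' d ∈ (g' ≫ c').smoothLocus) : Nonempty (Cl c' f' g' iX' iY') := by
  have i1 : ∀ i, CompactSpace ((K851.BA.specDiagram A).obj i) := fun i => inferInstance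
  have i2 : ∀ i, QuasiSeparatedSpace ((K851.BA.specDiagram A).obj i) := fun i => inferInstance
  have i3 : LocallyOfFinitePresentation (Y := (K851.BA.specCone A).pt) c' := ‹_›
  have i4 : QuasiCompact (Y := (K851.BA.specCone A).pt) c' :=
    inferInstanceAs (QuasiCompact (Y := Spec (CommRingCat.of A)) c')
  have i5 : QuasiSeparated (Y := (K851.BA.specCone A).pt) c' :=
    inferInstanceAs (QuasiSeparated (Y := Spec (CommRingCat.of A)) c')
  have i6 : LocallyOfFinitePresentation (Y := (K851.BA.specCone A).pt) (f' ≫ c') :=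
    ‹LocallyOfFinitePresentation (f' ≫ c')›
  have i7 : LocallyOfFinitePresentation (Y := (K851.BA.specCone A).pt) (g' ≫ c') :=
    ‹LocallyOfFinitePresentation (g' ≫ c')›
  have i8 : IsAffineHom (Y := (K851.BA.specCone A).pt) c' :=
    inferInstanceAs (IsAffineHom (Y := Spec (CommRingCat.of A)) c')
  obtain ⟨i, T, hT⟩ := K851.BD.exists_all (D := K851.BA.specDiagram A) (c := K851.BA.specCone A)
    (K851.BA.isLimitSpecCone A) (c' := c') (f' := f') (g' := g') (iX' := iX') (iY' := iY')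
    i8 pf pg cX cY nX nY eX eY sX sY
  have lC : LocallyOfFinitePresentation T.MC.f := T.MC.lfp
  have lX : LocallyOfFinitePresentation (T.hf.φ ≫ T.MC.f) := by rw [T.hf.w]; exact T.MX.lfp
  have lY : LocallyOfFinitePresentation (T.hg.φ ≫ T.MC.f) := by rw [T.hg.w]; exact T.MY.lfp
  have haff := hT.aff
  exact ⟨{
    O := i.unop.1
    j := i.unop.1.val.toRingHom
    hj := Subtype.val_injective
    C := T.MC.A
    X := T.MX.A
    Y := T.MY.A
    DX := T.MDX.A
    DY := T.MDY.A
    c := T.MC.f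
    f := T.hf.φ
    g := T.hg.φ
    iX := T.hX.φ
    iY := T.hY.φ
    pC := T.MC.p
    pX := T.MX.p
    pY := T.MY.p
    pDX := T.MDX.p
    pDY := T.MDY.p
    hC := T.MC.h
    hX := T.hf.isPullback
    hY := T.hg.isPullback
    hDX := T.hX.isPullback
    hDY := T.hY.isPullback
    aC := isAffine_of_isAffineHom T.MC.f
    lC := lC
    pf := hT.pf
    pg := hT.pg
    cX := hT.cX
    cY := hT.cY
    nX := by
      have := hT.nX
      rw [← T.hf.w] at this
      exact this
    nY := by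
      have := hT.nY
      rw [← T.hg.w] at this
      exact this
    lX := lX
    lY := lY
    eX := by
      have := hT.eX
      rw [← T.hX.w, ← T.hf.w] at this
      exact this
    eY := by
      have := hT.eY
      rw [← T.hY.w, ← T.hg.w] at this
      exact this
    sX := by
      intro d
      have := T.MX.lfp
      exact (K851.FB.mem_congr T.hf.w rfl).2 (hT.sX d)
    sY := by
      intro d
      have := T.MY.lfp
      exact (K851.FB.mem_congr T.hg.w rfl).2 (hT.sY d) }⟩

end K851.BF
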