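import Groth.Agent.SSMod.K851.BF

/-!
# Minimality over normal affine bases, for affine curves: the proof
-/

set_option autoImplicit false
set_option linter.unusedSectionVars false
set_option linter.dupNamespace false
universe u

open CategoryTheory CategoryTheory.Limits AlgebraicGeometry TopologicalSpace

namespace K851.BG

open K851.DDef K851.NB K851.BE K851.PQ K851.BF

variable {A : Type u} [CommRing A] [IsDomain A] {C' X' Y' DX' DY' : Scheme.{u}}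
  {c' : C' ⟶ Spec (CommRingCat.of A)} {f' : X' ⟶ C'} {g' : Y' ⟶ C'} {iX' : DX' ⟶ X'} {iY' : DY' ⟶ Y'}
  (M : Cl c' f' g' iX' iY')

theorem exists_pt {X S X' S' : Scheme.{u}} {a : X' ⟶ X} {f' : X' ⟶ S'} {f : X ⟶ S} {g : S' ⟶ S}
    (H : IsPullback a f' f g) (x : X) (s : S') (h : f x = g s) : ∃ x', a x' = x ∧ f' x' = s := by
  obtain ⟨w, hw1, hw2⟩ := Scheme.Pullback.exists_preimage_pullback x s h
  refine ⟨H.isoPullback.inv w, ?_, ?_⟩
  · rw [← Scheme.Hom.comp_apply, H.isoPullback_inv_fst, hw1]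
  · rw [← Scheme.Hom.comp_apply, H.isoPullback_inv_snd, hw2]

theorem lfp_of_comp {X Y Z : Scheme.{u}} (f : X ⟶ Y) (g : Y ⟶ Z) [LocallyOfFiniteType g]
    [LocallyOfFinitePresentation (f ≫ g)] : LocallyOfFinitePresentation f :=
  Groth.Agent.Ega43.FPOfComp.locallyOfFinitePresentation_of_comp f g

theorem isIso_of_le {X C : Scheme.{u}} (f : X ⟶ C) (W W' : C.Opens) (h : W' ≤ W) (hW : IsIso (f ∣_ W)) :
    IsIso (f ∣_ W') :=
  isIso_restrict (IsPullback.of_horiz_isIso (fst := 𝟙 X) (snd := f) (f := f) (g := 𝟙 C) ⟨by simp⟩)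
    W W' fun z hz => h hz

theorem D_mul_left {O : Type u} [CommRing O] (b₁ b₂ : O) {C : Scheme.{u}} (c : C ⟶ Spec (CommRingCat.of O)) :
    c ⁻¹ᵁ Dπ (b₁ * b₂) ≤ c ⁻¹ᵁ Dπ b₁ := by
  intro z hz hcon
  exact hz (Ideal.mul_mem_right _ _ hcon)

theorem D_mul_right {O : Type u} [CommRing O] (b₁ b₂ : O) {C : Scheme.{u}} (c : C ⟶ Spec (CommRingCat.of O)) :
    c ⁻¹ᵁ Dπ (b₁ * b₂) ≤ c ⁻¹ᵁ Dπ b₂ := by
  intro z hz hcon
  exact hz (Ideal.mul_mem_left _ _ hcon)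

theorem exists_bX (gX : GI f' c') : ∃ b : M.O, b ≠ 0 ∧ IsIso (M.f ∣_ (M.c ⁻¹ᵁ Dπ b)) := by
  have := lfp_of_comp M.f M.c
  exact exists_open M.f M.c (gi_descend M.j M.hj M.hX M.hC gX)

theorem exists_bY (gY : GI g' c') : ∃ b : M.O, b ≠ 0 ∧ IsIso (M.g ∣_ (M.c ⁻¹ᵁ Dπ b)) := by
  have := lfp_of_comp M.g M.c
  exact exists_open M.g M.c (gi_descend M.j M.hj M.hY M.hC gY)

/-- The pair over the normal noetherian subring. -/
noncomputable def toNN (gX : GI f' c') (gY : GI g' c')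
    (hD : ∀ (x : X') (y : Y'), f' x = g' y → (c' (f' x) : PrimeSpectrum A).asIdeal = ⊥ →
      y ∈ Set.range iY' → x ∈ Set.range iX') : NN M.O where
  b := (exists_bX M gX).choose * (exists_bY M gY).choose
  hb := mul_ne_zero (exists_bX M gX).choose_spec.1 (exists_bY M gY).choose_spec.1
  C := M.C
  X := M.X
  Y := M.Y
  DX := M.DX
  DY := M.DY
  c := M.c
  f := M.f
  g := M.g
  iX := M.iX
  iY := M.iY
  pf := M.pf
  pg := M.pg
  aC := M.aC
  fc := inferInstance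
  nX := M.nX
  nY := M.nY
  lX := M.lX
  lY := M.lY
  cX := M.cX
  cY := M.cY
  eX := M.eX
  eY := M.eY
  sX := M.sX
  sY := M.sY
  isoX := isIso_of_le M.f _ _ (D_mul_left _ _ _) (exists_bX M gX).choose_spec.2
  isoY := isIso_of_le M.g _ _ (D_mul_right _ _ _) (exists_bY M gY).choose_spec.2
  hD := by
    rintro x _ hxy hx ⟨d, rfl⟩
    let s : Spec (CommRingCat.of A) := (⊥ : PrimeSpectrum A)
    have hs : M.c (M.f x) = Spec.map (CommRingCat.ofHom M.j) s := by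
      apply PrimeSpectrum.ext
      rw [hx]
      change ⊥ = (⊥ : Ideal A).comap M.j
      exact ((RingHom.injective_iff_ker_eq_bot M.j).1 M.hj).symm
    obtain ⟨z', hz1, hz2⟩ := exists_pt M.hC (M.f x) s hs
    obtain ⟨x', hx1, hx2⟩ := exists_pt M.hX x z' hz1.symm
    obtain ⟨y', hy1, hy2⟩ := exists_pt M.hY (M.iY d) z' (by rw [← hxy, hz1])
    obtain ⟨d', hd1, hd2⟩ := exists_pt M.hDY d y' hy1.symm
    obtain ⟨e, he⟩ := hD x' y' (by rw [hx2, hy2]) (by rw [hx2, hz2]; rfl) ⟨d', hd2⟩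
    refine ⟨M.pDX e, ?_⟩
    rw [← Scheme.Hom.comp_apply, M.hDX.w, Scheme.Hom.comp_apply, he, hx1]

theorem noExcAt (gX : GI f' c') (gY : GI g' c')
    (hD : ∀ (x : X') (y : Y'), f' x = g' y → (c' (f' x) : PrimeSpectrum A).asIdeal = ⊥ →
      y ∈ Set.range iY' → x ∈ Set.range iX')
    (hno : SSMod.NoExcComp c' iY' g')
    (Ω : Type u) [Field Ω] [IsAlgClosed Ω] (v' : Spec (CommRingCat.of Ω) ⟶ Spec (CommRingCat.of A)) :
    NoExcAt (toNN M gX gY hD) Ω (v' ≫ Spec.map (CommRingCat.ofHom M.j)) := by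
  intro Z hZ hexc
  let σ := Spec.map (CommRingCat.ofHom M.j)
  have H1 : IsPullback (pullback.fst (g' ≫ c') v') (pullback.snd (g' ≫ c') v') (g' ≫ c') v' :=
    IsPullback.of_hasPullback _ _
  have H2 : IsPullback M.pY (g' ≫ c') (M.g ≫ M.c) σ := M.hY.paste_vert M.hC
  have H3 := H1.paste_horiz H2
  let Φ : pullback (M.g ≫ M.c) (v' ≫ σ) ⟶ pullback (g' ≫ c') v' := H3.isoPullback.inv
  have hΦ1 : Φ ≫ (pullback.fst (g' ≫ c') v' ≫ M.pY) = pullback.fst (M.g ≫ M.c) (v' ≫ σ) :=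
    H3.isoPullback_inv_fst
  have hΦ2 : Φ ≫ pullback.snd (g' ≫ c') v' = pullback.snd (M.g ≫ M.c) (v' ≫ σ) := H3.isoPullback_inv_snd
  have G1 : IsPullback (pullback.fst c' v') (pullback.snd c' v') c' v' := IsPullback.of_hasPullback _ _
  have G3 := G1.paste_horiz M.hC
  let Ψ : pullback M.c (v' ≫ σ) ⟶ pullback c' v' := G3.isoPullback.inv
  have hΨ1 : Ψ ≫ (pullback.fst c' v' ≫ M.pC) = pullback.fst M.c (v' ≫ σ) := G3.isoPullback_inv_fst
  have hΨ2 : Ψ ≫ pullback.snd c' v' = pullback.snd M.c (v' ≫ σ) := G3.isoPullback_inv_snd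
  have hlY := M.lY
  have hl' : LocallyOfFinitePresentation (g' ≫ c') :=
    MorphismProperty.of_isPullback (P := @LocallyOfFinitePresentation) H2 hlY
  refine hno Ω v' (Φ '' Z) (image_mem_irreducibleComponents Φ.homeomorph Z hZ)
    (excComp_iso (CInt.baseChangeOver M.g M.c (v' ≫ σ)) _ (pullback.snd (M.g ≫ M.c) (v' ≫ σ)) _ _ _ Φ Ψ ?_
      hΦ2 ?_ Z hexc)
  · have e1 : CInt.baseChangeOver g' c' v' ≫ pullback.fst c' v' = pullback.fst (g' ≫ c') v' ≫ g' :=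
      bco_fst _ _ _
    have e2 : CInt.baseChangeOver g' c' v' ≫ pullback.snd c' v' = pullback.snd (g' ≫ c') v' := bco_snd _ _ _
    have e3 : CInt.baseChangeOver M.g M.c (v' ≫ σ) ≫ pullback.fst M.c (v' ≫ σ) =
      pullback.fst (M.g ≫ M.c) (v' ≫ σ) ≫ M.g := bco_fst _ _ _
    have e4 : CInt.baseChangeOver M.g M.c (v' ≫ σ) ≫ pullback.snd M.c (v' ≫ σ) =
      pullback.snd (M.g ≫ M.c) (v' ≫ σ) := bco_snd _ _ _
    apply G3.hom_ext
    · calc (Φ ≫ CInt.baseChangeOver g' c' v') ≫ pullback.fst c' v' ≫ M.pC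
          = Φ ≫ (CInt.baseChangeOver g' c' v' ≫ pullback.fst c' v') ≫ M.pC := by
            simp only [Category.assoc]
        _ = (Φ ≫ (pullback.fst (g' ≫ c') v' ≫ M.pY)) ≫ M.g := by
            rw [e1]; simp only [Category.assoc]; rw [M.hY.w]
        _ = CInt.baseChangeOver M.g M.c (v' ≫ σ) ≫ (Ψ ≫ (pullback.fst c' v' ≫ M.pC)) := by
            rw [hΦ1, hΨ1, e3]
        _ = _ := (Category.assoc _ _ _).symm
    · calc (Φ ≫ CInt.baseChangeOver g' c' v') ≫ pullback.snd c' v'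
          = Φ ≫ (CInt.baseChangeOver g' c' v' ≫ pullback.snd c' v') := Category.assoc _ _ _
        _ = pullback.snd (M.g ≫ M.c) (v' ≫ σ) := by rw [e2, hΦ2]
        _ = CInt.baseChangeOver M.g M.c (v' ≫ σ) ≫ (Ψ ≫ pullback.snd c' v') := by rw [hΨ2, e4]
        _ = _ := (Category.assoc _ _ _).symm
  · have key : ∀ y : ↥(pullback (M.g ≫ M.c) (v' ≫ σ)),
        (pullback.fst (M.g ≫ M.c) (v' ≫ σ) y ∈ Set.range M.iY ↔
          pullback.fst (g' ≫ c') v' (Φ y) ∈ Set.range iY') := by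
      intro y
      have e5 : pullback.fst (M.g ≫ M.c) (v' ≫ σ) y = M.pY (pullback.fst (g' ≫ c') v' (Φ y)) := by
        rw [← hΦ1, Scheme.Hom.comp_apply, Scheme.Hom.comp_apply]
      rw [e5]
      constructor
      · rintro ⟨d, hd⟩
        obtain ⟨d', -, hd2⟩ := exists_pt M.hDY d _ hd
        exact ⟨d', hd2⟩
      · rintro ⟨d', hd'⟩
        rw [← hd', ← Scheme.Hom.comp_apply, ← M.hDY.w]
        exact ⟨_, (Scheme.Hom.comp_apply _ _ _).symm⟩
    ext y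
    exact key y

/-- Minimality for affine curves over affine normal bases. -/
theorem affine_hom [IsIntegrallyClosed A] (c' : C' ⟶ Spec (CommRingCat.of A)) (f' : X' ⟶ C')
    (g' : Y' ⟶ C') (iX' : DX' ⟶ X') (iY' : DY' ⟶ Y') [IsAffine C'] [LocallyOfFinitePresentation c']
    [LocallyOfFinitePresentation (f' ≫ c')] [LocallyOfFinitePresentation (g' ≫ c')]
    (pf : IsProper f') (pg : IsProper g') (cX : IsClosedImmersion iX')
    (cY : IsClosedImmersion iY') (nX : Curv2.IsNodalFamily (f' ≫ c')) (nY : Curv2.IsNodalFamily (g' ≫ c'))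
    (eX : Etale (iX' ≫ f' ≫ c')) (eY : Etale (iY' ≫ g' ≫ c')) (sX : ∀ d, iX' d ∈ (f' ≫ c').smoothLocus)
    (sY : ∀ d, iY' d ∈ (g' ≫ c').smoothLocus) (gX : GI f' c') (gY : GI g' c')
    (hD : ∀ (x : X') (y : Y'), f' x = g' y → (c' (f' x) : PrimeSpectrum A).asIdeal = ⊥ →
      y ∈ Set.range iY' → x ∈ Set.range iX') (hno : SSMod.NoExcComp c' iY' g') :
    ∃ h : X' ⟶ Y', h ≫ g' = f' := by
  obtain ⟨M⟩ := nonempty_cl c' f' g' iX' iY' pf pg cX cY nX nY eX eY sX sY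
  let 𝔑 := toNN M gX gY hD
  obtain ⟨h, hh⟩ := K851.NH.nn_hom 𝔑 (Spec.map (CommRingCat.ofHom M.j))
    (fun Ω _ _ v' => noExcAt M gX gY hD hno Ω v') (T := X') M.pX (fun y => by
      change (M.f ≫ M.c) (M.pX y) ∈ _
      have h1 : (M.f ≫ M.c) (M.pX y) = Spec.map (CommRingCat.ofHom M.j) ((f' ≫ c') y) := by
        rw [← Scheme.Hom.comp_apply, ← Scheme.Hom.comp_apply]
        have h2 := (M.hX.paste_vert M.hC).w
        rw [h2]
      rw [h1]
      exact ⟨_, rfl⟩)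
  have hh' : h ≫ M.g = f' ≫ M.pC := hh.trans M.hX.w
  exact ⟨M.hY.lift h f' hh', M.hY.lift_snd _ _ _⟩

end K851.BG
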