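import Groth.Agent.SSMod.K851.Ext
import Groth.Agent.SSMod.K851.Curve
import Mathlib.AlgebraicGeometry.Morphisms.UniversallyInjective

/-!
# Points where the closure of a graph is not quasi-finite
-/

set_option autoImplicit false
set_option linter.unusedSectionVars false
universe u

open CategoryTheory CategoryTheory.Limits AlgebraicGeometry TopologicalSpace

namespace K851.Bad

open K851.Ext

variable {U X Y C : Scheme.{u}} (i : U ⟶ X) [IsOpenImmersion i] [QuasiCompact i] (j : X ⟶ C)
  (f : Y ⟶ C) [IsProper f] (h : U ⟶ Y) (w : i ≫ j = h ≫ f)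

/-- Fibres of the closure of the graph over rational points embed in the target. -/
theorem mono_fiber (t : X) [Mono (X.fromSpecResidueField t ≫ j)] :
    Mono ((pX i j f h w).fiberι t ≫ pY i j f h w) := by
  refine ⟨fun a b hab => ?_⟩
  have h1 : a ≫ (pX i j f h w).fiberToSpecResidueField t = b ≫ (pX i j f h w).fiberToSpecResidueField t := by
    rw [← cancel_mono (X.fromSpecResidueField t ≫ j)]
    have h2 : (pX i j f h w).fiberι t ≫ pX i j f h w =
        (pX i j f h w).fiberToSpecResidueField t ≫ X.fromSpecResidueField t := pullback.condition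
    have h3 : ∀ (A : Scheme.{u}) (a : A ⟶ (pX i j f h w).fiber t),
        (a ≫ (pX i j f h w).fiberToSpecResidueField t) ≫ X.fromSpecResidueField t ≫ j =
          (a ≫ (pX i j f h w).fiberι t ≫ pY i j f h w) ≫ f := by
      intro A a
      rw [Category.assoc, ← Category.assoc ((pX i j f h w).fiberToSpecResidueField t), ← h2,
        Category.assoc, Category.assoc, Category.assoc, pX_pY]
    rw [h3, h3, hab]
  apply pullback.hom_ext
  · apply Gm_hom_ext i j f h w
    · have h2 : (pX i j f h w).fiberι t ≫ pX i j f h w =
        (pX i j f h w).fiberToSpecResidueField t ≫ X.fromSpecResidueField t := pullback.condition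
      change (a ≫ (pX i j f h w).fiberι t) ≫ _ = (b ≫ (pX i j f h w).fiberι t) ≫ _
      rw [Category.assoc, Category.assoc, h2, ← Category.assoc, ← Category.assoc, h1]
    · change (a ≫ (pX i j f h w).fiberι t) ≫ _ = (b ≫ (pX i j f h w).fiberι t) ≫ _
      rw [Category.assoc, Category.assoc, hab]
  · exact h1

theorem eq_of_pY_eq (t : X) [Mono (X.fromSpecResidueField t ≫ j)] (z z' : Gm i j f h w)
    (hz : pX i j f h w z = t) (hz' : pX i j f h w z' = t) (hzz : pY i j f h w z = pY i j f h w z') :
    z = z' := by
  have h1 := mono_fiber i j f h w t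
  subst hz
  obtain ⟨y', hy'⟩ : z' ∈ Set.range ((pX i j f h w).fiberι (pX i j f h w z)) := by
    rw [Scheme.Hom.range_fiberι]; exact hz'
  have h2 : (pX i j f h w).fiberι _ ((pX i j f h w).asFiber z) = z := Scheme.Hom.fiberι_asFiber _ _
  have h3 : (pX i j f h w).asFiber z = y' := by
    apply ((pX i j f h w).fiberι (pX i j f h w z) ≫ pY i j f h w).injective
    rw [Scheme.Hom.comp_apply, Scheme.Hom.comp_apply, h2, hy', hzz]
  rw [← h2, h3, hy']

/-- Over a bad rational point there is a point of the closure of the graph with non-closed image. -/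
theorem exists_not_isClosed (t : X) [Mono (X.fromSpecResidueField t ≫ j)]
    (ht : t ∉ good (pX i j f h w)) : ∃ z, pX i j f h w z = t ∧ ¬ IsClosed ({pY i j f h w z} : Set Y) := by
  by_contra hcon
  push Not at hcon
  apply ht
  rw [mem_good]
  intro z hz
  have h1 := mono_fiber i j f h w t
  subst hz
  have hcl : ∀ z' : (pX i j f h w).fiber (pX i j f h w z), IsClosed ({z'} : Set _) := by
    intro z'
    have h2 : pX i j f h w ((pX i j f h w).fiberι _ z') = pX i j f h w z := by
      have : (pX i j f h w).fiberι _ z' ∈ Set.range ((pX i j f h w).fiberι (pX i j f h w z)) := ⟨z', rfl⟩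
      rw [Scheme.Hom.range_fiberι] at this
      exact this
    have h3 := hcon _ h2
    have h4 : ({z'} : Set _) = ((pX i j f h w).fiberι (pX i j f h w z) ≫ pY i j f h w) ⁻¹'
        {pY i j f h w ((pX i j f h w).fiberι _ z')} := by
      ext y
      simp only [Set.mem_singleton_iff, Set.mem_preimage]
      constructor
      · rintro rfl; rw [Scheme.Hom.comp_apply]
      · intro hy
        apply ((pX i j f h w).fiberι (pX i j f h w z) ≫ pY i j f h w).injective
        rw [hy, Scheme.Hom.comp_apply]
    rw [h4]
    exact h3.preimage (Scheme.Hom.continuous _)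
  have hN : IsNoetherian ((pX i j f h w).fiber (pX i j f h w z)) := by
    have h5 : LocallyOfFiniteType ((pX i j f h w).fiberToSpecResidueField (pX i j f h w z)) :=
      MorphismProperty.of_isPullback (P := @LocallyOfFiniteType) (IsPullback.of_hasPullback _ _) inferInstance
    have h6 : QuasiCompact ((pX i j f h w).fiberToSpecResidueField (pX i j f h w z)) :=
      MorphismProperty.of_isPullback (P := @QuasiCompact) (IsPullback.of_hasPullback _ _) inferInstance
    have : IsLocallyNoetherian ((pX i j f h w).fiber (pX i j f h w z)) :=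
      @LocallyOfFiniteType.isLocallyNoetherian _ (Spec (CommRingCat.of (X.residueField (pX i j f h w z))))
        ((pX i j f h w).fiberToSpecResidueField (pX i j f h w z)) _ _
    have : CompactSpace ((pX i j f h w).fiber (pX i j f h w z)) :=
      QuasiCompact.compactSpace_of_compactSpace ((pX i j f h w).fiberToSpecResidueField (pX i j f h w z))
    constructor
  have hfin : (Set.univ : Set ((pX i j f h w).fiber (pX i j f h w z))).Finite :=
    K851.Curve.finite_of_isClosed_singleton _ isClosed_univ fun z' _ => hcl z'
  rw [Scheme.Hom.quasiFiniteAt_iff_isOpen_singleton_asFiber]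
  have h7 : IsClosed ({(pX i j f h w).asFiber z}ᶜ : Set ((pX i j f h w).fiber (pX i j f h w z))) := by
    have h8 : ({(pX i j f h w).asFiber z}ᶜ : Set ((pX i j f h w).fiber (pX i j f h w z))) =
        ⋃ y ∈ ({(pX i j f h w).asFiber z}ᶜ : Set ((pX i j f h w).fiber (pX i j f h w z))), {y} :=
      (Set.biUnion_of_singleton _).symm
    rw [h8]
    exact (hfin.subset (Set.subset_univ _)).isClosed_biUnion fun y _ => hcl y
  have := h7.isOpen_compl
  rwa [compl_compl] at this

end K851.Bad
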