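import Groth.Agent.SSMod.K851.Mark

/-!
# Charts at rational points of a marked nodal family
-/

set_option autoImplicit false
set_option linter.unusedSectionVars false
set_option linter.dupNamespace false
universe u

open CategoryTheory CategoryTheory.Limits AlgebraicGeometry TopologicalSpace IsLocalRing

namespace K851.Chart

open K851.Fib K851.LemN K851.Et K851.Sep K851.Pt K851.Tor K851.Dat K851.NS K851.Line K851.Mark

variable {R : Type u} [CommRing R] [IsDomain R] [IsDiscreteValuationRing R]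

/-- The evaluation at a rational point, on the coordinate ring of a chart. -/
noncomputable abbrev oo {N : Type u} [CommRing N] {U : Scheme.{u}}
    (xk : Spec (CommRingCat.of (ResidueField R)) ⟶ U) (g : U ⟶ Spec (CommRingCat.of N)) :
    N →+* ResidueField R := (Spec.preimage (xk ≫ g)).hom

/-- A chart at the rational point `x₀`. -/
structure Chart (π : R) {X : Scheme.{u}} (q : X ⟶ Spec (CommRingCat.of R))
    [LocallyOfFinitePresentation q] (D : Set X) (x₀ : Spec (CommRingCat.of (ResidueField R)) ⟶ X) where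
  U : Scheme.{u}
  e : U ⟶ X
  he : Etale e
  N : Type u
  hN : CommRing N
  ι : R →+* N
  g : U ⟶ Spec (CommRingCat.of N)
  hg : Etale g
  w : g ≫ Spec.map (CommRingCat.ofHom ι) = e ≫ q
  xk : Spec (CommRingCat.of (ResidueField R)) ⟶ U
  hxk : xk ≫ e = x₀
  toric : ∀ (V : Type u) [CommRing V] [IsDomain V] [IsDiscreteValuationRing V] (θ : N →+* V),
    Irreducible (θ (ι π)) → (∀ t ∈ nonZeroDivisors N, θ t ≠ 0) → (∀ n, oo xk g n = 0 → ¬ IsUnit (θ n)) →
    ∃ (x : N) (m : ℕ), 1 ≤ m ∧ Toric π ι (oo xk g) x m ∧ (∃ w, IsUnit w ∧ θ x = θ (ι π) ^ m * w) ∧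
      (∀ u : U, e u ∈ D → x ∈ (g u : PrimeSpectrum N).asIdeal) ∧
      (∀ u : U, x ∉ (g u : PrimeSpectrum N).asIdeal → e u ∈ q.smoothLocus)

attribute [instance] Chart.he Chart.hN Chart.hg

theorem oo_comp {N : Type u} [CommRing N] {U X : Scheme.{u}}
    (xk : Spec (CommRingCat.of (ResidueField R)) ⟶ U) (g : U ⟶ Spec (CommRingCat.of N)) (ι : R →+* N)
    (e : U ⟶ X) (q : X ⟶ Spec (CommRingCat.of R))
    (w : g ≫ Spec.map (CommRingCat.ofHom ι) = e ≫ q) (hxk : xk ≫ e ≫ q = sp R) :
    (oo xk g).comp ι = residue R := by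
  have h : CommRingCat.ofHom ι ≫ Spec.preimage (xk ≫ g) = CommRingCat.ofHom (residue R) := by
    apply Spec.map_injective
    rw [Spec.map_comp, Spec.map_preimage, Category.assoc, w, hxk]
  exact congrArg CommRingCat.Hom.hom h

theorem oo_eq_zero_iff {N : Type u} [CommRing N] {U : Scheme.{u}}
    (xk : Spec (CommRingCat.of (ResidueField R)) ⟶ U) (g : U ⟶ Spec (CommRingCat.of N))
    (t : Spec (CommRingCat.of (ResidueField R))) (n : N) :
    oo xk g n = 0 ↔ n ∈ (g (xk t) : PrimeSpectrum N).asIdeal := by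
  rw [← Scheme.Hom.comp_apply, ← Spec.map_preimage (xk ≫ g)]
  have ht : (t : PrimeSpectrum (ResidueField R)).asIdeal = ⊥ := by
    have : t = (⊥ : PrimeSpectrum (ResidueField R)) := Subsingleton.elim (α := PrimeSpectrum _) _ _
    rw [this]; rfl
  change _ ↔ (Spec.preimage (xk ≫ g)).hom n ∈ (t : PrimeSpectrum (ResidueField R)).asIdeal
  rw [ht]
  rfl

theorem lift_open {U : Scheme.{u}} (xk : Spec (CommRingCat.of (ResidueField R)) ⟶ U) (V : U.Opens)
    (t : Spec (CommRingCat.of (ResidueField R))) (hV : xk t ∈ V) :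
    ∃ xk' : Spec (CommRingCat.of (ResidueField R)) ⟶ V, xk' ≫ V.ι = xk := by
  refine ⟨IsOpenImmersion.lift V.ι xk ?_, IsOpenImmersion.lift_fac _ _ _⟩
  rintro _ ⟨s, rfl⟩
  rw [Scheme.Opens.range_ι, subsingleton_spec s t]
  exact hV

theorem mem_smoothLocus_line {X U : Scheme.{u}} (q : X ⟶ Spec (CommRingCat.of R))
    [LocallyOfFinitePresentation q] (e : U ⟶ X) [Etale e]
    (g : U ⟶ Spec (CommRingCat.of (Polynomial R))) [Etale g]
    (w : g ≫ Spec.map (CommRingCat.ofHom Polynomial.C) = e ≫ q) (u : U) : e u ∈ q.smoothLocus := by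
  have h1 : Smooth (Spec.map (CommRingCat.ofHom (Polynomial.C : R →+* Polynomial R))) := by
    rw [HasRingHomProperty.Spec_iff (P := @Smooth)]
    change (algebraMap R (Polynomial R)).Smooth
    rw [RingHom.smooth_algebraMap]
    exact { formallySmooth := inferInstance, finitePresentation := inferInstance }
  have h2 : Smooth (e ≫ q) := by rw [← w]; infer_instance
  rw [mem_iff_of_etale, Scheme.Hom.smoothLocus_eq_top]
  trivial

theorem mem_smoothLocus_node {X U : Scheme.{u}} (q : X ⟶ Spec (CommRingCat.of R))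
    [LocallyOfFinitePresentation q] (e : U ⟶ X) [Etale e] (a : R)
    (g : U ⟶ Spec (CommRingCat.of (Nd a))) [Etale g]
    (w : g ≫ Spec.map (CommRingCat.ofHom (ndι a)) = e ≫ q) (i : Fin 2) (u : U)
    (hu : ndx a i ∉ (g u : PrimeSpectrum (Nd a)).asIdeal) : e u ∈ q.smoothLocus := by
  let L := (U.residueField u)
  let xu := U.fromSpecResidueField u
  obtain ⟨t, -⟩ : ∃ s : Spec L, True := ⟨closedPoint (U.residueField u), trivial⟩
  have hxu : xu t = u := Scheme.fromSpecResidueField_apply _ _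
  have hunit : IsUnit (Spec.preimage (xu ≫ g) (ndx a i)) := by
    refine IsUnit.mk0 (G₀ := U.residueField u) _ fun h0 => hu ?_
    rw [← hxu, ← Scheme.Hom.comp_apply, ← Spec.map_preimage (xu ≫ g)]
    change (Spec.preimage (xu ≫ g)).hom (ndx a i) ∈ (t : PrimeSpectrum (U.residueField u)).asIdeal
    have h1 : (Spec.preimage (xu ≫ g)).hom (ndx a i) = 0 := h0
    rw [h1]
    exact zero_mem _
  obtain ⟨U', e', he', xk', h1, g', hg', w'⟩ := exists_line g e q w xu i hunit
  have h2 := mem_smoothLocus_line q e' g' w' (xk' t)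
  rwa [← Scheme.Hom.comp_apply, h1, Scheme.Hom.comp_apply, hxu] at h2

theorem line_done {π : R} (hπ : Irreducible π) {X U : Scheme.{u}} (q : X ⟶ Spec (CommRingCat.of R))
    [LocallyOfFinitePresentation q] (D : Set X) (e : U ⟶ X) [Etale e] (g : U ⟶ Spec (CommRingCat.of (Polynomial R))) [Etale g]
    (w : g ≫ Spec.map (CommRingCat.ofHom Polynomial.C) = e ≫ q)
    (xk : Spec (CommRingCat.of (ResidueField R)) ⟶ U) (hxk : xk ≫ e ≫ q = sp R)
    (t : Spec (CommRingCat.of (ResidueField R))) (c : R)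
    (hc : Polynomial.X - Polynomial.C c ∈ (g (xk t) : PrimeSpectrum (Polynomial R)).asIdeal)
    (V : U.Opens) (hV : xk t ∈ V) (hD : ∀ u ∈ V, e u ∈ D →
      Polynomial.X - Polynomial.C c ∈ (g u : PrimeSpectrum (Polynomial R)).asIdeal) :
    Nonempty (Chart π q D (xk ≫ e)) := by
  obtain ⟨xk', hxk'⟩ := lift_open xk V t hV
  let s : Polynomial R →+* Polynomial R :=
    (Polynomial.compRingHom (Polynomial.X - Polynomial.C c) : Polynomial R →+* Polynomial R)
  have hs1 : s.comp Polynomial.C = Polynomial.C := by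
    ext r; simp [s]
  have hsX : s Polynomial.X = Polynomial.X - Polynomial.C c := by simp [s]
  have hsbij : Function.Bijective s := by
    let s' : Polynomial R →+* Polynomial R :=
      (Polynomial.compRingHom (Polynomial.X + Polynomial.C c) : Polynomial R →+* Polynomial R)
    have h1 : s'.comp s = RingHom.id _ := by
      apply Polynomial.ringHom_ext
      · intro r; simp [s, s']
      · simp [s, s']
    have h2 : s.comp s' = RingHom.id _ := by
      apply Polynomial.ringHom_ext
      · intro r; simp [s, s']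
      · simp [s, s']
    exact Function.bijective_iff_has_inverse.2 ⟨s', fun x => congr($h1 x), fun x => congr($h2 x)⟩
  have hiso : IsIso (CommRingCat.ofHom s) := (ConcreteCategory.isIso_iff_bijective _).2 hsbij
  let g' : (V : Scheme.{u}) ⟶ Spec (CommRingCat.of (Polynomial R)) :=
    V.ι ≫ g ≫ Spec.map (CommRingCat.ofHom s)
  have hg' : Etale g' := inferInstanceAs (Etale (V.ι ≫ g ≫ Spec.map (CommRingCat.ofHom s)))
  have hmem : ∀ v : V, Polynomial.X ∈ (g' v : PrimeSpectrum (Polynomial R)).asIdeal ↔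
      Polynomial.X - Polynomial.C c ∈ (g (V.ι v) : PrimeSpectrum (Polynomial R)).asIdeal := by
    intro v
    rw [← hsX]
    exact Iff.rfl
  have hw' : g' ≫ Spec.map (CommRingCat.ofHom Polynomial.C) = (V.ι ≫ e) ≫ q := by
    simp only [g', Category.assoc]
    rw [← w, ← Spec.map_comp, ← CommRingCat.ofHom_comp, hs1]
  have ho : (oo xk' g').comp Polynomial.C = residue R :=
    oo_comp xk' g' Polynomial.C (V.ι ≫ e) q hw' (by rw [Category.assoc, reassoc_of% hxk', hxk])
  have hvt : V.ι (xk' t) = xk t := by rw [← Scheme.Hom.comp_apply, hxk']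
  have hoX : oo xk' g' Polynomial.X = 0 := by
    rw [oo_eq_zero_iff xk' g' t]
    refine (hmem _).2 ?_
    rw [hvt]
    exact hc
  exact ⟨{
    U := V
    e := V.ι ≫ e
    he := inferInstance
    N := Polynomial R
    hN := inferInstance
    ι := Polynomial.C
    g := g'
    hg := inferInstanceAs (Etale (V.ι ≫ g ≫ Spec.map (CommRingCat.ofHom s)))
    w := hw'
    xk := xk'
    hxk := by rw [reassoc_of% hxk']
    toric := by
      intro W _ _ _ θ hθ hnz hloc
      obtain ⟨m, hm, hT, w', hw1, hw2⟩ := exists_toric_line hπ (oo xk' g') ho hoX W θ hθ hnz hloc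
      refine ⟨Polynomial.X, m, hm, hT, ⟨w', hw1, hw2⟩, fun u hu => ?_,
        fun u _ => mem_smoothLocus_line q (V.ι ≫ e) g' hw' u⟩
      refine (hmem _).2 ?_
      refine hD _ ?_ (by rw [← Scheme.Hom.comp_apply]; exact hu)
      have : V.ι u ∈ Set.range V.ι := ⟨u, rfl⟩
      rwa [Scheme.Opens.range_ι] at this }⟩

theorem node_done {π : R} (hπ : Irreducible π) {X U : Scheme.{u}} (q : X ⟶ Spec (CommRingCat.of R))
    [LocallyOfFinitePresentation q] (D : Set X) (e : U ⟶ X) [Etale e] (a : R) (ha : a = 0 ∨ ∃ n, a = π ^ n)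
    (g : U ⟶ Spec (CommRingCat.of (Nd a))) [Etale g]
    (w : g ≫ Spec.map (CommRingCat.ofHom (ndι a)) = e ≫ q)
    (xk : Spec (CommRingCat.of (ResidueField R)) ⟶ U) (hxk : xk ≫ e ≫ q = sp R)
    (t : Spec (CommRingCat.of (ResidueField R)))
    (hc : ∀ i, oo xk g (ndx a i) = 0)
    (V : U.Opens) (hV : xk t ∈ V) (hD : ∀ u ∈ V, e u ∉ D) :
    Nonempty (Chart π q D (xk ≫ e)) := by
  obtain ⟨xk', hxk'⟩ := lift_open xk V t hV
  let g' : (V : Scheme.{u}) ⟶ Spec (CommRingCat.of (Nd a)) := V.ι ≫ g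
  have hg' : Etale g' := inferInstanceAs (Etale (V.ι ≫ g))
  have hw' : g' ≫ Spec.map (CommRingCat.ofHom (ndι a)) = (V.ι ≫ e) ≫ q := by
    simp only [g', Category.assoc]
    rw [w]
  have ho : (oo xk' g').comp (ndι a) = residue R :=
    oo_comp xk' g' (ndι a) (V.ι ≫ e) q hw' (by rw [Category.assoc, reassoc_of% hxk', hxk])
  have hxg : xk' ≫ g' = xk ≫ g := by simp only [g']; rw [reassoc_of% hxk']
  have hoX : ∀ i, oo xk' g' (ndx a i) = 0 := by
    intro i
    rw [← hc i]
    simp only [oo]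
    rw [hxg]
  exact ⟨{
    U := V
    e := V.ι ≫ e
    he := inferInstance
    N := Nd a
    hN := inferInstance
    ι := ndι a
    g := g'
    hg := inferInstanceAs (Etale (V.ι ≫ g))
    w := hw'
    xk := xk'
    hxk := by rw [reassoc_of% hxk']
    toric := by
      intro W _ _ _ θ hθ hnz hloc
      obtain ⟨i, m, hm, hT, w', hw1, hw2⟩ := exists_toric_node hπ a ha (oo xk' g') ho hoX W θ hθ hnz hloc
      refine ⟨ndx a i, m, hm, hT, ⟨w', hw1, hw2⟩, fun u hu => ?_,
        fun u hu => mem_smoothLocus_node q (V.ι ≫ e) a g' hw' i u hu⟩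
      exfalso
      refine hD (V.ι u) ?_ (by rw [← Scheme.Hom.comp_apply]; exact hu)
      have : V.ι u ∈ Set.range V.ι := ⟨u, rfl⟩
      rwa [Scheme.Opens.range_ι] at this }⟩

/-- At a non-smooth point both coordinates vanish, and conversely. -/
theorem isUnit_of_smooth {π : R} (hπ : Irreducible π) {X U : Scheme.{u}} (q : X ⟶ Spec (CommRingCat.of R))
    [LocallyOfFinitePresentation q]
    (e : U ⟶ X) [Etale e] (a : R) (ha : a = 0 ∨ ∃ n, a = π ^ n)
    (g : U ⟶ Spec (CommRingCat.of (Nd a))) [Etale g]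
    (w : g ≫ Spec.map (CommRingCat.ofHom (ndι a)) = e ≫ q)
    (xk : Spec (CommRingCat.of (ResidueField R)) ⟶ U) (hxk : xk ≫ e ≫ q = sp R)
    (t : Spec (CommRingCat.of (ResidueField R))) (hsm : e (xk t) ∈ q.smoothLocus) :
    ∃ i, oo xk g (ndx a i) ≠ 0 := by
  by_contra hcon
  push Not at hcon
  have ho := oo_comp xk g (ndι a) e q w hxk
  have hπo : oo xk g (ndι a π) = 0 := by
    have := congr($ho π)
    rw [residue_pi hπ] at this
    exact this
  have hdvd : π ∣ a := by
    rcases ha with rfl | ⟨n, hn⟩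
    · exact dvd_zero _
    · rcases Nat.eq_zero_or_pos n with h0 | h0
      · exfalso
        rw [h0, pow_zero] at hn
        have h1 := congrArg (oo xk g) (nd_rel a)
        have h2 : oo xk g (ndι a a) = residue R a := congr($ho a)
        rw [map_mul, hcon 0, zero_mul, h2, hn, map_one] at h1
        exact zero_ne_one h1
      · rw [hn]; exact dvd_pow_self _ (by omega)
  have hlfp : LocallyOfFinitePresentation (e ≫ q) := inferInstance
  rw [mem_iff_of_etale] at hsm
  have hpt : (e ≫ q) (xk t) = cp (CommRingCat.of R) := by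
    rw [← Scheme.Hom.comp_apply, hxk]
    exact map_residue (CommRingCat.of R) t
  have hpr := (exists_open (e ≫ q) (xk t) hsm).2 π hπ hpt
  rw [← w] at hpr
  exact ns a π ((Ideal.span_singleton_prime hπ.ne_zero).2 hπ.prime) hdvd g (xk t) hpr
    (fun i => (oo_eq_zero_iff xk g t _).1 (hcon i)) ((oo_eq_zero_iff xk g t _).1 hπo)

variable [IsAdicComplete (maximalIdeal R) R] [IsAlgClosed (ResidueField R)]

theorem nonempty_chart {π : R} (hπ : Irreducible π) {X D : Scheme.{u}} (q : X ⟶ Spec (CommRingCat.of R))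
    (hq : Curv2.IsNodalFamily q) (i : D ⟶ X) [IsClosedImmersion i] [Etale (i ≫ q)]
    [LocallyOfFinitePresentation q] (hD : ∀ d, i d ∈ q.smoothLocus)
    (x₀ : Spec (CommRingCat.of (ResidueField R)) ⟶ X) (hx₀ : x₀ ≫ q = sp R) :
    Nonempty (Chart π q (Set.range i) x₀) := by
  obtain ⟨t, -⟩ : ∃ s : Spec (CommRingCat.of (ResidueField R)), True :=
    ⟨closedPoint (ResidueField R), trivial⟩
  obtain ⟨U, e, he, xk, hxk, a, ha, g, hg, w⟩ := K851.LC.exists_chart hπ q hq x₀ hx₀
  subst hxk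
  have hxk' : xk ≫ e ≫ q = sp R := by rw [← Category.assoc]; exact hx₀
  by_cases hP : ∃ d, i d = e (xk t)
  · obtain ⟨d, hd⟩ := hP
    obtain ⟨j, hj⟩ := isUnit_of_smooth hπ q e a ha g w xk hxk' t (hd ▸ hD d)
    obtain ⟨U', e', he', xk', h1, g', hg', w'⟩ := exists_line g e q w xk j (IsUnit.mk0 _ hj)
    have h2 : xk' ≫ e' ≫ q = sp R := by rw [← Category.assoc, h1, Category.assoc, hxk']
    have h3 : i d = e' (xk' t) := by
      rw [hd, ← Scheme.Hom.comp_apply, ← h1, Scheme.Hom.comp_apply]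
    obtain ⟨c, V, hV, hVc, -⟩ := exists_shift hπ q i e' g' w' xk' h2 t d h3
    rw [← h1]
    exact line_done hπ q (Set.range i) e' g' w' xk' h2 t c (hVc _ hV ⟨d, h3⟩) V hV hVc
  · let V : U.Opens := e ⁻¹ᵁ ⟨(Set.range i)ᶜ, i.isClosedEmbedding.isClosed_range.isOpen_compl⟩
    have hV : xk t ∈ V := hP
    by_cases hnode : ∀ j, oo xk g (ndx a j) = 0
    · exact node_done hπ q (Set.range i) e a ha g w xk hxk' t hnode V hV fun u hu => hu
    · push Not at hnode
      obtain ⟨j, hj⟩ := hnode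
      obtain ⟨U', e', he', xk', h1, g', hg', w'⟩ := exists_line g e q w xk j (IsUnit.mk0 _ hj)
      have h2 : xk' ≫ e' ≫ q = sp R := by rw [← Category.assoc, h1, Category.assoc, hxk']
      obtain ⟨c, hc⟩ := residue_surjective (oo xk' g' Polynomial.X)
      have ho := oo_comp xk' g' Polynomial.C e' q w' h2
      let V' : U'.Opens := e' ⁻¹ᵁ ⟨(Set.range i)ᶜ, i.isClosedEmbedding.isClosed_range.isOpen_compl⟩
      have hV' : xk' t ∈ V' := by
        change e' (xk' t) ∉ Set.range i
        rw [← Scheme.Hom.comp_apply, h1, Scheme.Hom.comp_apply]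
        exact hP
      rw [← h1]
      refine line_done hπ q (Set.range i) e' g' w' xk' h2 t c ?_ V' hV' fun u hu hu' => absurd hu' hu
      rw [← oo_eq_zero_iff xk' g' t, map_sub, ← hc, sub_eq_zero]
      exact congr($ho c).symm

end K851.Chart
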