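import Groth.Agent.Sga3.H805.FlatHartogs
import Groth.Agent.SSMod.K851.Ext
import Mathlib.RingTheory.Polynomial.ScaleRoots
import Mathlib.RingTheory.Flat.TorsionFree
import Mathlib.RingTheory.Spectrum.Prime.TensorProduct
import Mathlib.AlgebraicGeometry.Morphisms.Flat
import Mathlib.AlgebraicGeometry.Fiber

/-!
# Integral closedness of flat families with reduced fibres over a normal noetherian base
-/

set_option autoImplicit false
set_option linter.unusedSectionVars false
universe u

open scoped TensorProduct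

namespace K851.Int

section Alg

open Polynomial

/-- One step: an integral element `s` with `ϖ s` in the base, the base being reduced modulo `ϖ`. -/
theorem mem_range_of_mul {B L : Type*} [CommRing B] [CommRing L] [Algebra B L]
    (hBL : Function.Injective (algebraMap B L)) (ϖ : B)
    (hϖ : ∀ l : L, algebraMap B L ϖ * l = 0 → l = 0)
    (hred : ∀ t : B, ϖ ∣ t ^ 2 → ϖ ∣ t) (s : L) (hs : IsIntegral B s)
    (h : algebraMap B L ϖ * s ∈ Set.range (algebraMap B L)) : s ∈ Set.range (algebraMap B L) := by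
  obtain ⟨t, ht⟩ := h
  obtain ⟨P, hP, hPs⟩ := hs
  have h1 : aeval (algebraMap B L ϖ * s) (P.scaleRoots ϖ) = 0 := scaleRoots_aeval_eq_zero hPs
  rw [← ht, aeval_algebraMap_apply, ← map_zero (algebraMap B L)] at h1
  have h2 : aeval t (P.scaleRoots ϖ) = 0 := hBL h1
  have h3 : ϖ ∣ t ^ P.natDegree := by
    rw [← Ideal.mem_span_singleton, ← Ideal.Quotient.eq_zero_iff_mem]
    let q := Ideal.Quotient.mk (Ideal.span {ϖ})
    have h4 := congrArg q h2
    rw [map_zero, aeval_def, eval₂_eq_sum_range] at h4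
    rw [← h4, map_sum, Finset.sum_eq_single P.natDegree]
    · simp [q, coeff_scaleRoots, hP.coeff_natDegree]
    · intro i hi hne
      have hi' : i < P.natDegree := by
        have : i < P.natDegree + 1 := by simpa [natDegree_scaleRoots] using hi
        omega
      have : q ϖ = 0 := Ideal.Quotient.eq_zero_iff_mem.mpr (Ideal.mem_span_singleton_self ϖ)
      have h5 : q ((P.scaleRoots ϖ).coeff i) = 0 := by
        rw [coeff_scaleRoots, map_mul, map_pow, this, zero_pow (by omega), mul_zero]
      rw [map_mul, Algebra.algebraMap_self, RingHom.id_apply, h5, zero_mul]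
    · intro hn
      exact absurd (Finset.mem_range.2 (by rw [natDegree_scaleRoots]; omega)) hn
  have h4 : ∀ n : ℕ, ∀ t : B, ϖ ∣ t ^ n → ϖ ∣ t := by
    intro n
    induction n using Nat.strong_induction_on with
    | _ n ih =>
      intro t h
      rcases Nat.lt_or_ge n 2 with h2 | h2
      · interval_cases n
        · rw [pow_zero] at h
          exact h.trans (one_dvd t)
        · simpa using h
      · obtain ⟨m, hm⟩ : ∃ m, 2 * m = n ∨ 2 * m = n + 1 := ⟨(n + 1) / 2, by omega⟩
        refine ih m (by omega) t (hred _ ?_)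
        rw [← pow_mul, mul_comm]
        rcases hm with hm | hm
        · rw [hm]; exact h
        · rw [hm, pow_succ]; exact h.mul_right t
  obtain ⟨y, rfl⟩ := h4 _ _ h3
  refine ⟨y, ?_⟩
  rw [← sub_eq_zero]
  apply hϖ
  rw [mul_sub, ← map_mul, ht, sub_self]

theorem mem_range_of_pow_mul {B L : Type*} [CommRing B] [CommRing L] [Algebra B L]
    (hBL : Function.Injective (algebraMap B L)) (ϖ : B)
    (hϖ : ∀ l : L, algebraMap B L ϖ * l = 0 → l = 0)
    (hred : ∀ t : B, ϖ ∣ t ^ 2 → ϖ ∣ t) (n : ℕ) (s : L) (hs : IsIntegral B s)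
    (h : algebraMap B L ϖ ^ n * s ∈ Set.range (algebraMap B L)) : s ∈ Set.range (algebraMap B L) := by
  induction n with
  | zero => simpa using h
  | succ n ih =>
    apply ih
    refine mem_range_of_mul hBL ϖ hϖ hred _ ?_ ?_
    · rw [← map_pow]
      exact isIntegral_algebraMap.mul hs
    · rw [← mul_assoc, ← pow_succ']; exact h

/-- Reducedness of the fibre over a local ring quotient. -/
theorem red_lemma {O O' κ A : Type u} [CommRing O] [CommRing O'] [CommRing κ] [CommRing A] [Algebra O O']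
    [Algebra O κ] [Algebra O A] [Algebra O' κ] [IsScalarTower O O' κ] (ϖ : O')
    (hsurj : Function.Surjective (algebraMap O' κ)) (hker : RingHom.ker (algebraMap O' κ) = Ideal.span {ϖ})
    (hr : _root_.IsReduced (κ ⊗[O] A)) (t : O' ⊗[O] A) (h : algebraMap O' (O' ⊗[O] A) ϖ ∣ t ^ 2) :
    algebraMap O' (O' ⊗[O] A) ϖ ∣ t := by
  let f : O' →ₐ[O] κ := IsScalarTower.toAlgHom O O' κ
  have hf : Function.Surjective f := hsurj
  let ι : O' ⊗[O] A →ₐ[O] κ ⊗[O] A := Algebra.TensorProduct.map f (AlgHom.id O A)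
  have hk := Algebra.TensorProduct.rTensor_ker (R := O) (S := O) (C := A) f hf
  have h7 : RingHom.ker f = Ideal.span {ϖ} := hker
  have h0 : ι (algebraMap O' (O' ⊗[O] A) ϖ) = 0 := by
    change Algebra.TensorProduct.map f (AlgHom.id O A) (ϖ ⊗ₜ 1) = 0
    rw [Algebra.TensorProduct.map_tmul]
    have : f ϖ = 0 := by
      rw [← RingHom.mem_ker, h7]; exact Ideal.mem_span_singleton_self ϖ
    rw [this, TensorProduct.zero_tmul]
  have h1 : ι t ^ 2 = 0 := by
    obtain ⟨b, hb⟩ := h
    rw [← map_pow, hb, map_mul, h0, zero_mul]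
  have h2 : ι t = 0 := IsReduced.eq_zero _ ⟨2, h1⟩
  have h3 : t ∈ RingHom.ker (Algebra.TensorProduct.map f (AlgHom.id O A)) := h2
  rw [hk, h7, Ideal.map_span, Set.image_singleton, Ideal.mem_span_singleton] at h3
  exact h3

end Alg

section Main

variable {O A L : Type u} [CommRing O] [IsDomain O] [IsNoetherianRing O] [IsIntegrallyClosed O]
  [CommRing A] [Algebra O A] [Module.Flat O A] [CommRing L] [Algebra A L] [Algebra O L]
  [IsScalarTower O A L]

theorem mem_range_of_isIntegral {b : O} (hb : b ≠ 0) [IsLocalization.Away (algebraMap O A b) L]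
    (hred : ∀ (p : Ideal O) [p.IsPrime], IsDiscreteValuationRing (Localization.AtPrime p) →
      _root_.IsReduced (p.ResidueField ⊗[O] A)) (s : L) (hs : IsIntegral A s) :
    s ∈ Set.range (algebraMap A L) := by
  have hflL : Module.Flat O L := by
    have : Module.Flat A L := IsLocalization.flat L (Submonoid.powers (algebraMap O A b))
    exact Module.Flat.trans O A L
  have hinj : Function.Injective (algebraMap A L) := by
    apply IsLocalization.injective L (M := Submonoid.powers (algebraMap O A b))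
    rw [Submonoid.powers_le]
    exact mem_nonZeroDivisors_iff_right.2 fun x hx => by
      have h1 : IsSMulRegular A b :=
        Module.Flat.isSMulRegular_of_nonZeroDivisors (mem_nonZeroDivisors_of_ne_zero hb)
      apply h1
      change b • x = b • 0
      rw [smul_zero, Algebra.smul_def, mul_comm, hx]
  obtain ⟨⟨x, ⟨_, n, rfl⟩⟩, hx⟩ := IsLocalization.surj (Submonoid.powers (algebraMap O A b)) s
  simp only at hx
  have ha : b ^ n ≠ 0 := pow_ne_zero n hb
  have hx' : (b ^ n) • s = algebraMap A L x := by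
    rw [← hx, Algebra.smul_def, mul_comm, IsScalarTower.algebraMap_apply O A L, map_pow (algebraMap O A)]
  suffices h : ∃ y : A, x = (b ^ n) • y by
    obtain ⟨y, rfl⟩ := h
    refine ⟨y, ?_⟩
    have h1 : IsSMulRegular L (b ^ n) :=
      Module.Flat.isSMulRegular_of_nonZeroDivisors (mem_nonZeroDivisors_of_ne_zero ha)
    apply h1
    change (b ^ n) • algebraMap A L y = (b ^ n) • s
    rw [hx', Algebra.smul_def, IsScalarTower.algebraMap_apply O A L, ← map_mul, ← Algebra.smul_def]
  refine Groth.Agent.Sga3.H805.FlatHartogs.exists_eq_smul x ha ?_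
  intro p hp hdvr
  let O' := Localization.AtPrime p
  let A' := O' ⊗[O] A
  let L' := O' ⊗[O] L
  obtain ⟨ϖ, hϖ⟩ := IsDiscreteValuationRing.exists_irreducible O'
  let κ := p.ResidueField
  have hsurj : Function.Surjective (algebraMap O' κ) := IsLocalRing.residue_surjective
  have hker : RingHom.ker (algebraMap O' κ) = Ideal.span {ϖ} := by
    rw [← hϖ.maximalIdeal_eq]
    exact IsLocalRing.ker_residue
  have hr := hred p hdvr
  let φ : A' →ₐ[O'] L' := Algebra.TensorProduct.map (AlgHom.id O' O') (IsScalarTower.toAlgHom O A L)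
  let _ : Algebra A' L' := φ.toRingHom.toAlgebra
  have hmap : ∀ a : A, φ ((1 : O') ⊗ₜ[O] a) = (1 : O') ⊗ₜ[O] (algebraMap A L a) := by
    intro a
    exact Algebra.TensorProduct.map_tmul _ _ _ _
  have hφ : ∀ z, algebraMap A' L' z = φ z := fun _ => rfl
  have hinj' : Function.Injective (algebraMap A' L') := by
    have h1 : Function.Injective ((IsScalarTower.toAlgHom O A L).toLinearMap.lTensor O') :=
      Module.Flat.lTensor_preserves_injective_linearMap (M := O') (IsScalarTower.toAlgHom O A L).toLinearMap hinj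
    exact h1
  have hflL' : Module.Flat O' L' := inferInstance
  have hϖ0 : algebraMap A' L' (algebraMap O' A' ϖ) = algebraMap O' L' ϖ := φ.commutes ϖ
  have hreg : ∀ l : L', algebraMap A' L' (algebraMap O' A' ϖ) * l = 0 → l = 0 := by
    intro l hl
    have h1 := Module.Flat.isSMulRegular_of_nonZeroDivisors (M := L')
      (mem_nonZeroDivisors_of_ne_zero hϖ.ne_zero)
    apply h1
    have h2 : ϖ • l = algebraMap O' L' ϖ * l := Algebra.smul_def ϖ l
    have h3 : ϖ • (0 : L') = 0 := smul_zero ϖ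
    change ϖ • l = ϖ • 0
    rw [h2, ← hϖ0, hl, h3]
  let s' : L' := 1 ⊗ₜ s
  have hs' : IsIntegral A' s' := by
    obtain ⟨P, hP, hPs⟩ := hs
    let g : A →+* A' := Algebra.TensorProduct.includeRight.toRingHom
    refine ⟨P.map g, hP.map g, ?_⟩
    have h1 : (algebraMap A' L').comp g =
        (Algebra.TensorProduct.includeRight : L →ₐ[O] O' ⊗[O] L).toRingHom.comp (algebraMap A L) := by
      ext a
      exact hmap a
    rw [Polynomial.eval₂_map, h1]
    have h2 := Polynomial.hom_eval₂ P (algebraMap A L)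
      (Algebra.TensorProduct.includeRight : L →ₐ[O] O' ⊗[O] L).toRingHom s
    rw [hPs, map_zero] at h2
    exact h2.symm
  have hb' : algebraMap O O' (b ^ n) ≠ 0 := by
    intro h
    exact ha ((IsLocalization.injective O' p.primeCompl_le_nonZeroDivisors) (by rw [h, map_zero]))
  obtain ⟨j, w, hw⟩ := IsDiscreteValuationRing.eq_unit_mul_pow_irreducible hb' hϖ
  have hmem : algebraMap A' L' (algebraMap O' A' ϖ) ^ j * s' ∈ Set.range (algebraMap A' L') := by
    refine ⟨algebraMap O' A' (↑w⁻¹) * (1 ⊗ₜ x), ?_⟩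
    have h1 : (1 : O') ⊗ₜ[O] (algebraMap A L x) = algebraMap O' L' (algebraMap O O' (b ^ n)) * s' := by
      have h2 : (1 : O') ⊗ₜ[O] (algebraMap A L x) = (algebraMap O O' (b ^ n)) • s' := by
        rw [← hx', TensorProduct.tmul_smul, algebraMap_smul]
      rw [h2]
      exact Algebra.smul_def (A := L') (algebraMap O O' (b ^ n)) s'
    rw [hϖ0, map_mul, hφ, hφ, φ.commutes]
    rw [hmap, h1, hw, map_mul, map_pow, ← mul_assoc, ← mul_assoc, ← map_mul]
    simp
  obtain ⟨y', hy'⟩ := mem_range_of_pow_mul hinj' (algebraMap O' A' ϖ) hreg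
    (red_lemma ϖ hsurj hker hr) j s' hs' hmem
  have hlocA : IsLocalizedModule p.primeCompl (TensorProduct.mk O O' A 1) := by
    infer_instance
  have hlocL : IsLocalizedModule p.primeCompl (TensorProduct.mk O O' L 1) := by
    infer_instance
  obtain ⟨⟨y, r⟩, hyr⟩ := IsLocalizedModule.surj p.primeCompl (TensorProduct.mk O O' A 1) y'
  have h1 : (r : O) • s' = TensorProduct.mk O O' L 1 (algebraMap A L y) := by
    have h2 := congrArg φ hyr
    change φ ((r : O) • y') = φ ((1 : O') ⊗ₜ[O] y) at h2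
    rw [← hy', hφ]
    have h3 : φ ((r : O) • y') = (r : O) • φ y' := by
      exact map_smul (φ.restrictScalars O) (r : O) y'
    rw [← h3, h2]
    exact hmap y
  have h2 : TensorProduct.mk O O' L 1 ((r : O) • s) = TensorProduct.mk O O' L 1 (algebraMap A L y) := by
    rw [← h1, map_smul]; rfl
  obtain ⟨r', hr'⟩ := (IsLocalizedModule.eq_iff_exists p.primeCompl (TensorProduct.mk O O' L 1)).1 h2
  change (r' : O) • ((r : O) • s) = (r' : O) • algebraMap A L y at hr'
  refine ⟨r' * r, p.primeCompl.mul_mem r'.2 r.2, r'.1 • y, hinj ?_⟩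
  have h4 : ∀ (c : O) (z : A), algebraMap A L (c • z) = c • algebraMap A L z := by
    intro c z
    exact map_smul (IsScalarTower.toAlgHom O A L) c z
  rw [h4, h4, h4, ← hx', ← hr', mul_smul, smul_comm (r : O) (b ^ n) s, smul_comm (r' : O) (b ^ n)]

end Main

end K851.Int

namespace K851.Int

open CategoryTheory CategoryTheory.Limits AlgebraicGeometry TopologicalSpace
open K851.Ext

/-- Sections over the trace of a dense open are a localization. -/
theorem isLocalization_app {U X : Scheme.{u}} (i : U ⟶ X) [IsOpenImmersion i] (W : X.Opens)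
    (hW : IsAffineOpen W) (f : Γ(X, W)) (hf : W ⊓ i.opensRange = X.basicOpen f) :
    @IsLocalization.Away _ _ f Γ(U, i ⁻¹ᵁ W) _ (i.app W).hom.toAlgebra := by
  have hle : i ''ᵁ i ⁻¹ᵁ W ≤ W := by
    rw [Scheme.Hom.image_preimage_eq_opensRange_inf]; exact inf_le_right
  have heq : i ''ᵁ i ⁻¹ᵁ W = X.basicOpen f := by
    rw [Scheme.Hom.image_preimage_eq_opensRange_inf, inf_comm]; exact hf
  let _ : Algebra Γ(X, W) Γ(X, i ''ᵁ i ⁻¹ᵁ W) := (X.presheaf.map (homOfLE hle).op).hom.toAlgebra
  let _ : Algebra Γ(X, W) Γ(U, i ⁻¹ᵁ W) := (i.app W).hom.toAlgebra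
  have h1 : IsLocalization.Away f Γ(X, i ''ᵁ i ⁻¹ᵁ W) := hW.isLocalization_of_eq_basicOpen f (homOfLE hle) heq
  let e := (i.appIso (i ⁻¹ᵁ W)).commRingCatIsoToRingEquiv
  have he : ∀ a : Γ(X, W), e (algebraMap Γ(X, W) Γ(X, i ''ᵁ i ⁻¹ᵁ W) a) = algebraMap Γ(X, W) Γ(U, i ⁻¹ᵁ W) a := by
    intro a
    have key : (X.presheaf.map (homOfLE hle).op) ≫ (i.appIso (i ⁻¹ᵁ W)).hom = i.app W := by
      rw [← cancel_mono (i.appIso (i ⁻¹ᵁ W)).inv, Category.assoc, Iso.hom_inv_id, Category.comp_id,
        Scheme.Hom.app_appIso_inv]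
      rfl
    exact congr($key a)
  exact IsLocalization.isLocalization_of_algEquiv (Submonoid.powers f)
    (AlgEquiv.ofRingEquiv (f := e) he)

/-- Affine opens pull back to affine descriptions of the base map. -/
theorem inf_preimage_basicOpen {X : Scheme.{u}} {O : CommRingCat.{u}} (p : X ⟶ Spec O) (b : O)
    (W : X.Opens) (hW : IsAffineOpen W) (φ : O ⟶ Γ(X, W)) (hφ : Spec.map φ = hW.fromSpec ≫ p) :
    W ⊓ (p ⁻¹ᵁ PrimeSpectrum.basicOpen b) = X.basicOpen (φ b) := by
  have h1 : hW.fromSpec ⁻¹ᵁ (p ⁻¹ᵁ PrimeSpectrum.basicOpen b) = PrimeSpectrum.basicOpen (φ b) := by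
    have e1 : ∀ D : (Spec O).Opens, hW.fromSpec ⁻¹ᵁ (p ⁻¹ᵁ D) = (Spec.map φ) ⁻¹ᵁ D := by
      intro D
      rw [hφ]; rfl
    exact e1 _
  have h2 := hW.fromSpec_preimage_basicOpen (φ b)
  rw [← h2] at h1
  have h3 := congrArg (fun V => hW.fromSpec ''ᵁ V) h1
  simp only [Scheme.Hom.image_preimage_eq_opensRange_inf, hW.opensRange_fromSpec] at h3
  rw [h3]
  exact inf_eq_right.2 (X.basicOpen_le _)

theorem isReduced_fiber_of_affine {X S : Scheme.{u}} (p : X ⟶ S) {V : Scheme.{u}} (j : V ⟶ X) [IsOpenImmersion j]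
    (s : S) (hs : IsReduced (p.fiber s)) : IsReduced ((j ≫ p).fiber s) := by
  let g := S.fromSpecResidueField s
  let q : pullback (j ≫ p) g ⟶ pullback p g :=
    pullback.lift (pullback.fst _ _ ≫ j) (pullback.snd _ _)
      (by rw [Category.assoc, pullback.condition])
  have hq1 : q ≫ pullback.fst p g = pullback.fst _ _ ≫ j := pullback.lift_fst _ _ _
  have hq2 : q ≫ pullback.snd p g = pullback.snd _ _ := pullback.lift_snd _ _ _
  have big := IsPullback.of_hasPullback (j ≫ p) g
  rw [← hq2] at big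
  have sq := IsPullback.of_bot big hq1.symm (IsPullback.of_hasPullback p g)
  have hq : IsOpenImmersion q :=
    MorphismProperty.of_isPullback (P := @IsOpenImmersion) sq inferInstance
  exact @isReduced_of_isOpenImmersion _ _ q hq hs

/-- A flat family with reduced fibres over a normal noetherian domain is integrally closed in its
restriction to a dense open of the base. -/
theorem IC_of_flat {O : Type u} [CommRing O] [IsDomain O] [IsNoetherianRing O] [IsIntegrallyClosed O]
    {X U : Scheme.{u}} (p : X ⟶ Spec (CommRingCat.of O)) [Flat p] (b : O) (hb : b ≠ 0)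
    (i : U ⟶ X) [IsOpenImmersion i] (hi : i.opensRange = p ⁻¹ᵁ PrimeSpectrum.basicOpen b)
    (hred : ∀ s, IsReduced (p.fiber s)) : IC i := by
  intro W hW s hs
  obtain ⟨φ, hφ⟩ := Spec.map_surjective (hW.fromSpec ≫ p)
  have hfl : Flat (hW.fromSpec ≫ p) := inferInstance
  let _ : Algebra O Γ(X, W) := φ.hom.toAlgebra
  let _ : Algebra Γ(X, W) Γ(U, i ⁻¹ᵁ W) := (i.app W).hom.toAlgebra
  let _ : Algebra O Γ(U, i ⁻¹ᵁ W) := ((i.app W).hom.comp φ.hom).toAlgebra
  have : IsScalarTower O Γ(X, W) Γ(U, i ⁻¹ᵁ W) := IsScalarTower.of_algebraMap_eq fun _ => rfl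
  have hflat : Module.Flat O Γ(X, W) := by
    rw [← hφ] at hfl
    exact Flat.SpecMap_iff.mp hfl
  have hloc : IsLocalization.Away (algebraMap O Γ(X, W) b) Γ(U, i ⁻¹ᵁ W) := by
    refine isLocalization_app i W hW _ ?_
    rw [hi]
    exact inf_preimage_basicOpen p b W hW φ hφ
  refine mem_range_of_isIntegral (O := O) (A := Γ(X, W)) hb ?_ s hs
  intro q hq _
  have h1 := isReduced_fiber_of_affine p hW.fromSpec ⟨q, hq⟩ (hred _)
  rw [← hφ] at h1
  let e := Arrow.leftFunc.mapIso (Spec.fiberToSpecResidueFieldIso O Γ(X, W) ⟨q, hq⟩)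
  have h2 : IsReduced (Spec (CommRingCat.of (q.Fiber Γ(X, W)))) := by
    have : IsOpenImmersion e.inv := inferInstance
    exact @isReduced_of_isOpenImmersion _ _ e.inv this h1
  exact (affine_isReduced_iff (CommRingCat.of (q.Fiber Γ(X, W)))).mp h2

end K851.Int
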