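import Groth.Agent.SSMod.K851.Chart
import Groth.Agent.SSMod.K851.Bad
import Groth.Agent.SSMod.K851.Int
import Groth.Agent.Flat2B.SmoothGeom

/-!
# Two marked nodal modifications of a curve over a complete discrete valuation ring
-/

set_option autoImplicit false
set_option linter.unusedSectionVars false
set_option linter.dupNamespace false
universe u

open CategoryTheory CategoryTheory.Limits AlgebraicGeometry TopologicalSpace IsLocalRing

namespace K851.DDef

open K851.Fib K851.LemN K851.Et K851.Sep K851.Pt K851.Tor K851.Dat K851.NS K851.Line K851.Mark K851.Chart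

/-- The open of `Spec R` where `π` is invertible. -/
abbrev Dπ {R : Type u} [CommRing R] (π : R) : (Spec (CommRingCat.of R)).Opens :=
  (PrimeSpectrum.basicOpen π : TopologicalSpace.Opens (PrimeSpectrum R))

/-- Two marked nodal modifications of `C`, isomorphic to `C` over the generic fibre. -/
structure DD (R : Type u) [CommRing R] [IsDomain R] [IsDiscreteValuationRing R] where
  π : R
  hπ : Irreducible π
  C : Scheme.{u}
  X : Scheme.{u}
  Y : Scheme.{u}
  DX : Scheme.{u}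
  DY : Scheme.{u}
  c : C ⟶ Spec (CommRingCat.of R)
  f : X ⟶ C
  g : Y ⟶ C
  iX : DX ⟶ X
  iY : DY ⟶ Y
  pf : IsProper f
  pg : IsProper g
  aC : IsAffine C
  fc : LocallyOfFiniteType c
  nX : Curv2.IsNodalFamily (f ≫ c)
  nY : Curv2.IsNodalFamily (g ≫ c)
  lX : LocallyOfFinitePresentation (f ≫ c)
  lY : LocallyOfFinitePresentation (g ≫ c)
  cX : IsClosedImmersion iX
  cY : IsClosedImmersion iY
  eX : Etale (iX ≫ f ≫ c)
  eY : Etale (iY ≫ g ≫ c)
  sX : ∀ d, iX d ∈ (f ≫ c).smoothLocus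
  sY : ∀ d, iY d ∈ (g ≫ c).smoothLocus
  isoX : IsIso (f ∣_ (c ⁻¹ᵁ Dπ π))
  isoY : IsIso (g ∣_ (c ⁻¹ᵁ Dπ π))
  hD : ∀ (x : X) (y : Y), f x = g y → c (f x) ≠ cp (CommRingCat.of R) → y ∈ Set.range iY →
    x ∈ Set.range iX

attribute [instance] DD.pf DD.pg DD.aC DD.fc DD.lX DD.lY DD.cX DD.cY DD.eX DD.eY DD.isoX DD.isoY

variable {R : Type u} [CommRing R] [IsDomain R] [IsDiscreteValuationRing R] (𝔇 : DD R)

/-- The structure map of `X`. -/
noncomputable abbrev DD.qX : 𝔇.X ⟶ Spec (CommRingCat.of R) := 𝔇.f ≫ 𝔇.c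
/-- The structure map of `Y`. -/
noncomputable abbrev DD.qY : 𝔇.Y ⟶ Spec (CommRingCat.of R) := 𝔇.g ≫ 𝔇.c

instance : Flat 𝔇.qX := 𝔇.nX.1
instance : Flat 𝔇.qY := 𝔇.nY.1

/-- Regularity of `π` on the closure of the generic fibre. -/
theorem reg_of_dominant {π : R} {U Γ' : Scheme.{u}} (q : Γ' ⟶ Spec (CommRingCat.of R)) (s : U ⟶ Γ')
    [IsSchemeTheoreticallyDominant s] [QuasiCompact s] (h : ∀ x : U, q (s x) ∈ Dπ π) (z : Γ')
    (a : Γ'.presheaf.stalk z) (ha : st q z π * a = 0) : a = 0 := by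
  obtain ⟨W, hzW, b, rfl⟩ := Γ'.presheaf.exists_germ_eq a
  rw [← germ_sc q W z hzW, ← map_mul, ← map_zero (Γ'.presheaf.germ W z hzW).hom] at ha
  obtain ⟨W', hzW', i1, i2, hW'⟩ := TopCat.Presheaf.germ_eq (C := CommRingCat) Γ'.presheaf z hzW hzW _ _ ha
  have h1 : Γ'.presheaf.map i1.op b = 0 := by
    have hinj := s.app_injective W'
    apply hinj
    rw [map_zero]
    refine TopCat.Presheaf.section_ext U.sheaf (s ⁻¹ᵁ W') _ _ fun x hx => ?_
    have hx' : s x ∈ W' := hx
    have h2 : U.presheaf.germ (s ⁻¹ᵁ W') x hx (s.app W' (Γ'.presheaf.map i1.op b)) =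
        s.stalkMap x (Γ'.presheaf.germ W (s x) (i1.le hx') b) := by
      have e1 := Scheme.Hom.germ_stalkMap_apply s W' x hx' (Γ'.presheaf.map i1.op b)
      have e2 : Γ'.presheaf.germ W' (s x) hx' (Γ'.presheaf.map i1.op b) =
          Γ'.presheaf.germ W (s x) (i1.le hx') b := Γ'.presheaf.germ_res_apply i1 (s x) hx' b
      rw [← e2]
      exact e1.symm
    have h3 : st (s ≫ q) x π * s.stalkMap x (Γ'.presheaf.germ W (s x) (i1.le hx') b) = 0 := by
      rw [st_comp, ← map_mul, ← germ_sc q W (s x) (i1.le hx'), ← map_mul]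
      have e2 : Γ'.presheaf.germ W' (s x) hx' (Γ'.presheaf.map i1.op (sc q W π * b)) =
          Γ'.presheaf.germ W (s x) (i1.le hx') (sc q W π * b) :=
        Γ'.presheaf.germ_res_apply i1 (s x) hx' _
      rw [← e2]
      have e3 : Γ'.presheaf.map i1.op (sc q W π * b) = 0 := hW'.trans (map_zero _)
      rw [e3, map_zero, map_zero]
    have h4 : IsUnit (st (s ≫ q) x π) := by
      rw [isUnit_st_iff, Scheme.Hom.comp_apply]
      exact h x
    change U.presheaf.germ (s ⁻¹ᵁ W') x hx _ = U.presheaf.germ (s ⁻¹ᵁ W') x hx _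
    rw [h2, map_zero]
    exact (h4.mul_right_eq_zero).1 h3
  rw [← TopCat.Presheaf.germ_res_apply Γ'.presheaf i1 z hzW' b, h1, map_zero]

end K851.DDef
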