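import Groth.Agent.SSMod.K851.PR

/-!
# The theorem over a complete discrete valuation ring with algebraically closed residue field
-/

set_option autoImplicit false
set_option linter.unusedSectionVars false
set_option linter.dupNamespace false
universe u

open CategoryTheory CategoryTheory.Limits AlgebraicGeometry TopologicalSpace IsLocalRing

namespace K851.DV

open K851.Fib K851.LemN K851.Et K851.Sep K851.Pt K851.Tor K851.Dat K851.NS K851.Line K851.Mark K851.Chart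
  K851.DDef K851.Ext K851.Tx K851.Sel K851.TA K851.TB K851.TC K851.Sit K851.FA K851.FB K851.PP K851.PQ
  K851.PR

variable {R : Type u} [CommRing R] [IsDomain R] [IsDiscreteValuationRing R] [IsAlgClosed (ResidueField R)]
  [IsAdicComplete (maximalIdeal R) R]

/-- Lifting the dominating local ring to an etale neighbourhood. -/
theorem lift_etale (𝔇 : DD R) {U : Scheme.{u}} (e : U ⟶ 𝔇.X) [Etale e] (G : CommRingCat.{u}) [IsLocalRing G]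
    (a : Spec G ⟶ 𝔇.X) (b : Spec G ⟶ 𝔇.Y) (w : a ≫ 𝔇.f = b ≫ 𝔇.g)
    (hG : ∀ x : G, ro (b ≫ 𝔇.g ≫ 𝔇.c) 𝔇.π * x = 0 → x = 0) (u : U) (hu : a (cp G) = e u) :
    ∃ (G' : CommRingCat.{u}) (_ : IsLocalRing G') (a' : Spec G' ⟶ U) (b' : Spec G' ⟶ 𝔇.Y),
      a' ≫ e ≫ 𝔇.f = b' ≫ 𝔇.g ∧ (∀ x : G', ro (b' ≫ 𝔇.g ≫ 𝔇.c) 𝔇.π * x = 0 → x = 0) ∧ a' (cp G') = u ∧
        b' (cp G') = b (cp G) := by
  obtain ⟨z, hz1, hz2⟩ := Scheme.Pullback.exists_preimage_pullback (cp G) u (f := a) (g := e) hu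
  let Q := pullback a e
  refine ⟨Q.presheaf.stalk z, inferInstance, Q.fromSpecStalk z ≫ pullback.snd a e,
    Q.fromSpecStalk z ≫ pullback.fst a e ≫ b, ?_, ?_, ?_, ?_⟩
  · rw [Category.assoc, ← pullback.condition_assoc, w, Category.assoc, Category.assoc]
  · intro x hx
    have h1 : (Q.fromSpecStalk z ≫ pullback.fst a e ≫ b) ≫ 𝔇.g ≫ 𝔇.c =
        (Q.fromSpecStalk z ≫ pullback.fst a e) ≫ b ≫ 𝔇.g ≫ 𝔇.c := by simp only [Category.assoc]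
    have h2 : ro ((Q.fromSpecStalk z ≫ pullback.fst a e) ≫ b ≫ 𝔇.g ≫ 𝔇.c) 𝔇.π =
        st (R := G) (pullback.fst a e) z (ro (b ≫ 𝔇.g ≫ 𝔇.c) 𝔇.π) := by
      rw [← ro_stalk (R := G) (pullback.fst a e) z]
      have h3 : CommRingCat.ofHom (ro (R := R) ((Q.fromSpecStalk z ≫ pullback.fst a e) ≫ b ≫ 𝔇.g ≫ 𝔇.c)) =
          CommRingCat.ofHom (ro (b ≫ 𝔇.g ≫ 𝔇.c)) ≫
            CommRingCat.ofHom (ro (R := G) (Q.fromSpecStalk z ≫ pullback.fst a e)) := by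
        apply Spec.map_injective
        rw [Spec.map_comp, map_ro, map_ro, map_ro]
      exact congr($h3 𝔇.π)
    rw [h1, h2] at hx
    let _ : Algebra G (Q.presheaf.stalk z) := (st (R := G) (pullback.fst a e) z).toAlgebra
    have hfl : Module.Flat G (Q.presheaf.stalk z) := flat_st (R := G) (pullback.fst a e) z
    have hreg : ro (b ≫ 𝔇.g ≫ 𝔇.c) 𝔇.π ∈ nonZeroDivisors G := by
      rw [mem_nonZeroDivisors_iff_right]
      intro y hy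
      exact hG y (by rw [mul_comm]; exact hy)
    have h3 : IsSMulRegular (Q.presheaf.stalk z) (ro (b ≫ 𝔇.g ≫ 𝔇.c) 𝔇.π) :=
      Module.Flat.isSMulRegular_of_nonZeroDivisors hreg
    apply h3
    change st (R := G) (pullback.fst a e) z (ro (b ≫ 𝔇.g ≫ 𝔇.c) 𝔇.π) * x =
      st (R := G) (pullback.fst a e) z (ro (b ≫ 𝔇.g ≫ 𝔇.c) 𝔇.π) * 0
    rw [mul_zero]
    exact hx
  · rw [Scheme.Hom.comp_apply, fromSpecStalk_cp, hz2]
  · rw [Scheme.Hom.comp_apply, Scheme.Hom.comp_apply, fromSpecStalk_cp, hz1]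

theorem gd_eq_top (𝔇 : DD R) (hno : NoExc 𝔇) : gd 𝔇 (𝟙 𝔇.X) = ⊤ := by
  by_contra hne
  have hlft : LocallyOfFiniteType 𝔇.qX := inferInstance
  have hN : IsLocallyNoetherian 𝔇.X := LocallyOfFiniteType.isLocallyNoetherian 𝔇.qX
  have hcX : CompactSpace 𝔇.X := by
    have h1 := 𝔇.aC
    exact QuasiCompact.compactSpace_of_compactSpace 𝔇.f
  obtain ⟨P, hP, hPcl⟩ : ∃ P : 𝔇.X, P ∉ gd 𝔇 (𝟙 𝔇.X) ∧ IsClosed ({P} : Set 𝔇.X) := by
    have h1 : ((gd 𝔇 (𝟙 𝔇.X) : Set 𝔇.X)ᶜ).Nonempty := by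
      rw [Set.nonempty_compl]
      intro h
      exact hne (TopologicalSpace.Opens.ext h)
    obtain ⟨P, hP1, hP2⟩ := IsClosed.exists_closed_singleton
      (gd 𝔇 (𝟙 𝔇.X)).2.isClosed_compl h1
    exact ⟨P, hP1, hP2⟩
  have hPq : 𝔇.qX P = cp (CommRingCat.of R) := by
    by_contra h
    apply hP
    apply TK_le_gd 𝔇 (𝟙 𝔇.X)
    change P ∈ (𝟙 𝔇.X ≫ 𝔇.qX) ⁻¹ᵁ Dπ 𝔇.π
    rw [mem_iff, Category.id_comp]
    intro hcon
    have h10 := eq_bot_of_ne (V := CommRingCat.of R) _ h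
    rw [h10] at hcon
    exact 𝔇.hπ.ne_zero hcon
  obtain ⟨x₀, hx₀, hx₀P⟩ := exists_pt 𝔇.qX _ _ (IsPullback.of_hasPullback 𝔇.qX (sp R)) P hPcl hPq
  obtain ⟨t, -⟩ : ∃ s : Spec (CommRingCat.of (ResidueField R)), True :=
    ⟨closedPoint (ResidueField R), trivial⟩
  have hmono : Mono (𝔇.X.fromSpecResidueField P ≫ 𝟙 𝔇.X ≫ 𝔇.qX) := by
    rw [Category.id_comp, ← hx₀P t]
    exact mono_of_pt 𝔇.qX x₀ hx₀ t
  obtain ⟨G, hGl, a, b, hw, hG, haG, hbG⟩ := exists_of_bad 𝔇 (𝟙 𝔇.X) P hP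
  obtain ⟨ch⟩ := nonempty_chart 𝔇.hπ 𝔇.qX 𝔇.nX 𝔇.iX 𝔇.sX x₀ hx₀
  obtain ⟨G', hGl', a', b', hw', hG', haG', hbG'⟩ := lift_etale 𝔇 ch.e G a b
    (by rw [← hw, Category.id_comp]) hG (ch.xk t) (by
      have h1 : (ch.xk ≫ ch.e) t = x₀ t := congr($(ch.hxk) t)
      rw [haG, ← hx₀P t, ← h1, Scheme.Hom.comp_apply])
  obtain ⟨hWs, ⟨d₀⟩⟩ := exists_DT ch hx₀ a' b' hw' hG' (fun t' => by
    rw [haG']
    congr 1
    exact subsingleton_spec _ _) (by rw [hbG']; exact hbG)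
  obtain ⟨x, m, hm, hT, h0, hD, hsm⟩ := ch.toric d₀.V (th ch d₀.a) (unif_th ch d₀) (nz ch d₀)
    (not_isUnit_th ch d₀.a d₀.ha)
  obtain ⟨S⟩ := exists_sit hx₀ ch hT hD hsm hWs d₀ h0
  exact false_of_sit hno S

/-- The theorem over a complete discrete valuation ring. -/
theorem dvr_main (𝔇 : DD R) (hno : NoExc 𝔇) : ∃ h : 𝔇.X ⟶ 𝔇.Y, h ≫ 𝔇.g = 𝔇.f := by
  have hfl : Flat (𝟙 𝔇.X ≫ 𝔇.qX) := by rw [Category.id_comp]; infer_instance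
  obtain ⟨h, hh⟩ := exists_extension 𝔇 (𝟙 𝔇.X) (fun y => by
    have := K851.Comp.isReduced_fiber (𝟙 𝔇.X ≫ 𝔇.qX) (by rw [Category.id_comp]; exact 𝔇.nX) y
    exact this)
  have htop := gd_eq_top 𝔇 hno
  obtain ⟨τ, hτ⟩ : ∃ τ : 𝔇.X ⟶ (gd 𝔇 (𝟙 𝔇.X) : Scheme.{u}), τ ≫ (gd 𝔇 (𝟙 𝔇.X)).ι = 𝟙 _ := by
    refine ⟨IsOpenImmersion.lift _ (𝟙 _) ?_, IsOpenImmersion.lift_fac _ _ _⟩
    rw [Scheme.Opens.range_ι, htop]
    exact fun _ _ => trivial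
  refine ⟨τ ≫ h, ?_⟩
  rw [Category.assoc, hh, reassoc_of% hτ, Category.id_comp]

end K851.DV
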