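import Groth.Agent.SSMod.K851.Sep
import Groth.Agent.SSMod.K851.Pt
import Mathlib.AlgebraicGeometry.ValuativeCriterion
import Mathlib.AlgebraicGeometry.Noetherian
import Mathlib.RingTheory.Valuation.ValuationRing

/-!
# The discrete valuation rings attached to components of the special fibre
-/

set_option autoImplicit false
set_option linter.unusedSectionVars false
set_option linter.dupNamespace false
universe u

open CategoryTheory CategoryTheory.Limits AlgebraicGeometry TopologicalSpace IsLocalRing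

namespace K851.Dat

open K851.Fib K851.LemN K851.Et K851.Sep K851.Pt

/-- The closed point. -/
def cp (G : CommRingCat.{u}) [IsLocalRing G] : ↥(Spec G) := closedPoint G

/-- Factorization of local-ring-valued points through the stalk. -/
theorem exists_stalk {Y : Scheme.{u}} {G : CommRingCat.{u}} [IsLocalRing G] (b : Spec G ⟶ Y) (ξ : Y)
    (h : b (cp G) = ξ) :
    ∃ β : Y.presheaf.stalk ξ ⟶ G, IsLocalHom β.hom ∧ Spec.map β ≫ Y.fromSpecStalk ξ = b := by
  subst h
  exact ⟨Scheme.stalkClosedPointTo b, Scheme.isLocalHom_stalkClosedPointTo b,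
    Scheme.Spec_stalkClosedPointTo_fromSpecStalk b⟩

theorem inj_of_isField {A B : Type*} [CommRing A] [CommRing B] [Nontrivial B] (h : IsField A)
    (φ : A →+* B) : Function.Injective φ := by
  rw [injective_iff_map_eq_zero]
  intro x hx
  by_contra hne
  obtain ⟨y, hy⟩ := h.mul_inv_cancel hne
  have := congrArg φ hy
  rw [map_mul, hx, zero_mul, map_one] at this
  exact zero_ne_one this

theorem eq_bot_of_ne {V : CommRingCat.{u}} [IsDomain V] [IsDiscreteValuationRing V] (s : Spec V)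
    (hs : s ≠ cp V) : (s : PrimeSpectrum V).asIdeal = ⊥ := by
  by_contra hne
  apply hs
  have h1 := Ring.DimensionLEOne.maximalOfPrime hne (s : PrimeSpectrum V).2
  exact PrimeSpectrum.ext (IsLocalRing.eq_maximalIdeal h1)

theorem map_closed {A B : CommRingCat.{u}} [IsLocalRing A] [IsLocalRing B] (φ : A ⟶ B)
    [IsLocalHom φ.hom] : Spec.map φ (cp B) = cp A := Spec_closedPoint

theorem map_residue (V : CommRingCat.{u}) [IsLocalRing V]
    (s : Spec (CommRingCat.of (ResidueField V))) :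
    Spec.map (CommRingCat.ofHom (residue V)) s = cp V := by
  have : s = closedPoint (ResidueField V) := Subsingleton.elim (α := PrimeSpectrum _) _ _
  rw [this]
  exact comap_closedPoint (residue V)

theorem residue_nat {A B : CommRingCat.{u}} [IsLocalRing A] [IsLocalRing B] (β : A ⟶ B)
    [IsLocalHom β.hom] : Spec.map (CommRingCat.ofHom (residue B)) ≫ Spec.map β =
      Spec.map (CommRingCat.ofHom (ResidueField.map β.hom)) ≫
        Spec.map (CommRingCat.ofHom (residue A)) := by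
  rw [← Spec.map_comp, ← Spec.map_comp]
  congr 1

theorem fromSpecStalk_cp {Y : Scheme.{u}} (y : Y) : Y.fromSpecStalk y (cp _) = y :=
  Scheme.fromSpecStalk_closedPoint

theorem valuative {X C : Scheme.{u}} (f : X ⟶ C) [IsProper f] (B : Type u) [CommRing B] [IsDomain B]
    [IsDiscreteValuationRing B] (α : Spec (CommRingCat.of (FractionRing B)) ⟶ X)
    (y : Spec (CommRingCat.of B) ⟶ C)
    (h : α ≫ f = Spec.map (CommRingCat.ofHom (algebraMap B (FractionRing B))) ≫ y) :
    ∃ ω : Spec (CommRingCat.of B) ⟶ X,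
      Spec.map (CommRingCat.ofHom (algebraMap B (FractionRing B))) ≫ ω = α ∧ ω ≫ f = y := by
  have h1 : ValuativeCriterion f := by
    have : (@IsProper : MorphismProperty Scheme.{u}) f := inferInstanceAs (IsProper f)
    rw [IsProper.eq_valuativeCriterion] at this
    exact this.1.1.1
  have h2 := h1.existence ⟨B, FractionRing B, α, y, ⟨h⟩⟩
  exact ⟨h2.exists_lift.some.l, h2.exists_lift.some.fac_left, h2.exists_lift.some.fac_right⟩

/-- If a composite is surjective on a stalk and the first morphism is injective, the second is surjective. -/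
theorem surj_of_comp {A B Z : Scheme.{u}} (t : A ⟶ B) (m : B ⟶ Z) (s : A)
    (h : Function.Surjective ((t ≫ m).stalkMap s)) (hi : Function.Injective (t.stalkMap s)) :
    Function.Surjective (m.stalkMap (t s)) := by
  rw [Scheme.Hom.stalkMap_comp] at h
  intro y
  obtain ⟨z, hz⟩ := h (t.stalkMap s y)
  exact ⟨z, hi hz⟩

variable {R : Type u} [CommRing R] [IsDomain R] [IsDiscreteValuationRing R]

/-- The local ring at the centre on an etale scheme over `X` of the valuation given by a component `ξ` of the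
special fibre of `Y`. -/
structure Dat (π : R) {C X Y U : Scheme.{u}} (c : C ⟶ Spec (CommRingCat.of R)) (f : X ⟶ C) (g : Y ⟶ C)
    (e : U ⟶ X) (xk : Spec (CommRingCat.of (ResidueField R)) ⟶ U) (ξ : Y) where
  V : CommRingCat.{u}
  dom : IsDomain V
  dvr : IsDiscreteValuationRing V
  a : Spec V ⟶ U
  b : Spec V ⟶ Y
  w : a ≫ e ≫ f = b ≫ g
  hb : b (cp V) = ξ
  ha : ∀ t, a (cp V) = xk t
  unif : Irreducible (ro (b ≫ g ≫ c) π)
  gen : ∀ s : Spec V, s ≠ cp V → IsField (U.presheaf.stalk (a s))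
  res : ∀ s, Function.Surjective ((Spec.map (CommRingCat.ofHom (residue V)) ≫ b).stalkMap s)
  univ : ∀ (G : CommRingCat.{u}) [IsLocalRing G] (a' : Spec G ⟶ U) (b' : Spec G ⟶ Y),
    a' ≫ e ≫ f = b' ≫ g → (∀ x : G, ro (b' ≫ g ≫ c) π * x = 0 → x = 0) → b' (cp G) = ξ →
    (∀ t, a' (cp G) = xk t) →
    ∃ φ : V ⟶ G, IsLocalHom φ.hom ∧ Spec.map φ ≫ a = a' ∧ Spec.map φ ≫ b = b'

attribute [instance] Dat.dom Dat.dvr

theorem subsingleton_spec {k : Type u} [Field k] (s t : Spec (CommRingCat.of k)) : s = t :=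
  Subsingleton.elim (α := PrimeSpectrum k) _ _

theorem nonempty_dat {π : R} (hπ : Irreducible π) {C X Y U : Scheme.{u}}
    (c : C ⟶ Spec (CommRingCat.of R)) (f : X ⟶ C) (g : Y ⟶ C) [IsProper f] [IsProper g]
    [IsIso (f ∣_ (c ⁻¹ᵁ (PrimeSpectrum.basicOpen π : TopologicalSpace.Opens (PrimeSpectrum R))))]
    [IsIso (g ∣_ (c ⁻¹ᵁ (PrimeSpectrum.basicOpen π : TopologicalSpace.Opens (PrimeSpectrum R))))]
    (e : U ⟶ X) [Etale e] (xk : Spec (CommRingCat.of (ResidueField R)) ⟶ U)
    (hxk : xk ≫ e ≫ f ≫ c = sp R) (ξ : Y)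
    (hξ : ∃ _ : IsDomain (Y.presheaf.stalk ξ), IsDiscreteValuationRing (Y.presheaf.stalk ξ) ∧
      Irreducible (st (g ≫ c) ξ π))
    (G₀ : CommRingCat.{u}) [IsLocalRing G₀] (a₀ : Spec G₀ ⟶ U) (b₀ : Spec G₀ ⟶ Y)
    (w₀ : a₀ ≫ e ≫ f = b₀ ≫ g) (hG₀ : ∀ x : G₀, ro (b₀ ≫ g ≫ c) π * x = 0 → x = 0)
    (hb₀ : b₀ (cp G₀) = ξ) (ha₀ : ∀ t, a₀ (cp G₀) = xk t) :
    Nonempty (Dat π c f g e xk ξ) := by
  obtain ⟨_, _, hirr⟩ := hξ
  set B := Y.presheaf.stalk ξ with hB
  let y : Spec B ⟶ Y := Y.fromSpecStalk ξ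
  have hro : ∀ r, ro (y ≫ g ≫ c) r = st (g ≫ c) ξ r := fun r => ro_stalk (g ≫ c) ξ r
  let iB : Spec (CommRingCat.of (FractionRing B)) ⟶ Spec B :=
    Spec.map (CommRingCat.ofHom (algebraMap B (FractionRing B)))
  have hunit : ∀ s, (iB ≫ y ≫ g) s ∈
      c ⁻¹ᵁ (PrimeSpectrum.basicOpen π : TopologicalSpace.Opens (PrimeSpectrum R)) := by
    intro s
    rw [mem_iff, ← Scheme.Hom.comp_apply]
    apply mem_of_isUnit
    rw [Category.assoc, Category.assoc]
    change IsUnit (ro (Spec.map (CommRingCat.ofHom (algebraMap B (FractionRing B))) ≫ y ≫ g ≫ c) π)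
    rw [ro_comp, hro]
    exact IsUnit.mk0 _ ((map_ne_zero_iff _ (IsFractionRing.injective B (FractionRing B))).2 hirr.ne_zero)
  obtain ⟨α, hα⟩ := lift_exists f _ (iB ≫ y ≫ g) hunit
  obtain ⟨ω, hω1, hω2⟩ := valuative f B α (y ≫ g) hα
  have step : ∀ (G : CommRingCat.{u}) [IsLocalRing G] (a' : Spec G ⟶ U) (b' : Spec G ⟶ Y),
      a' ≫ e ≫ f = b' ≫ g → (∀ x : G, ro (b' ≫ g ≫ c) π * x = 0 → x = 0) →
      b' (cp G) = ξ →
      ∃ β : B ⟶ G, IsLocalHom β.hom ∧ Spec.map β ≫ y = b' ∧ a' ≫ e = Spec.map β ≫ ω := by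
    intro G _ a' b' hw hG hb
    obtain ⟨β, hβ1, hβ2⟩ := exists_stalk b' ξ hb
    refine ⟨β, hβ1, hβ2, uniq (π := π) c f _ _ ?_ ?_⟩
    · rw [Category.assoc, hw, Category.assoc, hω2, ← hβ2, Category.assoc]
    · intro x hx
      apply hG
      rw [Category.assoc, reassoc_of% hw] at hx
      exact hx
  have hcent : ∀ t, ω (cp B) = (xk ≫ e) t := by
    intro t
    obtain ⟨β, hβ1, hβ2, hβ3⟩ := step G₀ a₀ b₀ w₀ hG₀ hb₀
    have h1 := congr($hβ3 (cp G₀))
    rw [Scheme.Hom.comp_apply, ha₀ t] at h1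
    rw [Scheme.Hom.comp_apply, h1, Scheme.Hom.comp_apply, map_closed β]
  let κ := ResidueField B
  let rB : Spec (CommRingCat.of κ) ⟶ Spec B := Spec.map (CommRingCat.ofHom (residue B))
  have hrB : ∀ s, rB s = cp B := fun s => map_residue B s
  obtain ⟨s₁, -⟩ : ∃ s : Spec (CommRingCat.of κ), True := ⟨closedPoint κ, trivial⟩
  obtain ⟨t₁, -⟩ : ∃ s : Spec (CommRingCat.of (ResidueField R)), True :=
    ⟨closedPoint (ResidueField R), trivial⟩
  obtain ⟨b1, hb1⟩ := Pt.fac (f ≫ c) (xk ≫ e) (by rw [Category.assoc]; exact hxk) (rB ≫ ω)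
    s₁ t₁ (by rw [Scheme.Hom.comp_apply, hrB]; exact hcent _)
  let Q := pullback e ω
  let σ : Spec (CommRingCat.of κ) ⟶ Q := pullback.lift (b1 ≫ xk) rB (by
    rw [Category.assoc]; exact hb1.symm)
  have hσ1 : σ ≫ pullback.fst e ω = b1 ≫ xk := pullback.lift_fst _ _ _
  have hσ2 : σ ≫ pullback.snd e ω = rB := pullback.lift_snd _ _ _
  let s₀ : Spec (CommRingCat.of κ) := cp (CommRingCat.of κ)
  obtain ⟨v, hv⟩ : ∃ v, σ s₀ = v := ⟨_, rfl⟩
  have hvB : pullback.snd e ω v = cp B := by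
    rw [← hv, ← Scheme.Hom.comp_apply, hσ2, hrB]
  let V := Q.presheaf.stalk v
  let iV : Spec V ⟶ Q := Q.fromSpecStalk v
  have hNB : IsNoetherianRing B := inferInstance
  have hNQ : IsLocallyNoetherian Q := LocallyOfFiniteType.isLocallyNoetherian (pullback.snd e ω)
  have hNV : IsNoetherianRing V := inferInstance
  -- the structure map of `V`
  have hst : ∀ r, ro (iV ≫ pullback.snd e ω ≫ y ≫ g ≫ c) r =
      st (R := B) (pullback.snd e ω) v (st (g ≫ c) ξ r) := by
    intro r
    have h1 : ro (R := R) (iV ≫ pullback.snd e ω ≫ y ≫ g ≫ c) r =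
        ro (R := B) (iV ≫ pullback.snd e ω) (ro (y ≫ g ≫ c) r) := by
      have h2 : CommRingCat.ofHom (ro (R := R) (iV ≫ pullback.snd e ω ≫ y ≫ g ≫ c)) =
          CommRingCat.ofHom (ro (y ≫ g ≫ c)) ≫ CommRingCat.ofHom (ro (R := B) (iV ≫ pullback.snd e ω)) := by
        apply Spec.map_injective
        rw [Spec.map_comp, map_ro, map_ro, map_ro, Category.assoc]
      exact congr($h2 r)
    rw [h1, hro]
    exact ro_stalk (R := B) (pullback.snd e ω) v _
  have hmB : maximalIdeal B = Ideal.span {st (g ≫ c) ξ π} := hirr.maximalIdeal_eq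
  have hmV : maximalIdeal V = Ideal.span {st (R := B) (pullback.snd e ω) v (st (g ≫ c) ξ π)} := by
    have h1 := map_maximalIdeal (pullback.snd e ω) v
    rw [maximalIdeal_stalk (R := B), Ideal.map_map] at h1
    have h3 : (pullback.snd e ω v : PrimeSpectrum B).asIdeal = maximalIdeal B := by
      rw [hvB]; rfl
    rw [h3] at h1
    rw [hmB, Ideal.map_span, Set.image_singleton] at h1
    rw [← h1]
    congr 2
    have h2 := st_comp (R := B) (pullback.snd e ω) (𝟙 _) v (st (g ≫ c) ξ π)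
    rw [Category.comp_id] at h2
    exact h2.symm
  obtain ⟨hVdom, hVdvr, hVirr⟩ := K851.Loc.dvr_of hmV fun x hx =>
    eq_zero_of_st_mul (R := B) (pullback.snd e ω) v hirr.ne_zero x hx
  have hwV : (iV ≫ pullback.fst e ω) ≫ e ≫ f = (iV ≫ pullback.snd e ω ≫ y) ≫ g := by
    rw [Category.assoc, pullback.condition_assoc, hω2, Category.assoc, Category.assoc]
  have hiV : iV (cp V) = v := Scheme.fromSpecStalk_closedPoint
  have hb : (iV ≫ pullback.snd e ω ≫ y) (cp V) = ξ := by
    rw [Scheme.Hom.comp_apply, Scheme.Hom.comp_apply, hiV, hvB]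
    exact Scheme.fromSpecStalk_closedPoint
  have ha : ∀ t, (iV ≫ pullback.fst e ω) (cp V) = xk t := by
    intro t
    rw [Scheme.Hom.comp_apply, hiV, ← hv, ← Scheme.Hom.comp_apply, hσ1, Scheme.Hom.comp_apply]
    congr 1
    exact subsingleton_spec _ _
  refine ⟨⟨V, hVdom, hVdvr, iV ≫ pullback.fst e ω, iV ≫ pullback.snd e ω ≫ y, hwV, hb, ha, ?_, ?_, ?_, ?_⟩⟩
  · rw [Category.assoc, Category.assoc, hst]
    exact hVirr
  · intro s hs
    have hsb := eq_bot_of_ne s hs
    have h1 : ∀ b : B, b ∈ ((iV ≫ pullback.snd e ω) s : PrimeSpectrum B).asIdeal → st (R := B) (pullback.snd e ω) v b = 0 := by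
      intro b hb
      rw [← map_ro (R := B) (iV ≫ pullback.snd e ω)] at hb
      have hb' : ro (R := B) (iV ≫ pullback.snd e ω) b ∈ (s : PrimeSpectrum V).asIdeal := hb
      rw [hsb] at hb'
      rw [← ro_stalk (R := B) (pullback.snd e ω) v b]
      exact hb'
    have h2 : (iV ≫ pullback.snd e ω) s ≠ cp B := by
      intro h
      apply hVirr.ne_zero
      apply h1
      rw [h]
      change _ ∈ maximalIdeal B
      rw [hmB]
      exact Ideal.mem_span_singleton_self _
    have h3 := eq_bot_of_ne _ h2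
    have h4 := isField_stalk_spec_bot ξ ‹_› _ h3
    have hmem : (g (y ((iV ≫ pullback.snd e ω) s))) ∈
        c ⁻¹ᵁ (PrimeSpectrum.basicOpen π : TopologicalSpace.Opens (PrimeSpectrum R)) := by
      rw [mem_iff]
      have h5 : c (g (y ((iV ≫ pullback.snd e ω) s))) = (iV ≫ pullback.snd e ω ≫ y ≫ g ≫ c) s := by
        simp only [Scheme.Hom.comp_apply]
      rw [h5, ← map_ro (R := R) (iV ≫ pullback.snd e ω ≫ y ≫ g ≫ c)]
      change ro (iV ≫ pullback.snd e ω ≫ y ≫ g ≫ c) π ∉ (s : PrimeSpectrum V).asIdeal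
      rw [hsb, hst]
      exact hVirr.ne_zero
    have h5 := (isField_stalk_iff g _ (y ((iV ≫ pullback.snd e ω) s)) hmem).1 h4
    have h6 : g (y ((iV ≫ pullback.snd e ω) s)) = f (ω ((iV ≫ pullback.snd e ω) s)) := by
      rw [← Scheme.Hom.comp_apply, ← Scheme.Hom.comp_apply ω f, hω2]
    rw [h6] at h5 hmem
    have h7 := (isField_stalk_iff f _ (ω ((iV ≫ pullback.snd e ω) s)) hmem).2 h5
    have h8 : ω ((iV ≫ pullback.snd e ω) s) = e ((iV ≫ pullback.fst e ω) s) := by
      rw [← Scheme.Hom.comp_apply, ← Scheme.Hom.comp_apply _ e, Category.assoc, Category.assoc,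
        pullback.condition]
    rw [h8] at h7
    exact isField e _ h7
  · intro s
    obtain ⟨φσ, hloc, hφσ⟩ := exists_stalk σ v hv
    let χ : ResidueField V →+* κ := ResidueField.lift φσ.hom
    have hχ : Spec.map (CommRingCat.ofHom χ) ≫ Spec.map (CommRingCat.ofHom (residue V)) = Spec.map φσ := by
      rw [← Spec.map_comp]
      congr 1
    have h1 : Spec.map (CommRingCat.ofHom χ) ≫ Spec.map (CommRingCat.ofHom (residue V)) ≫
        iV ≫ pullback.snd e ω ≫ y = rB ≫ y := by
      rw [reassoc_of% hχ, reassoc_of% hφσ, reassoc_of% hσ2]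
    have hcl : IsClosedImmersion rB := IsClosedImmersion.spec_of_surjective _ residue_surjective
    have h2 : Function.Surjective ((rB ≫ y).stalkMap s₀) := Scheme.Hom.stalkMap_surjective _ _
    rw [← h1] at h2
    have h3 := surj_of_comp (Spec.map (CommRingCat.ofHom χ)) _ s₀ h2
      (inj_of_isField (isField_stalk_spec _) _)
    have h4 : Spec.map (CommRingCat.ofHom χ) s₀ = s := subsingleton_spec _ _
    rw [h4] at h3
    exact h3
  · intro G _ a' b' hw hG hb' ha'
    obtain ⟨β, hβ1, hβ2, hβ3⟩ := step G a' b' hw hG hb'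
    let γ : Spec G ⟶ Q := pullback.lift a' (Spec.map β) hβ3
    have hγ1 : γ ≫ pullback.fst e ω = a' := pullback.lift_fst _ _ _
    have hγ2 : γ ≫ pullback.snd e ω = Spec.map β := pullback.lift_snd _ _ _
    have hγv : γ (cp G) = v := by
      let κG := ResidueField G
      let rG : Spec (CommRingCat.of κG) ⟶ Spec G := Spec.map (CommRingCat.ofHom (residue G))
      let d : Spec (CommRingCat.of κG) ⟶ Spec (CommRingCat.of κ) :=
        Spec.map (CommRingCat.ofHom (ResidueField.map β.hom))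
      let s₂ : Spec (CommRingCat.of κG) := cp (CommRingCat.of κG)
      have hd : rG ≫ Spec.map β = d ≫ rB := residue_nat β
      have h1 : rG ≫ γ = d ≫ σ := by
        apply pullback.hom_ext
        · rw [Category.assoc, Category.assoc, hγ1, hσ1]
          refine Pt.ext (e ≫ f ≫ c) xk hxk _ _ s₂ s₂ t₁ ?_ ?_ ?_
          · rw [Scheme.Hom.comp_apply, map_residue, ha']
          · rw [Scheme.Hom.comp_apply, Scheme.Hom.comp_apply]
            congr 1
            exact subsingleton_spec _ _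
          · have h3 : (rG ≫ a') ≫ e = (d ≫ b1 ≫ xk) ≫ e := by
              rw [Category.assoc, hβ3, reassoc_of% hd, hb1, Category.assoc, Category.assoc]
            rw [← Category.assoc, h3, Category.assoc]
        · rw [Category.assoc, Category.assoc, hγ2, hσ2, hd]
      have h2 := congr($h1 s₂)
      rw [Scheme.Hom.comp_apply, Scheme.Hom.comp_apply, map_residue] at h2
      rw [h2, ← hv]
      congr 1
      exact subsingleton_spec _ _
    obtain ⟨φ, hφ1, hφ2⟩ := exists_stalk γ v hγv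
    refine ⟨φ, hφ1, ?_, ?_⟩
    · rw [← Category.assoc, hφ2, hγ1]
    · rw [← Category.assoc, hφ2, ← Category.assoc, hγ2, hβ2]

end K851.Dat
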