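import Mathlib.RingTheory.DiscreteValuationRing.TFAE
import Mathlib.RingTheory.Filtration
import Mathlib.RingTheory.AdicCompletion.Basic
import Mathlib.RingTheory.Ideal.KrullsHeightTheorem

/-!
# Local algebra over a discrete valuation ring
-/

set_option autoImplicit false
set_option linter.unusedSectionVars false

open IsLocalRing

namespace K851.Loc

theorem exists_pow_mul {A : Type*} [CommRing A] [IsLocalRing A] [IsNoetherianRing A] {π : A}
    (hπ : π ∈ maximalIdeal A) {a : A} (ha : a ≠ 0) : ∃ n b, a = π ^ n * b ∧ ¬ π ∣ b := by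
  by_contra hcon
  push Not at hcon
  have key : ∀ n, π ^ n ∣ a := by
    intro n
    induction n with
    | zero => simp
    | succ n ih =>
      obtain ⟨b, hb⟩ := ih
      obtain ⟨c, hc⟩ := hcon n b hb
      exact ⟨c, by rw [hb, hc]; ring⟩
  have h1 : a ∈ (⨅ n : ℕ, maximalIdeal A ^ n) := by
    rw [Ideal.mem_iInf]
    intro n
    obtain ⟨b, hb⟩ := key n
    rw [hb]
    exact Ideal.mul_mem_right _ _ (Ideal.pow_mem_pow hπ n)
  rw [Ideal.iInf_pow_eq_bot_of_isLocalRing _ (Ideal.IsPrime.ne_top inferInstance)] at h1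
  exact ha h1

/-- If `π` is regular and generates a prime ideal in a noetherian local ring then the ring is a domain. -/
theorem isDomain_of_prime {A : Type*} [CommRing A] [IsLocalRing A] [IsNoetherianRing A] {π : A}
    (hπ : π ∈ maximalIdeal A) (hreg : ∀ a, π * a = 0 → a = 0) (hp : (Ideal.span {π}).IsPrime) :
    IsDomain A := by
  have h2 : ∀ (n : ℕ) (a : A), π ^ n * a = 0 → a = 0 := by
    intro n
    induction n with
    | zero => intro a h; simpa using h
    | succ n ih => intro a h; exact hreg _ (ih _ (by rw [← mul_assoc, ← pow_succ]; exact h))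
  have : NoZeroDivisors A := by
    refine ⟨fun {a b} hab => ?_⟩
    by_contra hcon
    push Not at hcon
    obtain ⟨n, a', ha, ha'⟩ := exists_pow_mul hπ hcon.1
    obtain ⟨m, b', hb, hb'⟩ := exists_pow_mul hπ hcon.2
    have h3 : a' * b' = 0 := h2 (n + m) _ (by rw [← hab, ha, hb]; ring)
    have h4 : a' * b' ∈ Ideal.span {π} := by rw [h3]; exact zero_mem _
    rcases hp.mem_or_mem h4 with h | h
    · exact ha' (Ideal.mem_span_singleton.1 h)
    · exact hb' (Ideal.mem_span_singleton.1 h)
  exact NoZeroDivisors.to_isDomain A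

theorem dvr_of {A : Type*} [CommRing A] [IsLocalRing A] [IsNoetherianRing A] {π : A}
    (hm : maximalIdeal A = Ideal.span {π}) (hreg : ∀ a, π * a = 0 → a = 0) :
    ∃ _ : IsDomain A, IsDiscreteValuationRing A ∧ Irreducible π := by
  have hπ : π ∈ maximalIdeal A := hm ▸ Ideal.mem_span_singleton_self π
  have hd : IsDomain A := isDomain_of_prime hπ hreg (hm ▸ inferInstance)
  have hne : π ≠ 0 := by
    rintro rfl
    exact one_ne_zero (hreg 1 (zero_mul 1))
  have hnf : ¬ IsField A := by
    rw [IsLocalRing.isField_iff_maximalIdeal_eq, hm, Ideal.span_singleton_eq_bot]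
    exact hne
  have hpr : (maximalIdeal A).IsPrincipal := ⟨⟨π, hm⟩⟩
  have h1 : IsDiscreteValuationRing A := ((IsDiscreteValuationRing.TFAE A hnf).out 0 4).2 hpr
  exact ⟨hd, h1, (IsDiscreteValuationRing.irreducible_iff_uniformizer π).2 hm⟩

/-- Divisibility by powers of the uniformizer descends along local homomorphisms. -/
theorem div_lift {V G : Type*} [CommRing V] [IsDomain V] [IsDiscreteValuationRing V] [CommRing G]
    [IsLocalRing G] (φ : V →+* G) [IsLocalHom φ] {π : V} (hπ : Irreducible π)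
    (hG : ∀ g, φ π * g = 0 → g = 0) (x : V) (n : ℕ) (g : G) (h : φ x = φ π ^ n * g) :
    ∃ v, x = π ^ n * v ∧ φ v = g := by
  have h2 : ∀ (n : ℕ) (a : G), φ π ^ n * a = 0 → a = 0 := by
    intro n
    induction n with
    | zero => intro a h; simpa using h
    | succ n ih => intro a h; exact hG _ (ih _ (by rw [← mul_assoc, ← pow_succ]; exact h))
  by_cases hx : x = 0
  · refine ⟨0, by rw [hx, mul_zero], ?_⟩
    rw [hx, map_zero] at h
    rw [map_zero, h2 n g h.symm]
  · obtain ⟨j, w, hw⟩ := IsDiscreteValuationRing.eq_unit_mul_pow_irreducible hx hπ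
    rcases Nat.lt_or_ge j n with hj | hj
    · exfalso
      have h3 : φ w = φ π ^ (n - j) * g := by
        have h4 : φ π ^ j * (φ w - φ π ^ (n - j) * g) = 0 := by
          have : φ π ^ n = φ π ^ j * φ π ^ (n - j) := by rw [← pow_add]; congr 1; omega
          rw [mul_sub, ← mul_assoc, ← this, ← h, hw, map_mul, map_pow]
          ring
        exact sub_eq_zero.1 (h2 j _ h4)
      have h5 : IsUnit (φ π) := by
        have h6 : IsUnit (φ π ^ (n - j) * g) := h3 ▸ w.isUnit.map φ
        have h7 : IsUnit (φ π ^ (n - j)) := isUnit_of_mul_isUnit_left h6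
        exact (isUnit_pow_iff (by omega)).1 h7
      exact hπ.not_isUnit (isUnit_of_map_unit φ π h5)
    · refine ⟨π ^ (j - n) * w, ?_, ?_⟩
      · rw [hw, ← mul_assoc, ← pow_add]
        rw [mul_comm]
        congr 2
        omega
      · have h4 : φ π ^ n * (φ (π ^ (j - n) * w) - g) = 0 := by
          have : π ^ j = π ^ n * π ^ (j - n) := by rw [← pow_add]; congr 1; omega
          rw [mul_sub, ← h, hw, this]
          simp only [map_mul, map_pow]
          ring
        exact sub_eq_zero.1 (h2 n _ h4)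

/-- In a complete discrete valuation ring, an element of an unramified extension which is arbitrarily close to
constants is constant. -/
theorem exists_eq_of_approx {R V : Type*} [CommRing R] [IsDomain R] [IsDiscreteValuationRing R]
    [IsAdicComplete (maximalIdeal R) R] [CommRing V] [IsDomain V] [IsDiscreteValuationRing V]
    (φ : R →+* V) {π : R} (hπ : Irreducible π) (hV : Irreducible (φ π)) (w : V)
    (h : ∀ n : ℕ, ∃ c : R, φ π ^ n ∣ w - φ c) : ∃ c, w = φ c := by
  choose c hc using h
  have hdiv : ∀ (n : ℕ) (a : R), φ π ^ n ∣ φ a → π ^ n ∣ a := by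
    intro n a ha
    by_cases ha0 : a = 0
    · rw [ha0]; exact dvd_zero _
    · obtain ⟨j, u, hu⟩ := IsDiscreteValuationRing.eq_unit_mul_pow_irreducible ha0 hπ
      rw [hu, map_mul, map_pow, mul_comm] at ha
      have h1 : φ π ^ n ∣ φ π ^ j := (u.isUnit.map φ).dvd_mul_right.1 ha
      have h2 : n ≤ j := (pow_dvd_pow_iff hV.ne_zero hV.not_isUnit).1 h1
      rw [hu]
      exact (pow_dvd_pow π h2).mul_left _
  have hcauchy : ∀ {m n : ℕ}, m ≤ n → c m ≡ c n [SMOD (maximalIdeal R ^ m • ⊤ : Submodule R R)] := by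
    intro m n hmn
    rw [SModEq.sub_mem, smul_eq_mul, Ideal.mul_top, hπ.maximalIdeal_eq, Ideal.span_singleton_pow,
      Ideal.mem_span_singleton]
    apply hdiv
    have h1 : φ (c m - c n) = (w - φ (c n)) - (w - φ (c m)) := by rw [map_sub]; ring
    rw [h1]
    exact dvd_sub ((pow_dvd_pow _ hmn).trans (hc n)) (hc m)
  obtain ⟨L, hL⟩ := IsPrecomplete.prec (I := maximalIdeal R) inferInstance hcauchy
  refine ⟨L, ?_⟩
  by_contra hne
  obtain ⟨j, u, hu⟩ := IsDiscreteValuationRing.eq_unit_mul_pow_irreducible (sub_ne_zero.2 hne) hV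
  have h1 : φ π ^ (j + 1) ∣ w - φ L := by
    have h2 := hL (j + 1)
    rw [SModEq.sub_mem, smul_eq_mul, Ideal.mul_top, hπ.maximalIdeal_eq, Ideal.span_singleton_pow,
      Ideal.mem_span_singleton] at h2
    have h3 := map_dvd φ h2
    rw [map_pow, map_sub] at h3
    have h4 : w - φ L = (w - φ (c (j + 1))) + (φ (c (j + 1)) - φ L) := by ring
    rw [h4]
    exact dvd_add (hc _) h3
  rw [hu, mul_comm] at h1
  have h2 : φ π ^ (j + 1) ∣ φ π ^ j := u.isUnit.dvd_mul_right.1 h1
  have h3 := (pow_dvd_pow_iff hV.ne_zero hV.not_isUnit).1 h2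
  omega

/-- The functions on a scheme all of whose functions are constant modulo `π`. -/
theorem exists_eq_of_surj {R Γ V : Type*} [CommRing R] [IsDomain R] [IsDiscreteValuationRing R]
    [IsAdicComplete (maximalIdeal R) R] [CommRing Γ] [CommRing V] [IsDomain V]
    [IsDiscreteValuationRing V] (ψ : R →+* Γ) (χ : Γ →+* V) {π : R} (hπ : Irreducible π)
    (hV : Irreducible (χ (ψ π))) (h : ∀ g : Γ, ∃ r : R, ψ π ∣ g - ψ r) (g : Γ) :
    ∃ c, χ g = χ (ψ c) := by
  refine exists_eq_of_approx (χ.comp ψ) hπ hV (χ g) fun n => ?_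
  have key : ∀ n : ℕ, ∃ c : R, ψ π ^ n ∣ g - ψ c := by
    intro n
    induction n with
    | zero => exact ⟨0, by simp⟩
    | succ n ih =>
      obtain ⟨c, d, hd⟩ := ih
      obtain ⟨r, e, he⟩ := h d
      refine ⟨c + π ^ n * r, e, ?_⟩
      rw [map_add, map_mul, map_pow, ← sub_sub, hd, ← mul_sub, he]
      ring
  obtain ⟨c, hc⟩ := key n
  refine ⟨c, ?_⟩
  have h1 := map_dvd χ hc
  rwa [map_pow, map_sub] at h1

/-- Krull's theorem: a non-unit not divisible by the prime `π` lies in a prime not containing `π`. -/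
theorem exists_prime {A : Type*} [CommRing A] [IsDomain A] [IsNoetherianRing A] {π u : A}
    (hπ : Prime π) (hu : ¬ IsUnit u) (hπu : ¬ π ∣ u) :
    ∃ q : Ideal A, q.IsPrime ∧ u ∈ q ∧ π ∉ q := by
  obtain ⟨q, hq, -⟩ : ∃ q ∈ (Ideal.span {u}).minimalPrimes, True := by
    obtain ⟨m, hm, hum⟩ := exists_max_ideal_of_mem_nonunits hu
    obtain ⟨q, hq, -⟩ := Ideal.exists_minimalPrimes_le (I := Ideal.span {u}) (J := m)
      ((Ideal.span_singleton_le_iff_mem _).2 hum)
    exact ⟨q, hq, trivial⟩
  have hqp : q.IsPrime := hq.1.1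
  have huq : u ∈ q := hq.1.2 (Ideal.mem_span_singleton_self u)
  refine ⟨q, hqp, huq, fun hπq => ?_⟩
  have h1 : q.height ≤ 1 := Ideal.height_le_one_of_isPrincipal_of_mem_minimalPrimes _ q hq
  have hπ1 : (Ideal.span {π}).IsPrime := (Ideal.span_singleton_prime hπ.ne_zero).2 hπ
  have h2 : Ideal.span {π} = q := by
    by_contra hne
    have h3 : Ideal.span {π} < q := lt_of_le_of_ne ((Ideal.span_singleton_le_iff_mem _).2 hπq) hne
    have h4 : (⊥ : Ideal A) < Ideal.span {π} := by
      rw [bot_lt_iff_ne_bot, ne_eq, Ideal.span_singleton_eq_bot]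
      exact hπ.ne_zero
    have h5 : (2 : ℕ∞) ≤ q.height := by
      have e1 : (Ideal.span {π}).height + 1 ≤ q.height := Ideal.height_add_one_le_of_lt_of_isPrime h3
      have e2 : (⊥ : Ideal A).height + 1 ≤ (Ideal.span {π}).height :=
        Ideal.height_add_one_le_of_lt_of_isPrime h4
      calc (2 : ℕ∞) = 0 + 1 + 1 := by norm_num
        _ ≤ (⊥ : Ideal A).height + 1 + 1 := by gcongr; exact bot_le
        _ ≤ (Ideal.span {π}).height + 1 := by gcongr
        _ ≤ q.height := e1
    have := h5.trans h1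
    exact absurd this (by decide)
  rw [← h2, Ideal.mem_span_singleton] at huq
  exact hπu huq

end K851.Loc
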