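import Groth.Agent.SSMod.K851.Fib
import Groth.Agent.SSMod.K851.Loc
import Mathlib.AlgebraicGeometry.Morphisms.Etale
import Mathlib.RingTheory.Unramified.LocalRing

/-!
# Stalks of etale morphisms; lifting through a morphism which is an isomorphism over an open
-/

set_option autoImplicit false
set_option linter.unusedSectionVars false
universe u

open CategoryTheory CategoryTheory.Limits AlgebraicGeometry TopologicalSpace IsLocalRing

namespace K851.Et

open K851.Fib

theorem map_maximalIdeal {U X : Scheme.{u}} (e : U ⟶ X) [FormallyUnramified e] [LocallyOfFiniteType e]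
    (x : U) : (maximalIdeal (X.presheaf.stalk (e x))).map (e.stalkMap x).hom =
      maximalIdeal (U.presheaf.stalk x) := by
  algebraize [(e.stalkMap x).hom]
  have : IsLocalHom (algebraMap (X.presheaf.stalk (e x)) (U.presheaf.stalk x)) :=
    inferInstanceAs <| IsLocalHom (e.stalkMap x).hom
  have : Algebra.EssFiniteType (X.presheaf.stalk (e x)) (U.presheaf.stalk x) := by
    rw [← RingHom.essFiniteType_algebraMap, RingHom.algebraMap_toAlgebra]
    exact LocallyOfFiniteType.stalkMap e x
  have : Algebra.FormallyUnramified (X.presheaf.stalk (e x)) (U.presheaf.stalk x) := by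
    rw [← RingHom.formallyUnramified_algebraMap, RingHom.algebraMap_toAlgebra]
    exact FormallyUnramified.stalkMap e x
  exact Algebra.FormallyUnramified.map_maximalIdeal

theorem isField {U X : Scheme.{u}} (e : U ⟶ X) [FormallyUnramified e] [LocallyOfFiniteType e]
    (x : U) (h : IsField (X.presheaf.stalk (e x))) : IsField (U.presheaf.stalk x) := by
  rw [IsLocalRing.isField_iff_maximalIdeal_eq, ← map_maximalIdeal e x,
    IsLocalRing.isField_iff_maximalIdeal_eq.1 h, Ideal.map_bot]

section Lift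

variable {X C T : Scheme.{u}} (f : X ⟶ C) (O : C.Opens)

theorem lift_exists [IsIso (f ∣_ O)] (t : T ⟶ C) (ht : ∀ s, t s ∈ O) : ∃ α : T ⟶ X, α ≫ f = t := by
  have h1 : Set.range t ⊆ Set.range O.ι := by
    rw [Scheme.Opens.range_ι]
    rintro _ ⟨s, rfl⟩
    exact ht s
  refine ⟨IsOpenImmersion.lift O.ι t h1 ≫ inv (f ∣_ O) ≫ (f ⁻¹ᵁ O).ι, ?_⟩
  rw [Category.assoc, Category.assoc, ← morphismRestrict_ι, IsIso.inv_hom_id_assoc,
    IsOpenImmersion.lift_fac]

theorem lift_unique [Mono (f ∣_ O)] (α β : T ⟶ X) (h : α ≫ f = β ≫ f) (ht : ∀ s, f (α s) ∈ O) :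
    α = β := by
  have h1 : Set.range α ⊆ Set.range (f ⁻¹ᵁ O).ι := by
    rw [Scheme.Opens.range_ι]
    rintro _ ⟨s, rfl⟩
    exact ht s
  have h2 : Set.range β ⊆ Set.range (f ⁻¹ᵁ O).ι := by
    rw [Scheme.Opens.range_ι]
    rintro _ ⟨s, rfl⟩
    change f (β s) ∈ O
    rw [← Scheme.Hom.comp_apply, ← h]
    exact ht s
  have h3 : IsOpenImmersion.lift _ α h1 = IsOpenImmersion.lift _ β h2 := by
    rw [← cancel_mono (f ∣_ O), ← cancel_mono O.ι, Category.assoc, Category.assoc, morphismRestrict_ι,
      IsOpenImmersion.lift_fac_assoc, IsOpenImmersion.lift_fac_assoc, h]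
  rw [← IsOpenImmersion.lift_fac _ α h1, h3, IsOpenImmersion.lift_fac]

theorem isIso_stalkMap [IsIso (f ∣_ O)] (x : X) (hx : f x ∈ O) : IsIso (f.stalkMap x) := by
  obtain ⟨x', rfl⟩ : x ∈ Set.range (f ⁻¹ᵁ O).ι := by
    rw [Scheme.Opens.range_ι]; exact hx
  have h1 : IsIso ((f ∣_ O ≫ O.ι).stalkMap x') := inferInstance
  have h2 : IsIso (((f ⁻¹ᵁ O).ι ≫ f).stalkMap x') := by
    rw [← morphismRestrict_ι]; exact h1
  have h3 : IsIso (f.stalkMap ((f ⁻¹ᵁ O).ι x') ≫ (f ⁻¹ᵁ O).ι.stalkMap x') := by
    rw [Scheme.Hom.stalkMap_comp] at h2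
    exact h2
  exact IsIso.of_isIso_comp_right _ ((f ⁻¹ᵁ O).ι.stalkMap x')

theorem isField_stalk_iff [IsIso (f ∣_ O)] (x : X) (hx : f x ∈ O) :
    IsField (X.presheaf.stalk x) ↔ IsField (C.presheaf.stalk (f x)) := by
  have := isIso_stalkMap f O x hx
  exact (asIso (f.stalkMap x)).commRingCatIsoToRingEquiv.toMulEquiv.isField_congr.symm

end Lift

/-- `Spec 𝒪_{X,x} ⟶ X` is an isomorphism on stalks. -/
theorem isIso_stalkMap_fromSpecStalk {X : Scheme.{u}} (x : X) (p : Spec (X.presheaf.stalk x)) :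
    IsIso ((X.fromSpecStalk x).stalkMap p) := by
  let f := X.fromSpecStalk x
  have h1 : Function.Surjective (f.stalkMap p) := Scheme.Hom.stalkMap_surjective f p
  have h2 : (f.stalkMap p).hom.Flat := Flat.stalkMap f p
  have h3 : Function.Injective (f.stalkMap p).hom := by
    algebraize [(f.stalkMap p).hom]
    have : IsLocalHom (algebraMap (X.presheaf.stalk (f p)) ((Spec (X.presheaf.stalk x)).presheaf.stalk p)) :=
      inferInstanceAs (IsLocalHom (f.stalkMap p).hom)
    have := Module.FaithfullyFlat.of_flat_of_isLocalHom (A := X.presheaf.stalk (f p))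
      (B := (Spec (X.presheaf.stalk x)).presheaf.stalk p)
    exact FaithfulSMul.algebraMap_injective _ _
  exact (ConcreteCategory.isIso_iff_bijective (f.stalkMap p)).mpr ⟨h3, h1⟩

/-- The local ring at a maximal point of a reduced scheme is a field. -/
theorem isField_stalk_of_max {T : Scheme.{u}} [IsReduced T] (η : T) (hη : ∀ t : T, t ⤳ η → t = η) :
    IsField (T.presheaf.stalk η) := by
  have hu : ∀ p : PrimeSpectrum (T.presheaf.stalk η), p = IsLocalRing.closedPoint _ := by
    intro p
    have h1 : (T.fromSpecStalk η) p ∈ Set.range (T.fromSpecStalk η) := ⟨p, rfl⟩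
    rw [Scheme.range_fromSpecStalk] at h1
    have h2 := hη _ h1
    apply (T.fromSpecStalk η).isEmbedding.injective
    rw [h2, Scheme.fromSpecStalk_closedPoint]
  have hred : _root_.IsReduced (T.presheaf.stalk η) := inferInstance
  have h3 : IsLocalRing.maximalIdeal (T.presheaf.stalk η) = ⊥ := by
    rw [eq_bot_iff]
    intro a ha
    have h4 : a ∈ nilradical (T.presheaf.stalk η) := by
      rw [nilradical_eq_sInf, Submodule.mem_sInf]
      intro p hp
      have := hu ⟨p, hp⟩
      have h5 : p = IsLocalRing.maximalIdeal (T.presheaf.stalk η) := congrArg PrimeSpectrum.asIdeal this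
      rw [h5]; exact ha
    rw [nilradical_eq_zero] at h4
    exact h4
  exact (IsLocalRing.isField_iff_maximalIdeal_eq).2 h3

/-- The stalk at the generic point of a domain. -/
theorem isField_stalk_bot (B : Type u) [CommRing B] [IsDomain B] (s : Spec (CommRingCat.of B))
    (hs : (s : PrimeSpectrum B).asIdeal = ⊥) : IsField ((Spec (CommRingCat.of B)).presheaf.stalk s) := by
  have h1 : s = genericPoint (Spec (CommRingCat.of B)) := by
    rw [genericPoint_eq_bot_of_affine]
    exact PrimeSpectrum.ext hs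
  rw [h1]
  exact Field.toIsField (Spec (CommRingCat.of B)).functionField

theorem isField_stalk_spec_bot {Y : Scheme.{u}} (ξ : Y) (hd : IsDomain (Y.presheaf.stalk ξ))
    (s : Spec (Y.presheaf.stalk ξ)) (hs : (s : PrimeSpectrum (Y.presheaf.stalk ξ)).asIdeal = ⊥) :
    IsField (Y.presheaf.stalk (Y.fromSpecStalk ξ s)) := by
  have := isIso_stalkMap_fromSpecStalk ξ s
  exact (asIso ((Y.fromSpecStalk ξ).stalkMap s)).commRingCatIsoToRingEquiv.toMulEquiv.isField_congr.2
    (@isField_stalk_bot (Y.presheaf.stalk ξ) _ hd s hs)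

end K851.Et
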