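import Groth.Agent.SSMod.K851.Sit

/-!
# The images of the closed points of the rational curve: algebraic core
-/

set_option autoImplicit false
set_option linter.unusedSectionVars false
set_option linter.dupNamespace false
universe u

open CategoryTheory CategoryTheory.Limits AlgebraicGeometry TopologicalSpace IsLocalRing

namespace K851.FA

open K851.Fib K851.LemN K851.Et K851.Sep K851.Pt K851.Tor K851.Dat K851.NS K851.Line K851.Mark K851.Chart
  K851.DDef K851.Ext K851.Tx K851.Sel K851.TA K851.TB K851.TC K851.Sit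

variable {R : Type u} [CommRing R] [IsDomain R] [IsDiscreteValuationRing R] [IsAlgClosed (ResidueField R)]
  {𝔇 : DD R}

theorem core (S : Sit 𝔇) {U₁ : Scheme.{u}} (e₁ : U₁ ⟶ 𝔇.Y) [Etale e₁] {N : Type u} [CommRing N]
    (g₁ : U₁ ⟶ Spec (CommRingCat.of N)) (ι : R →+* N)
    (w₁ : g₁ ≫ Spec.map (CommRingCat.ofHom ι) = e₁ ≫ 𝔇.qY)
    (b : Spec (CommRingCat.of (ResidueField R)) ⟶ Spec (CommRingCat.of (Localization.Away S.p)))
    (hb : b ≫ Spec.map (CommRingCat.ofHom (kP S.p)) = 𝟙 _)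
    (xk : Spec (CommRingCat.of (ResidueField R)) ⟶ U₁) (hxk : xk ≫ e₁ = b ≫ S.j ≫ S.h)
    (t : Spec (CommRingCat.of (ResidueField R)))
    (η : Spec (CommRingCat.of (Localization.Away S.p))) (hη : ∀ z, η ⤳ z) :
    ∃ (L : Type u) (_ : CommRing L) (_ : IsDomain L) (_ : IsNoetherianRing L) (ν : N →+* L),
      Prime (ν (ι 𝔇.π)) ∧
      (∀ n, n ∈ (g₁ (xk t) : PrimeSpectrum N).asIdeal → ¬ IsUnit (ν n)) ∧
      (∃ u₁ : U₁, u₁ ⤳ xk t ∧ e₁ u₁ = (S.j ≫ S.h) η ∧
        ∀ n, ν (ι 𝔇.π) ∣ ν n → n ∈ (g₁ u₁ : PrimeSpectrum N).asIdeal) ∧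
      (∀ 𝔮 : Ideal L, 𝔮.IsPrime → ν (ι 𝔇.π) ∉ 𝔮 → ∃ (u₂ : U₁) (t₂ : S.T), u₂ ⤳ xk t ∧ e₁ u₂ = S.h t₂ ∧
        𝔇.qX (S.s t₂) ≠ cp (CommRingCat.of R) ∧
        ∀ n, n ∈ (g₁ u₂ : PrimeSpectrum N).asIdeal ↔ ν n ∈ 𝔮) := by
  have hsm := S.sm
  let T' := pullback S.h e₁
  let lam : T' ⟶ S.T := pullback.fst S.h e₁
  let mu : T' ⟶ U₁ := pullback.snd S.h e₁
  have hlm : lam ≫ S.h = mu ≫ e₁ := pullback.condition
  let z : Spec (CommRingCat.of (ResidueField R)) ⟶ T' := pullback.lift (b ≫ S.j) xk (by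
    rw [Category.assoc, hxk])
  have hz1 : z ≫ lam = b ≫ S.j := pullback.lift_fst _ _ _
  have hz2 : z ≫ mu = xk := pullback.lift_snd _ _ _
  let Q := pullback lam S.j
  let zQ : Spec (CommRingCat.of (ResidueField R)) ⟶ Q := pullback.lift z b hz1
  have hq1 : zQ ≫ pullback.fst lam S.j = z := pullback.lift_fst _ _ _
  have hq2 : zQ ≫ pullback.snd lam S.j = b := pullback.lift_snd _ _ _
  let q₀ : Q := zQ t
  let t' : T' := pullback.fst lam S.j q₀
  have ht' : t' = z t := by rw [← hq1]; rfl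
  have hmt : mu t' = xk t := by rw [ht', ← Scheme.Hom.comp_apply, hz2]
  let q' : T' ⟶ Spec (CommRingCat.of R) := lam ≫ S.s ≫ 𝔇.qX
  have hq's : Smooth q' := inferInstanceAs (Smooth (lam ≫ S.s ≫ 𝔇.qX))
  have hwS : S.s ≫ 𝔇.qX = S.h ≫ 𝔇.qY := by
    change S.s ≫ 𝔇.f ≫ 𝔇.c = S.h ≫ 𝔇.g ≫ 𝔇.c
    rw [← Category.assoc, ← S.w, Category.assoc]
  have hq' : q' = (mu ≫ g₁) ≫ Spec.map (CommRingCat.ofHom ι) := by
    change lam ≫ S.s ≫ 𝔇.qX = _
    rw [hwS, Category.assoc, w₁, ← Category.assoc, hlm, Category.assoc]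
  have hzq : z ≫ q' = sp R := by
    change z ≫ lam ≫ S.s ≫ 𝔇.qX = sp R
    rw [reassoc_of% hz1, ← Category.assoc S.j, S.js, Category.assoc, S.hx₀, ← Category.assoc, hb,
      Category.id_comp]
  have hqt : q' t' = cp (CommRingCat.of R) := by
    rw [ht', ← Scheme.Hom.comp_apply, hzq]
    exact map_residue (CommRingCat.of R) t
  have hdom := isDomain_st q' t'
  have hnT : IsLocallyNoetherian T' := LocallyOfFiniteType.isLocallyNoetherian q'
  let ν : N →+* T'.presheaf.stalk t' := st (mu ≫ g₁) t'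
  have hν : ∀ r, ν (ι r) = st q' t' r := by
    intro r
    rw [hq', st_map]
  have hπ0 : st q' t' 𝔇.π ≠ 0 := by
    intro h0
    have := eq_zero_of_st_mul q' t' 𝔇.hπ.ne_zero 1 (by rw [h0, zero_mul])
    exact one_ne_zero this
  have hpr : Prime (ν (ι 𝔇.π)) := by
    rw [hν]
    exact (Ideal.span_singleton_prime hπ0).1 (isPrime_st 𝔇.hπ q' t' hqt)
  refine ⟨T'.presheaf.stalk t', inferInstance, hdom, inferInstance, ν, hpr, ?_, ?_, ?_⟩
  · intro n hn
    change ¬ IsUnit (st (mu ≫ g₁) t' n)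
    rw [isUnit_st_iff, not_not, Scheme.Hom.comp_apply, hmt]
    exact hn
  · have hfl : Flat (pullback.snd lam S.j) := inferInstance
    obtain ⟨q₁, hq₁, hq₁'⟩ := Flat.generalizingMap (pullback.snd lam S.j) (hη (pullback.snd lam S.j q₀))
    refine ⟨mu (pullback.fst lam S.j q₁), ?_, ?_, ?_⟩
    · rw [← hmt]
      exact (hq₁.map (pullback.fst lam S.j).continuous).map mu.continuous
    · rw [← Scheme.Hom.comp_apply, ← hlm, Scheme.Hom.comp_apply, ← Scheme.Hom.comp_apply _ lam,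
        pullback.condition, Scheme.Hom.comp_apply, hq₁', Scheme.Hom.comp_apply]
    · rintro n ⟨y, hy⟩
      have h1 : st (pullback.fst lam S.j ≫ mu ≫ g₁) q₀ n = 0 := by
        rw [st_comp]
        have h2 : (st (mu ≫ g₁) (pullback.fst lam S.j q₀)) n = ν (ι 𝔇.π) * y := hy
        rw [h2, map_mul]
        have h3 : (pullback.fst lam S.j).stalkMap q₀ (ν (ι 𝔇.π)) = 0 := by
          rw [hν]
          change (pullback.fst lam S.j).stalkMap q₀ (st q' (pullback.fst lam S.j q₀) 𝔇.π) = 0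
          rw [← st_comp]
          have h4 : pullback.fst lam S.j ≫ q' =
              (pullback.snd lam S.j ≫ Spec.map (CommRingCat.ofHom (kP S.p))) ≫ sp R := by
            change pullback.fst lam S.j ≫ lam ≫ S.s ≫ 𝔇.qX = _
            rw [pullback.condition_assoc, ← Category.assoc S.j, S.js, Category.assoc, S.hx₀, Category.assoc]
          rw [h4, st_map, residue_pi 𝔇.hπ, map_zero]
        rw [h3, zero_mul]
      have h2 : st (pullback.fst lam S.j ≫ mu ≫ g₁) q₁ n = 0 := by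
        rw [← st_specializes (pullback.fst lam S.j ≫ mu ≫ g₁) hq₁, h1, map_zero]
      have h3 : ¬ IsUnit (st (pullback.fst lam S.j ≫ mu ≫ g₁) q₁ n) := by
        rw [h2]; exact not_isUnit_zero
      rw [isUnit_st_iff, not_not] at h3
      simpa only [Scheme.Hom.comp_apply] using h3
  · intro 𝔮 h𝔮 hπ𝔮
    let s𝔮 : Spec (T'.presheaf.stalk t') := (⟨𝔮, h𝔮⟩ : PrimeSpectrum (T'.presheaf.stalk t'))
    have hiff : ∀ {A : Type u} [CommRing A] (q : T' ⟶ Spec (CommRingCat.of A)) (n : A),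
        n ∈ (q (T'.fromSpecStalk t' s𝔮) : PrimeSpectrum A).asIdeal ↔ st q t' n ∈ 𝔮 := by
      intro A _ q n
      rw [← Scheme.Hom.comp_apply, ← map_ro (T'.fromSpecStalk t' ≫ q), ← ro_stalk q t' n]
      rfl
    refine ⟨mu (T'.fromSpecStalk t' s𝔮), lam (T'.fromSpecStalk t' s𝔮), ?_, ?_, ?_, ?_⟩
    · rw [← hmt]
      refine Specializes.map ?_ mu.continuous
      have h1 : s𝔮 ⤳ cp (T'.presheaf.stalk t') := specializes_closedPoint s𝔮
      have h2 := h1.map (T'.fromSpecStalk t').continuous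
      rwa [fromSpecStalk_cp] at h2
    · rw [← Scheme.Hom.comp_apply, ← hlm, Scheme.Hom.comp_apply]
    · intro hcon
      apply hπ𝔮
      rw [hν, ← hiff q' 𝔇.π]
      have h1 : q' (T'.fromSpecStalk t' s𝔮) = cp (CommRingCat.of R) := by
        rw [← hcon]
        simp only [q', Scheme.Hom.comp_apply]
      rw [h1]
      exact 𝔇.hπ.not_isUnit
    · intro n
      rw [← Scheme.Hom.comp_apply]
      exact hiff (mu ≫ g₁) n

end K851.FA
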