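import Groth.Agent.SSMod.K851.FA
import Mathlib.AlgebraicGeometry.Morphisms.QuasiFinite

/-!
# The images of the closed points of the rational curve are smooth and unmarked
-/

set_option autoImplicit false
set_option linter.unusedSectionVars false
set_option linter.dupNamespace false
universe u

open CategoryTheory CategoryTheory.Limits AlgebraicGeometry TopologicalSpace IsLocalRing

namespace K851.FB

open K851.Fib K851.LemN K851.Et K851.Sep K851.Pt K851.Tor K851.Dat K851.NS K851.Line K851.Mark K851.Chart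
  K851.DDef K851.Ext K851.Tx K851.Sel K851.TA K851.TB K851.TC K851.Sit K851.FA

theorem lqf_of_etale {X Y : Scheme.{u}} (f : X ⟶ Y) [AlgebraicGeometry.Etale f] :
    LocallyQuasiFinite f := by
  constructor
  intro U hU V hV e
  have h := Etale.etale_appLE f hU hV e
  algebraize [(f.appLE U V e).hom]
  change Algebra.QuasiFinite _ _
  infer_instance

/-- étale maps: a generization with the same image is trivial -/
theorem eq_of_specializes_of_etale {X Y : Scheme.{u}} (f : X ⟶ Y) [Etale f] {a b : X} (h : a ⤳ b)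
    (hf : f a = f b) : a = b := by
  have := lqf_of_etale f
  have hd := f.isDiscrete_preimage_singleton (f b)
  obtain ⟨O, hO, hOu⟩ := isDiscrete_iff_forall_mem_exists_isOpen.1 hd b rfl
  have hb : b ∈ O := (hOu.symm ▸ Set.mem_singleton b : b ∈ O ∩ f ⁻¹' {f b}).1
  have ha : a ∈ O := h.mem_open hO hb
  have : a ∈ O ∩ f ⁻¹' {f b} := ⟨ha, hf⟩
  rw [hOu] at this
  exact this

theorem isClosed_of_etale {D S : Scheme.{u}} (q : D ⟶ S) [Etale q] (d : D)
    (hd : IsClosed ({q d} : Set S)) : IsClosed ({d} : Set D) := by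
  rw [← closure_subset_iff_isClosed]
  intro e he
  have h1 : d ⤳ e := specializes_iff_mem_closure.2 he
  have h2 : q d ⤳ q e := h1.map q.continuous
  have h3 : q e = q d := by
    have h4 := specializes_iff_mem_closure.1 h2
    rw [hd.closure_eq] at h4
    exact h4
  exact (eq_of_specializes_of_etale q h1 h3.symm).symm

variable {R : Type u} [CommRing R] [IsDomain R] [IsDiscreteValuationRing R]

theorem isClosed_cp : IsClosed ({cp (CommRingCat.of R)} : Set (Spec (CommRingCat.of R))) :=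
  (PrimeSpectrum.isClosed_singleton_iff_isMaximal _).2 (maximalIdeal.isMaximal R)

theorem isClosed_pt {Y : Scheme.{u}} (q : Y ⟶ Spec (CommRingCat.of R)) [IsSeparated q]
    (y₀ : Spec (CommRingCat.of (ResidueField R)) ⟶ Y) (h : y₀ ≫ q = sp R)
    (t : Spec (CommRingCat.of (ResidueField R))) : IsClosed ({y₀ t} : Set Y) := by
  have h1 : IsClosedImmersion (y₀ ≫ q) := by rw [h]; infer_instance
  have h2 : IsClosedImmersion y₀ := IsClosedImmersion.of_comp y₀ q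
  have h3 : ({y₀ t} : Set Y) = Set.range y₀ := by
    ext z
    constructor
    · rintro rfl; exact ⟨t, rfl⟩
    · rintro ⟨s, rfl⟩
      rw [subsingleton_spec s t]
      rfl
  rw [h3]
  exact y₀.isClosedEmbedding.isClosed_range

theorem mem_congr {X S : Scheme.{u}} {q q' : X ⟶ S} [LocallyOfFinitePresentation q]
    [LocallyOfFinitePresentation q'] (h : q = q') {x x' : X} (hx : x = x') :
    x ∈ q.smoothLocus ↔ x' ∈ q'.smoothLocus := by
  subst h hx
  rfl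

/-- Transport of smoothness along isomorphisms over an open. -/
theorem smooth_transport {C X S : Scheme.{u}} (c : C ⟶ S) [LocallyOfFinitePresentation c]
    (f : X ⟶ C) [LocallyOfFinitePresentation (f ≫ c)] (O : C.Opens) [IsIso (f ∣_ O)] (x : X) (z : (O : Scheme.{u}))
    (hx : f x = O.ι z) : x ∈ (f ≫ c).smoothLocus ↔ z ∈ (O.ι ≫ c).smoothLocus := by
  have hxO : f x ∈ O := by
    rw [hx]
    have : O.ι z ∈ Set.range O.ι := ⟨z, rfl⟩
    rwa [Scheme.Opens.range_ι] at this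
  obtain ⟨x', rfl⟩ : ∃ x' : ((f ⁻¹ᵁ O : X.Opens) : Scheme.{u}), (f ⁻¹ᵁ O).ι x' = x := by
    have : x ∈ Set.range (f ⁻¹ᵁ O).ι := by rw [Scheme.Opens.range_ι]; exact hxO
    exact this
  have h1 : (f ⁻¹ᵁ O).ι ≫ f ≫ c = (f ∣_ O) ≫ O.ι ≫ c := by rw [morphismRestrict_ι_assoc]
  have h2 : (f ∣_ O) x' = z := by
    apply O.ι.isOpenEmbedding.injective
    rw [← hx, ← Scheme.Hom.comp_apply, morphismRestrict_ι, Scheme.Hom.comp_apply]
  rw [mem_iff_of_etale (f ⁻¹ᵁ O).ι (f ≫ c) x', mem_congr h1 rfl,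
    ← mem_iff_of_etale (f ∣_ O) (O.ι ≫ c) x', h2]

/-- The kernel of the evaluation at the origin. -/
theorem mem_of_oo_eq_zero' {π : R} (hπ : Irreducible π) {N : Type u} [CommRing N] (ι : R →+* N)
    (x : Fin 2 → N) (hext : ∀ (L : Type u) [CommRing L] (φ φ' : N →+* L), φ.comp ι = φ'.comp ι →
      φ (x 0) = φ' (x 0) → φ (x 1) = φ' (x 1) → φ = φ') (o : N →+* ResidueField R)
    (ho : o.comp ι = residue R) (hx : ∀ i, o (x i) = 0) (I : Ideal N)
    (hπI : ι π ∈ I) (hxI : ∀ i, x i ∈ I) (n : N) (hn : o n = 0) : n ∈ I := by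
  rw [← Ideal.Quotient.eq_zero_iff_mem]
  have h1 : ∀ r ∈ maximalIdeal R, ((Ideal.Quotient.mk I).comp ι) r = 0 := by
    intro r hr
    rw [hπ.maximalIdeal_eq, Ideal.mem_span_singleton] at hr
    obtain ⟨s, rfl⟩ := hr
    rw [map_mul]
    have : ((Ideal.Quotient.mk I).comp ι) π = 0 := Ideal.Quotient.eq_zero_iff_mem.2 hπI
    rw [this, zero_mul]
  let τ : ResidueField R →+* N ⧸ I := Ideal.Quotient.lift (maximalIdeal R)
    ((Ideal.Quotient.mk I).comp ι) h1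
  have hτ : ∀ r, τ (residue R r) = Ideal.Quotient.mk I (ι r) := fun r => rfl
  have h2 : Ideal.Quotient.mk I = τ.comp o := by
    apply hext
    · ext r
      change _ = τ (o (ι r))
      have : o (ι r) = residue R r := congr($ho r)
      rw [this, hτ]
      rfl
    · change _ = τ (o (x 0))
      rw [hx, map_zero, Ideal.Quotient.eq_zero_iff_mem]
      exact hxI 0
    · change _ = τ (o (x 1))
      rw [hx, map_zero, Ideal.Quotient.eq_zero_iff_mem]
      exact hxI 1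
  rw [h2]
  change τ (o n) = 0
  rw [hn, map_zero]

theorem mem_of_oo_eq_zero {π : R} (hπ : Irreducible π) (a : R) (o : Nd a →+* ResidueField R)
    (ho : o.comp (ndι a) = residue R) (hx : ∀ i, o (ndx a i) = 0) (I : Ideal (Nd a))
    (hπI : ndι a π ∈ I) (hxI : ∀ i, ndx a i ∈ I) (n : Nd a) (hn : o n = 0) : n ∈ I :=
  mem_of_oo_eq_zero' hπ (ndι a) (ndx a) (fun L _ φ φ' h h0 h1 => nd_ext h h0 h1) o ho hx I hπI hxI n hn

variable [IsAlgClosed (ResidueField R)] {𝔇 : DD R}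

theorem transport (x : 𝔇.X) (y : 𝔇.Y) (h : 𝔇.f x = 𝔇.g y) (hx : 𝔇.qX x ≠ cp (CommRingCat.of R))
    (hs : x ∈ 𝔇.qX.smoothLocus) : y ∈ 𝔇.qY.smoothLocus := by
  have hlfp : LocallyOfFinitePresentation 𝔇.c := by
    exact LocallyOfFinitePresentation.iff_locallyOfFiniteType.2 𝔇.fc
  have hmem : 𝔇.f x ∈ 𝔇.c ⁻¹ᵁ Dπ 𝔇.π := by
    rw [mem_iff]
    intro hcon
    apply hx
    by_contra hne
    have h10 := eq_bot_of_ne (V := CommRingCat.of R) _ hne
    change 𝔇.π ∈ (𝔇.qX x : PrimeSpectrum R).asIdeal at hcon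
    rw [h10] at hcon
    exact 𝔇.hπ.ne_zero hcon
  obtain ⟨z, hz⟩ : ∃ z, (𝔇.c ⁻¹ᵁ Dπ 𝔇.π).ι z = 𝔇.f x := by
    have : 𝔇.f x ∈ Set.range (𝔇.c ⁻¹ᵁ Dπ 𝔇.π).ι := by rw [Scheme.Opens.range_ι]; exact hmem
    exact this
  rw [smooth_transport 𝔇.c 𝔇.f (𝔇.c ⁻¹ᵁ Dπ 𝔇.π) x z hz.symm] at hs
  rw [smooth_transport 𝔇.c 𝔇.g (𝔇.c ⁻¹ᵁ Dπ 𝔇.π) y z (h.symm.trans hz.symm)]
  exact hs

theorem hy (S : Sit 𝔇)
    (b : Spec (CommRingCat.of (ResidueField R)) ⟶ Spec (CommRingCat.of (Localization.Away S.p)))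
    (hb : b ≫ Spec.map (CommRingCat.ofHom (kP S.p)) = 𝟙 _) :
    (b ≫ S.j ≫ S.h) ≫ 𝔇.qY = sp R := by
  have hwS : S.s ≫ 𝔇.qX = S.h ≫ 𝔇.qY := by
    change S.s ≫ 𝔇.f ≫ 𝔇.c = S.h ≫ 𝔇.g ≫ 𝔇.c
    rw [← Category.assoc, ← S.w, Category.assoc]
  rw [Category.assoc, Category.assoc, ← hwS, ← Category.assoc S.j, S.js, Category.assoc, S.hx₀,
    ← Category.assoc, hb, Category.id_comp]

/-- The image is in the smooth locus. -/
theorem claimA [IsAdicComplete (maximalIdeal R) R] (S : Sit 𝔇)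
    (b : Spec (CommRingCat.of (ResidueField R)) ⟶ Spec (CommRingCat.of (Localization.Away S.p)))
    (hb : b ≫ Spec.map (CommRingCat.ofHom (kP S.p)) = 𝟙 _)
    (t : Spec (CommRingCat.of (ResidueField R))) : (b ≫ S.j ≫ S.h) t ∈ 𝔇.qY.smoothLocus := by
  by_contra hcon
  have hdomP : IsDomain (Localization.Away S.p) := isDomain_away S.hp
  obtain ⟨U₁, e₁, he₁, xk, hxk, a, ha, g₁, hg₁, w₁⟩ :=
    K851.LC.exists_chart 𝔇.hπ 𝔇.qY 𝔇.nY (b ≫ S.j ≫ S.h) (hy S b hb)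
  let η : Spec (CommRingCat.of (Localization.Away S.p)) := (⊥ : PrimeSpectrum (Localization.Away S.p))
  have hη : ∀ z, η ⤳ z := fun z => (PrimeSpectrum.le_iff_specializes _ _).1 bot_le
  obtain ⟨L, _, _, _, ν, hν, hC2, hC3, hC4⟩ := core S e₁ g₁ (ndι a) w₁ b hb xk hxk t η hη
  have ho := oo_comp xk g₁ (ndι a) e₁ 𝔇.qY w₁ (by rw [← Category.assoc, hxk, hy S b hb])
  have hzero : ∀ i, ndx a i ∈ (g₁ (xk t) : PrimeSpectrum (Nd a)).asIdeal := by
    intro i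
    by_contra hi
    apply hcon
    rw [← hxk, Scheme.Hom.comp_apply]
    exact mem_smoothLocus_node 𝔇.qY e₁ a g₁ w₁ i (xk t) hi
  have hπ0 : ndι a 𝔇.π ∈ (g₁ (xk t) : PrimeSpectrum (Nd a)).asIdeal := by
    rw [← oo_eq_zero_iff xk g₁ t]
    have := congr($ho 𝔇.π)
    rw [residue_pi 𝔇.hπ] at this
    exact this
  have hclosed : IsClosed ({(b ≫ S.j ≫ S.h) t} : Set 𝔇.Y) := isClosed_pt 𝔇.qY _ (hy S b hb) t
  by_cases hall : ∀ i, ν (ndι a 𝔇.π) ∣ ν (ndx a i)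
  · obtain ⟨u₁, hu1, hu2, hu3⟩ := hC3
    have h1 : g₁ u₁ = g₁ (xk t) := by
      have h2 : g₁ u₁ ⤳ g₁ (xk t) := hu1.map g₁.continuous
      have h3 : (g₁ u₁ : PrimeSpectrum (Nd a)).asIdeal ≤ (g₁ (xk t) : PrimeSpectrum (Nd a)).asIdeal :=
        (PrimeSpectrum.le_iff_specializes _ _).2 h2
      apply PrimeSpectrum.ext
      refine le_antisymm h3 ?_
      intro n hn
      rw [← oo_eq_zero_iff xk g₁ t] at hn
      exact mem_of_oo_eq_zero 𝔇.hπ a (oo xk g₁) ho (fun i => (oo_eq_zero_iff xk g₁ t _).2 (hzero i))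
        (g₁ u₁ : PrimeSpectrum (Nd a)).asIdeal (hu3 _ dvd_rfl) (fun i => hu3 _ (hall i)) n hn
    have h2 := eq_of_specializes_of_etale g₁ hu1 h1
    apply (S.gen η rfl).1
    rw [← hu2, h2, ← Scheme.Hom.comp_apply, hxk]
    exact hclosed
  · push Not at hall
    obtain ⟨i, hi⟩ := hall
    have hrel : ν (ndx a i) * ν (ndx a (1 - i)) = ν (ndι a a) := by
      rw [← map_mul, nd_rel' a i]
    rcases ha with ha | ⟨n, hn⟩
    · have h0 : ν (ndι a a) = 0 := by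
        have : ndι a a = 0 := by
          have h1 : ndι a a = ndι a 0 := congrArg _ ha
          rw [h1, map_zero]
        rw [this, map_zero]
      rw [h0] at hrel
      have hne : ν (ndx a i) ≠ 0 := fun h => hi (h ▸ dvd_zero _)
      have hz : ν (ndx a (1 - i)) = 0 := (mul_eq_zero.1 hrel).resolve_left hne
      obtain ⟨𝔮, h𝔮, hm, hπm⟩ := K851.Loc.exists_prime hν (hC2 _ (hzero i)) hi
      obtain ⟨u₂, t₂, hu1, hu2, hu3, hu4⟩ := hC4 𝔮 h𝔮 hπm
      have hvan : ∀ j, ndx a j ∈ (g₁ u₂ : PrimeSpectrum (Nd a)).asIdeal := by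
        intro j
        rw [hu4]
        by_cases hj : j = i
        · rw [hj]; exact hm
        · have : j = 1 - i := by
            revert hj
            fin_cases i <;> fin_cases j <;> simp
          rw [this, hz]
          exact zero_mem _
      have hsm2 : e₁ u₂ ∈ 𝔇.qY.smoothLocus := by
        refine transport (S.s t₂) (e₁ u₂) ?_ hu3 (S.sml t₂ hu3).1
        rw [hu2, ← Scheme.Hom.comp_apply, ← Scheme.Hom.comp_apply, S.w]
      rw [mem_iff_of_etale] at hsm2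
      have hpr := (exists_open (e₁ ≫ 𝔇.qY) u₂ hsm2).1
      refine ns a 0 (by rw [Ideal.span_singleton_zero]; exact Ideal.isPrime_bot) (by rw [ha]) g₁ u₂ ?_
        hvan (by rw [map_zero]; exact zero_mem _)
      rw [map_zero, Ideal.span_singleton_zero]
      exact Ideal.isPrime_bot
    · have h0 : ν (ndι a a) = ν (ndι a 𝔇.π) ^ n := by
        rw [← map_pow, ← map_pow]
        exact congrArg (fun r => ν (ndι a r)) hn
      rw [h0] at hrel
      have hd : ν (ndι a 𝔇.π) ^ n ∣ ν (ndx a (1 - i)) :=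
        hν.pow_dvd_of_dvd_mul_left n hi (by rw [hrel])
      obtain ⟨y, hy⟩ := hd
      apply hC2 _ (hzero i)
      refine IsUnit.of_mul_eq_one y ?_
      apply mul_left_cancel₀ (pow_ne_zero n hν.ne_zero)
      rw [mul_one]
      calc ν (ndι a 𝔇.π) ^ n * (ν (ndx a i) * y) = ν (ndx a i) * (ν (ndι a 𝔇.π) ^ n * y) := by ring
        _ = ν (ndx a i) * ν (ndx a (1 - i)) := by rw [← hy]
        _ = ν (ndι a 𝔇.π) ^ n := hrel

theorem jh_qY (S : Sit 𝔇) : (S.j ≫ S.h) ≫ 𝔇.qY = Spec.map (CommRingCat.ofHom (kP S.p)) ≫ sp R := by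
  have hwS : S.s ≫ 𝔇.qX = S.h ≫ 𝔇.qY := by
    change S.s ≫ 𝔇.f ≫ 𝔇.c = S.h ≫ 𝔇.g ≫ 𝔇.c
    rw [← Category.assoc, ← S.w, Category.assoc]
  rw [Category.assoc, ← hwS, ← Category.assoc S.j, S.js, Category.assoc, S.hx₀]

theorem jh_cp (S : Sit 𝔇) (z : Spec (CommRingCat.of (Localization.Away S.p))) :
    𝔇.qY ((S.j ≫ S.h) z) = cp (CommRingCat.of R) := by
  rw [← Scheme.Hom.comp_apply, jh_qY S, Scheme.Hom.comp_apply]
  exact map_residue (CommRingCat.of R) _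

/-- The image is not marked. -/
theorem claimB [IsAdicComplete (maximalIdeal R) R] (S : Sit 𝔇)
    (b : Spec (CommRingCat.of (ResidueField R)) ⟶ Spec (CommRingCat.of (Localization.Away S.p)))
    (hb : b ≫ Spec.map (CommRingCat.ofHom (kP S.p)) = 𝟙 _)
    (t : Spec (CommRingCat.of (ResidueField R))) : (b ≫ S.j ≫ S.h) t ∉ Set.range 𝔇.iY := by
  rintro ⟨d, hd⟩
  have hdomP : IsDomain (Localization.Away S.p) := isDomain_away S.hp
  obtain ⟨U₁, e₁, he₁, xk, hxk, a, ha, g₁, hg₁, w₁⟩ :=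
    K851.LC.exists_chart 𝔇.hπ 𝔇.qY 𝔇.nY (b ≫ S.j ≫ S.h) (hy S b hb)
  let η : Spec (CommRingCat.of (Localization.Away S.p)) := (⊥ : PrimeSpectrum (Localization.Away S.p))
  have hη : ∀ z, η ⤳ z := fun z => (PrimeSpectrum.le_iff_specializes _ _).1 bot_le
  have hxq : xk ≫ e₁ ≫ 𝔇.qY = sp R := by rw [← Category.assoc, hxk, hy S b hb]
  obtain ⟨i, hi⟩ := isUnit_of_smooth 𝔇.hπ 𝔇.qY e₁ a ha g₁ w₁ xk hxq t (by
    rw [← Scheme.Hom.comp_apply, hxk, ← hd]
    exact 𝔇.sY d)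
  obtain ⟨U', e', he', xk', h1, g', hg', w'⟩ := exists_line g₁ e₁ 𝔇.qY w₁ xk i (IsUnit.mk0 _ hi)
  have h1' : xk' ≫ e' = b ≫ S.j ≫ S.h := h1.trans hxk
  have h2 : xk' ≫ e' ≫ 𝔇.qY = sp R := by rw [← Category.assoc, h1', hy S b hb]
  have h3 : 𝔇.iY d = e' (xk' t) := by rw [hd, ← Scheme.Hom.comp_apply, h1']
  obtain ⟨c, V, hV, hVc, hVs⟩ := exists_shift 𝔇.hπ 𝔇.qY 𝔇.iY e' g' w' xk' h2 t d h3
  obtain ⟨L, _, _, _, ν, hν, hC2, hC3, hC4⟩ := core S e' g' Polynomial.C w' b hb xk' h1' t η hη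
  have hmem := hVc (xk' t) hV ⟨d, h3⟩
  by_cases hdiv : ν (Polynomial.C 𝔇.π) ∣ ν (Polynomial.X - Polynomial.C c)
  · obtain ⟨u₁, hu1, hu2, hu3⟩ := hC3
    obtain ⟨d', hd'⟩ := hVs u₁ hu1 (hu3 _ hdiv)
    apply (S.gen η rfl).1
    rw [← hu2, ← hd']
    have h4 : IsClosed ({d'} : Set 𝔇.DY) := by
      apply isClosed_of_etale (𝔇.iY ≫ 𝔇.g ≫ 𝔇.c) d'
      rw [Scheme.Hom.comp_apply, hd', hu2]
      have h5 := jh_cp S η
      change 𝔇.qY ((S.j ≫ S.h) η) = _ at h5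
      rw [h5]
      exact isClosed_cp
    have h5 := 𝔇.iY.isClosedEmbedding.isClosedMap _ h4
    rwa [Set.image_singleton] at h5
  · obtain ⟨𝔮, h𝔮, hm, hπm⟩ := K851.Loc.exists_prime hν (hC2 _ hmem) hdiv
    obtain ⟨u₂, t₂, hu1, hu2, hu3, hu4⟩ := hC4 𝔮 h𝔮 hπm
    obtain ⟨d', hd'⟩ := hVs u₂ hu1 ((hu4 _).2 hm)
    apply (S.sml t₂ hu3).2
    refine 𝔇.hD (S.s t₂) (e' u₂) ?_ hu3 ⟨d', hd'⟩
    rw [hu2, ← Scheme.Hom.comp_apply, ← Scheme.Hom.comp_apply, S.w]

end K851.FB
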