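import Groth.Agent.CurvesB.NodeSub
import Mathlib.AlgebraicGeometry.Morphisms.Flat
import Mathlib.RingTheory.Flat.TorsionFree

/-!
# Schemes over a discrete valuation ring: stalks and the special fibre
-/

set_option autoImplicit false
set_option linter.unusedSectionVars false
universe u

open CategoryTheory CategoryTheory.Limits AlgebraicGeometry TopologicalSpace IsLocalRing

namespace K851.Fib

section St

variable {R : Type u} [CommRing R]

/-- The structure map to the stalks. -/
noncomputable def st {Z : Scheme.{u}} (q : Z ⟶ Spec (CommRingCat.of R)) (x : Z) :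
    R →+* Z.presheaf.stalk x :=
  ((Scheme.ΓSpecIso (CommRingCat.of R)).inv ≫ q.appTop ≫
    Z.presheaf.germ ⊤ x (show x ∈ (⊤ : Z.Opens) from trivial)).hom

theorem st_comp {Z' Z : Scheme.{u}} (f : Z' ⟶ Z) (q : Z ⟶ Spec (CommRingCat.of R)) (x : Z') (r : R) :
    st (f ≫ q) x r = f.stalkMap x (st q (f x) r) := by
  have h0 := Scheme.Hom.germ_stalkMap f ⊤ x (show f x ∈ (⊤ : Z.Opens) from trivial)
  have h : (Scheme.ΓSpecIso (CommRingCat.of R)).inv ≫ (f ≫ q).appTop ≫
      Z'.presheaf.germ ⊤ x (show x ∈ (⊤ : Z'.Opens) from trivial) =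
    ((Scheme.ΓSpecIso (CommRingCat.of R)).inv ≫ q.appTop ≫
      Z.presheaf.germ ⊤ (f x) (show f x ∈ (⊤ : Z.Opens) from trivial)) ≫ f.stalkMap x := by
    rw [Scheme.Hom.comp_appTop, Category.assoc, Category.assoc, Category.assoc, h0]
    rfl
  exact congr($h r)

theorem st_specializes {Z : Scheme.{u}} (q : Z ⟶ Spec (CommRingCat.of R)) {x y : Z} (h : x ⤳ y) (r : R) :
    Z.presheaf.stalkSpecializes h (st q y r) = st q x r := by
  exact Z.presheaf.germ_stalkSpecializes_apply _ _ _

theorem st_eq_germ {Z : Scheme.{u}} (q : Z ⟶ Spec (CommRingCat.of R)) (x : Z) (r : R) :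
    st q x r = Z.presheaf.germ ⊤ x (show x ∈ (⊤ : Z.Opens) from trivial) (q.appTop ((Scheme.ΓSpecIso (CommRingCat.of R)).inv r)) := rfl

theorem basicOpen_eq {Z : Scheme.{u}} (q : Z ⟶ Spec (CommRingCat.of R)) (r : R) :
    Z.basicOpen (q.appTop ((Scheme.ΓSpecIso (CommRingCat.of R)).inv r)) =
      q ⁻¹ᵁ (PrimeSpectrum.basicOpen r : TopologicalSpace.Opens (PrimeSpectrum R)) := by
  rw [← Scheme.preimage_basicOpen_top]
  congr 1
  exact basicOpen_eq_of_affine (R := CommRingCat.of R) r

theorem isUnit_st_iff {Z : Scheme.{u}} (q : Z ⟶ Spec (CommRingCat.of R)) (x : Z) (r : R) :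
    IsUnit (st q x r) ↔ r ∉ (q x : PrimeSpectrum R).asIdeal := by
  rw [st_eq_germ, ← Scheme.mem_basicOpen, basicOpen_eq]
  rfl

theorem isField_stalk_spec {F : Type u} [Field F] (y : Spec (CommRingCat.of F)) :
    IsField ((Spec (CommRingCat.of F)).presheaf.stalk y) := by
  have h : y = genericPoint (Spec (CommRingCat.of F)) :=
    Subsingleton.elim (α := PrimeSpectrum F) _ _
  rw [h]
  exact Field.toIsField (Spec (CommRingCat.of F)).functionField

theorem map_residue_eq {R : Type u} [CommRing R] [IsLocalRing R]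
    (y : Spec (CommRingCat.of (ResidueField R))) :
    (Spec.map (CommRingCat.ofHom (residue R)) y : PrimeSpectrum R) = closedPoint R := by
  have h : y = closedPoint (ResidueField R) := Subsingleton.elim (α := PrimeSpectrum _) _ _
  rw [h]
  exact comap_closedPoint (residue R)

theorem maximalIdeal_stalk {R : Type u} [CommRing R] (y : Spec (CommRingCat.of R)) :
    maximalIdeal ((Spec (CommRingCat.of R)).presheaf.stalk y) =
      ((y : PrimeSpectrum R).asIdeal).map (st (𝟙 (Spec (CommRingCat.of R))) y) := by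
  have hprime : (y : PrimeSpectrum R).asIdeal.IsPrime := (y : PrimeSpectrum R).2
  let _ : Algebra R ((Spec (CommRingCat.of R)).presheaf.stalk y) := StructureSheaf.stalkAlgebra R y
  have h : IsLocalization.AtPrime ((Spec (CommRingCat.of R)).presheaf.stalk y)
      (y : PrimeSpectrum R).asIdeal := StructureSheaf.IsLocalization.to_stalk R y
  have h1 := IsLocalization.AtPrime.map_eq_maximalIdeal (y : PrimeSpectrum R).asIdeal
    ((Spec (CommRingCat.of R)).presheaf.stalk y)
  rw [← h1]
  congr 1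

/-- The kernel of the stalk map of the special fibre is generated by the uniformizer. -/
theorem ker_stalkMap {R : Type u} [CommRing R] [IsLocalRing R] {π : R}
    (hπ : maximalIdeal R = Ideal.span {π}) {Z Zk : Scheme.{u}} (q : Z ⟶ Spec (CommRingCat.of R))
    (i : Zk ⟶ Z) (qk : Zk ⟶ Spec (CommRingCat.of (ResidueField R)))
    (H : IsPullback i qk q (Spec.map (CommRingCat.ofHom (residue R)))) (x : Zk) :
    RingHom.ker (i.stalkMap x).hom = Ideal.span {st q (i x) π} := by
  have hsp : IsClosedImmersion (Spec.map (CommRingCat.ofHom (residue R))) :=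
    IsClosedImmersion.spec_of_surjective _ residue_surjective
  have hi : IsClosedImmersion i := MorphismProperty.of_isPullback H.flip hsp
  rw [Groth.Agent.Divis.CartierStalk.ker_stalkMap,
    Groth.Agent.CurvesB.NodeSub.stalkIdeal_ker_of_isPullback H (i x)]
  have hpt : q (i x) = Spec.map (CommRingCat.ofHom (residue R)) (qk x) := by
    rw [← Scheme.Hom.comp_apply, H.w, Scheme.Hom.comp_apply]
  have h1 : Groth.Agent.Divis.CartierBasic.stalkIdeal (Spec.map (CommRingCat.ofHom (residue R))).ker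
      (q (i x)) = Ideal.span {st (𝟙 (Spec (CommRingCat.of R))) (q (i x)) π} := by
    rw [hpt, ← Groth.Agent.Divis.CartierStalk.ker_stalkMap]
    have hf : IsField ((Spec (CommRingCat.of (ResidueField R))).presheaf.stalk (qk x)) :=
      isField_stalk_spec _
    have h2 : RingHom.ker ((Spec.map (CommRingCat.ofHom (residue R))).stalkMap (qk x)).hom =
        maximalIdeal _ := by
      have h0 : IsLocalHom ((Spec.map (CommRingCat.ofHom (residue R))).stalkMap (qk x)).hom :=
        inferInstance
      have h3 := ((IsLocalRing.local_hom_TFAE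
        ((Spec.map (CommRingCat.ofHom (residue R))).stalkMap (qk x)).hom).out 0 4).1 h0
      rw [← h3, (IsLocalRing.isField_iff_maximalIdeal_eq).1 hf]
      rfl
    rw [h2, maximalIdeal_stalk]
    have h4 : (Spec.map (CommRingCat.ofHom (residue R)) (qk x) : PrimeSpectrum R).asIdeal =
        Ideal.span {π} := by
      rw [← hπ]
      exact congrArg PrimeSpectrum.asIdeal (map_residue_eq (qk x))
    rw [h4, Ideal.map_span, Set.image_singleton]
  rw [h1, Ideal.map_span, Set.image_singleton]
  congr 2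
  have h2 := st_comp q (𝟙 (Spec (CommRingCat.of R))) (i x) π
  rw [Category.comp_id] at h2
  exact h2.symm

theorem flat_st {R : Type u} [CommRing R] {Z : Scheme.{u}} (q : Z ⟶ Spec (CommRingCat.of R)) [Flat q]
    (x : Z) : (st q x).Flat := by
  have h1 : st q x = (q.stalkMap x).hom.comp (st (𝟙 (Spec (CommRingCat.of R))) (q x)) := by
    ext r
    have := st_comp q (𝟙 (Spec (CommRingCat.of R))) x r
    rwa [Category.comp_id] at this
  rw [h1]
  refine RingHom.Flat.comp ?_ (Flat.stalkMap q x)
  have hprime : (q x : PrimeSpectrum R).asIdeal.IsPrime := (q x : PrimeSpectrum R).2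
  let _ : Algebra R ((Spec (CommRingCat.of R)).presheaf.stalk (q x)) := StructureSheaf.stalkAlgebra R (q x)
  have h : IsLocalization.AtPrime ((Spec (CommRingCat.of R)).presheaf.stalk (q x))
      (q x : PrimeSpectrum R).asIdeal := StructureSheaf.IsLocalization.to_stalk R (q x)
  have h2 : Module.Flat R ((Spec (CommRingCat.of R)).presheaf.stalk (q x)) :=
    IsLocalization.flat _ (q x : PrimeSpectrum R).asIdeal.primeCompl
  exact h2

theorem eq_zero_of_st_mul {R : Type u} [CommRing R] [IsDomain R] {Z : Scheme.{u}}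
    (q : Z ⟶ Spec (CommRingCat.of R)) [Flat q] (x : Z) {r : R} (hr : r ≠ 0) (a : Z.presheaf.stalk x)
    (h : st q x r * a = 0) : a = 0 := by
  let _ : Algebra R (Z.presheaf.stalk x) := (st q x).toAlgebra
  have hfl : Module.Flat R (Z.presheaf.stalk x) := flat_st q x
  have h1 : IsSMulRegular (Z.presheaf.stalk x) r :=
    Module.Flat.isSMulRegular_of_nonZeroDivisors (mem_nonZeroDivisors_of_ne_zero hr)
  apply h1
  change r • a = r • 0
  rw [smul_zero, Algebra.smul_def]
  exact h

/-- Divisibility by a regular section can be checked on stalks. -/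
theorem exists_mul_of_stalk {Z : Scheme.{u}} (U : Z.Opens) (s t : Γ(Z, U))
    (ht : ∀ (x : Z) (hx : x ∈ U) (a : Z.presheaf.stalk x), Z.presheaf.germ U x hx t * a = 0 → a = 0)
    (h : ∀ (x : Z) (hx : x ∈ U), Z.presheaf.germ U x hx t ∣ Z.presheaf.germ U x hx s) : t ∣ s := by
  have hinj : ∀ (V : Z.Opens) (hV : V ≤ U) (r r' : Γ(Z, V)),
      Z.presheaf.map (homOfLE hV).op t * r = Z.presheaf.map (homOfLE hV).op t * r' → r = r' := by
    intro V hV r r' hrr
    refine TopCat.Presheaf.section_ext Z.sheaf V r r' fun x hx => ?_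
    have h1 : Z.presheaf.germ U x (hV hx) t * (Z.presheaf.germ V x hx r - Z.presheaf.germ V x hx r') = 0 := by
      rw [← Z.presheaf.germ_res_apply (homOfLE hV) x hx t, mul_sub, ← map_mul, ← map_mul, hrr, sub_self]
    exact sub_eq_zero.1 (ht x (hV hx) _ h1)
  have hloc : ∀ x : U, ∃ (V : Z.Opens) (hV : V ≤ U) (_ : x.1 ∈ V) (r : Γ(Z, V)),
      Z.presheaf.map (homOfLE hV).op s = Z.presheaf.map (homOfLE hV).op t * r := by
    intro x
    obtain ⟨b, hb⟩ := h x.1 x.2
    obtain ⟨V, hV, r, rfl⟩ := Z.presheaf.exists_germ_eq b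
    let r1 : Γ(Z, V ⊓ U) := Z.presheaf.map (homOfLE inf_le_left).op r
    let s1 : Γ(Z, V ⊓ U) := Z.presheaf.map (homOfLE inf_le_right).op s
    let t1 : Γ(Z, V ⊓ U) := Z.presheaf.map (homOfLE inf_le_right).op t
    have hx : x.1 ∈ V ⊓ U := ⟨hV, x.2⟩
    have h1 : Z.presheaf.germ (V ⊓ U) x.1 hx s1 = Z.presheaf.germ (V ⊓ U) x.1 hx (t1 * r1) := by
      rw [map_mul, Z.presheaf.germ_res_apply (homOfLE inf_le_right) x.1 hx s,
        Z.presheaf.germ_res_apply (homOfLE inf_le_right) x.1 hx t,
        Z.presheaf.germ_res_apply (homOfLE inf_le_left) x.1 hx r, hb]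
    obtain ⟨W, hW, iU, iV, h2⟩ := Z.presheaf.germ_eq x.1 hx hx s1 (t1 * r1) h1
    refine ⟨W, iU.le.trans inf_le_right, hW, Z.presheaf.map iV.op r1, ?_⟩
    have e1 : Z.presheaf.map (homOfLE (iU.le.trans inf_le_right)).op s = Z.presheaf.map iU.op s1 := by
      rw [← ConcreteCategory.comp_apply, ← Functor.map_comp]; rfl
    have e2 : Z.presheaf.map (homOfLE (iU.le.trans inf_le_right)).op t = Z.presheaf.map iV.op t1 := by
      rw [← ConcreteCategory.comp_apply, ← Functor.map_comp]; rfl
    rw [e1, e2, h2, map_mul]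
  choose V hV hxV r hr using hloc
  obtain ⟨w₀, hw₀, -⟩ := TopCat.Sheaf.existsUnique_gluing' (F := Z.sheaf) V U (fun x => homOfLE (hV x))
    (fun x hx => Opens.mem_iSup.2 ⟨⟨x, hx⟩, hxV ⟨x, hx⟩⟩) r (by
      intro x y
      refine hinj (V x ⊓ V y) (inf_le_left.trans (hV x)) _ _ ?_
      have e1 : Z.presheaf.map (homOfLE (inf_le_left.trans (hV x) : V x ⊓ V y ≤ U)).op s =
          Z.presheaf.map (homOfLE (inf_le_left.trans (hV x) : V x ⊓ V y ≤ U)).op t *
            Z.presheaf.map (Opens.infLELeft (V x) (V y)).op (r x) := by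
        have h1 := congrArg (Z.presheaf.map (Opens.infLELeft (V x) (V y)).op) (hr x)
        rw [map_mul, ← ConcreteCategory.comp_apply, ← ConcreteCategory.comp_apply,
          ← Functor.map_comp] at h1
        exact h1
      have e2 : Z.presheaf.map (homOfLE (inf_le_left.trans (hV x) : V x ⊓ V y ≤ U)).op s =
          Z.presheaf.map (homOfLE (inf_le_left.trans (hV x) : V x ⊓ V y ≤ U)).op t *
            Z.presheaf.map (Opens.infLERight (V x) (V y)).op (r y) := by
        have h1 := congrArg (Z.presheaf.map (Opens.infLERight (V x) (V y)).op) (hr y)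
        rw [map_mul, ← ConcreteCategory.comp_apply, ← ConcreteCategory.comp_apply,
          ← Functor.map_comp] at h1
        exact h1
      exact e1.symm.trans e2)
  obtain ⟨w, hw⟩ : ∃ w : Γ(Z, U), ∀ x, Z.presheaf.map (homOfLE (hV x)).op w = r x := ⟨w₀, hw₀⟩
  refine ⟨w, ?_⟩
  refine TopCat.Presheaf.section_ext Z.sheaf U s (t * w) fun x hx => ?_
  have h1 : Z.presheaf.map (homOfLE (hV ⟨x, hx⟩)).op w = r ⟨x, hx⟩ := hw ⟨x, hx⟩
  have h2 := congrArg (Z.presheaf.germ (V ⟨x, hx⟩) x (hxV ⟨x, hx⟩)) (hr ⟨x, hx⟩)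
  rw [← h1, map_mul, Z.presheaf.germ_res_apply, Z.presheaf.germ_res_apply,
    Z.presheaf.germ_res_apply, ← map_mul] at h2
  exact h2

end St

end K851.Fib
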