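import Groth.Agent.SSMod.K851.NB
import Mathlib.Topology.JacobsonSpace

/-!
# Exceptional components and open subschemes
-/

set_option autoImplicit false
set_option linter.unusedSectionVars false
set_option linter.dupNamespace false
universe u

open CategoryTheory CategoryTheory.Limits AlgebraicGeometry TopologicalSpace

namespace K851.GA

open K851.NB K851.NS

/-- Removing a monomorphism. -/
theorem isPullback_mono {X S S' : Scheme.{u}} (q : X ⟶ S) (e : S ⟶ S') [Mono e] :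
    IsPullback (𝟙 X) q (q ≫ e) e :=
  IsPullback.of_isLimit' ⟨by simp⟩ (PullbackCone.IsLimit.mk _ (fun s => s.fst) (fun s => by simp)
    (fun s => by
      rw [← cancel_mono e, Category.assoc]
      exact s.condition) (fun s m h1 _ => by simpa using h1))

/-- The image of an exceptional component under an open immersion is an exceptional component. -/
theorem excComp_open {Ω : Type u} [Field Ω] {Y₁ C₁ Y₂ C₂ : Scheme.{u}} (g₁ : Y₁ ⟶ C₁) (g₂ : Y₂ ⟶ C₂)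
    [IsProper g₁] (q₁ : Y₁ ⟶ Spec (CommRingCat.of Ω)) (q₂ : Y₂ ⟶ Spec (CommRingCat.of Ω)) (M₁ : Set Y₁)
    (M₂ : Set Y₂) (Φ : Y₁ ⟶ Y₂) [IsOpenImmersion Φ] (Ψ : C₁ ⟶ C₂) [IsOpenImmersion Ψ]
    (hΦ : Φ ≫ g₂ = g₁ ≫ Ψ) (hran : ∀ y, g₂ y ∈ Set.range Ψ → y ∈ Set.range Φ) (hq : Φ ≫ q₂ = q₁)
    (hM : M₁ = Φ ⁻¹' M₂) (r₂ : C₂ ⟶ Spec (CommRingCat.of Ω)) [LocallyOfFiniteType r₂]
    [LocallyOfFinitePresentation q₁] [LocallyOfFinitePresentation q₂]
    (Z : Set Y₁) (hZi : Z ∈ irreducibleComponents Y₁) (hZ : SSMod.IsExcComp Ω g₁ q₁ M₁ Z) :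
    Φ '' Z ∈ irreducibleComponents Y₂ ∧ SSMod.IsExcComp Ω g₂ q₂ M₂ (Φ '' Z) := by
  obtain ⟨⟨e, he, he1, he2⟩, h2, h3⟩ := hZ
  have hoe : Topology.IsOpenEmbedding Φ := Φ.isOpenEmbedding
  have hZc : IsClosed Z := isClosed_of_mem_irreducibleComponents Z hZi
  obtain ⟨z₀, hz₀⟩ := hZi.1.1
  have hcc : IsClosed ({g₁ z₀} : Set C₁) := by
    have h4 : g₁ '' Z = {g₁ z₀} := by
      apply Set.Subset.antisymm
      · intro y hy
        exact h3 hy ⟨z₀, hz₀, rfl⟩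
      · rintro _ rfl
        exact ⟨z₀, hz₀, rfl⟩
    rw [← h4]
    exact g₁.isClosedMap _ hZc
  have hJ : JacobsonSpace C₂ := LocallyOfFiniteType.jacobsonSpace r₂
  have hcc2 : IsClosed ({Ψ (g₁ z₀)} : Set C₂) := by
    have h4 := Ψ.isOpenEmbedding.preimage_closedPoints
    have h5 : g₁ z₀ ∈ closedPoints C₁ := hcc
    rw [← h4] at h5
    exact h5
  have hgz : ∀ z ∈ Z, g₂ (Φ z) = Ψ (g₁ z₀) := by
    intro z hz
    rw [← Scheme.Hom.comp_apply, hΦ, Scheme.Hom.comp_apply]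
    congr 1
    exact h3 ⟨z, hz, rfl⟩ ⟨z₀, hz₀, rfl⟩
  have hcl : IsClosed (Φ '' Z) := by
    rw [← closure_subset_iff_isClosed]
    intro y hy
    have h4 : y ∈ g₂ ⁻¹' {Ψ (g₁ z₀)} := by
      refine (closure_minimal ?_ (hcc2.preimage g₂.continuous)) hy
      rintro _ ⟨z, hz, rfl⟩
      exact hgz z hz
    obtain ⟨y₁, rfl⟩ := hran y ⟨_, h4.symm⟩
    refine ⟨y₁, ?_, rfl⟩
    have h5 : y₁ ∈ Φ ⁻¹' closure (Φ '' Z) := hy
    rw [hoe.isOpenMap.preimage_closure_eq_closure_preimage hoe.continuous,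
      Set.preimage_image_eq _ hoe.injective, hZc.closure_eq] at h5
    exact h5
  refine ⟨⟨hZi.1.image Φ hoe.continuous.continuousOn, fun t ht hle => ?_⟩, ⟨e ≫ Φ, ?_, ?_, ?_⟩, ?_, ?_⟩
  · obtain ⟨η, hη⟩ := QuasiSober.sober ht.closure isClosed_closure
    have h4 : η ⤳ Φ z₀ := hη.specializes (subset_closure (hle ⟨z₀, hz₀, rfl⟩))
    have h5 : η ∈ Set.range Φ := h4.mem_open hoe.isOpen_range ⟨z₀, rfl⟩
    obtain ⟨η₁, rfl⟩ := h5
    have h6 : Z ⊆ closure {η₁} := by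
      intro z hz
      have h7 : Φ η₁ ⤳ Φ z := hη.specializes (subset_closure (hle ⟨z, hz, rfl⟩))
      exact specializes_iff_mem_closure.1 (hoe.isInducing.specializes_iff.1 h7)
    have h7 : closure {η₁} ⊆ Z := hZi.2 (isIrreducible_singleton.closure) h6
    have h8 : η₁ ∈ Z := h7 (subset_closure rfl)
    have h9 : closure t ⊆ Φ '' Z := by
      rw [← hη.def]
      exact closure_minimal (Set.singleton_subset_iff.2 ⟨η₁, h8, rfl⟩) hcl
    exact subset_closure.trans h9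
  · apply IsClosedImmersion.of_isPreimmersion
    have : Set.range (e ≫ Φ) = Φ '' Z := by
      rw [← he2]
      ext y
      constructor
      · rintro ⟨p, rfl⟩
        exact ⟨e p, ⟨p, rfl⟩, by rw [← Scheme.Hom.comp_apply]⟩
      · rintro ⟨_, ⟨p, rfl⟩, rfl⟩
        exact ⟨p, by rw [← Scheme.Hom.comp_apply]⟩
    rw [this]
    exact hcl
  · rw [Category.assoc, hq, he1]
  · rw [← he2]
    ext y
    constructor
    · rintro ⟨p, rfl⟩
      exact ⟨e p, ⟨p, rfl⟩, by rw [← Scheme.Hom.comp_apply]⟩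
    · rintro ⟨_, ⟨p, rfl⟩, rfl⟩
      exact ⟨p, by rw [← Scheme.Hom.comp_apply]⟩
  · have hsub : Φ '' Z ∩ (M₂ ∪ DualGr.nonsmoothPts q₂) ⊆ Φ '' (Z ∩ (M₁ ∪ DualGr.nonsmoothPts q₁)) := by
      rintro _ ⟨⟨z, hz, rfl⟩, hz'⟩
      refine ⟨z, ⟨hz, ?_⟩, rfl⟩
      rcases hz' with h | h
      · left; rw [hM]; exact h
      · right
        intro hs
        apply h
        have h4 : z ∈ q₁.smoothLocus := hs
        have hlf : LocallyOfFinitePresentation (Φ ≫ q₂) := by rw [hq]; infer_instance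
        have h5 := (mem_iff_of_etale Φ q₂ z).2 ((K851.FB.mem_congr hq rfl).2 h4)
        exact h5
    exact (Set.encard_le_encard hsub).trans ((Set.encard_image_le _ _).trans h2)
  · rintro _ ⟨_, ⟨z, hz, rfl⟩, rfl⟩ _ ⟨_, ⟨z', hz', rfl⟩, rfl⟩
    exact (hgz z hz).trans (hgz z' hz').symm

end K851.GA
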