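import Groth.Agent.SSMod.K851.DV
import Groth.Agent.S2363
import Groth.Agent.S0549
import Groth.Agent.Sga3.H826.DvrExt
import Groth.Agent.Fdesc.BaseField
import Groth.Agent.Sga3C.LocConn
import Groth.Agent.Ega43.DvrScheme

/-!
# Preliminaries for the case of a normal noetherian base
-/

set_option autoImplicit false
set_option linter.unusedSectionVars false
set_option linter.dupNamespace false
universe u

open CategoryTheory CategoryTheory.Limits AlgebraicGeometry TopologicalSpace IsLocalRing

namespace K851.NA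

open K851.Fib K851.LemN K851.Et K851.Sep K851.Dat K851.DDef K851.Ext

/-- Complete discrete valuation rings with prescribed algebraically closed residue field. -/
theorem exists_complete (A : Type u) [CommRing A] [IsDomain A] [IsDiscreteValuationRing A]
    (K : Type u) [Field K] [IsAlgClosed K] (ρ : ResidueField A →+* K) :
    ∃ (B : Type u) (_ : CommRing B) (_ : IsDomain B) (_ : IsDiscreteValuationRing B)
      (φ : A →+* B) (e : ResidueField B ≃+* K), IsAdicComplete (maximalIdeal B) B ∧
        IsAlgClosed (ResidueField B) ∧ Function.Injective φ ∧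
        ∀ a, e (residue B (φ a)) = ρ (residue A a) := by
  let _ : Algebra (ResidueField A) K := ρ.toAlgebra
  obtain ⟨B₁, _, _, _, _, hloc, hfl, e, he⟩ := Groth.Agent.S2363.result (A := A) K
  obtain ⟨ϖ, hϖ⟩ := IsDiscreteValuationRing.exists_irreducible A
  have hm : maximalIdeal A = Ideal.span {ϖ} := hϖ.maximalIdeal_eq
  have hmB : maximalIdeal B₁ = (maximalIdeal A).map (algebraMap A B₁) := by
    have h1 : ((maximalIdeal A).map (algebraMap A B₁)).IsMaximal := by
      rw [Ideal.Quotient.maximal_ideal_iff_isField_quotient]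
      exact e.toMulEquiv.isField (Field.toIsField K)
    exact (IsLocalRing.eq_maximalIdeal h1).symm
  have hmB' : maximalIdeal B₁ = Ideal.span {algebraMap A B₁ ϖ} := by
    rw [hmB, hm, Ideal.map_span, Set.image_singleton]
  have hnz : algebraMap A B₁ ϖ ∈ nonZeroDivisors B₁ := by
    have h1 : IsSMulRegular B₁ ϖ :=
      Module.Flat.isSMulRegular_of_nonZeroDivisors (mem_nonZeroDivisors_of_ne_zero hϖ.ne_zero)
    rw [mem_nonZeroDivisors_iff_right]
    intro x hx
    apply h1
    change ϖ • x = ϖ • 0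
    rw [smul_zero, Algebra.smul_def, _root_.mul_comm]
    exact hx
  obtain ⟨_, _⟩ := Groth.Agent.Sga3.H826.DvrExt.isDVR_of_span B₁ _ hmB' hnz
  let e' : ResidueField B₁ ≃+* K := (Ideal.quotEquivOfEq hmB).trans e
  have he' : ∀ a, e' (residue B₁ (algebraMap A B₁ a)) = ρ (residue A a) := fun a => he a
  have hac : IsAlgClosed (ResidueField B₁) := IsAlgClosed.of_ringEquiv _ _ e'.symm
  let B := AdicCompletion (maximalIdeal B₁) B₁
  obtain ⟨_, _⟩ := (Groth.Agent.S0549.result B₁).1 ⟨inferInstance, inferInstance⟩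
  have hloc' : IsLocalHom (algebraMap B₁ B) := inferInstance
  have hf : Module.Flat B₁ B := inferInstance
  let e₂ : ResidueField B₁ ≃+* ResidueField B :=
    RingEquiv.ofBijective (ResidueField.map (algebraMap B₁ B)) (AdicCompletion.residueField_map_bijective B₁)
  have he₂ : ∀ b, e₂ (residue B₁ b) = residue B (algebraMap B₁ B b) := fun b => rfl
  have hinj1 : Function.Injective (algebraMap A B₁) :=
    FaithfulSMul.algebraMap_injective A B₁
  have hinj2 : Function.Injective (algebraMap B₁ B) := FaithfulSMul.algebraMap_injective B₁ B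
  refine ⟨B, inferInstance, inferInstance, inferInstance, (algebraMap B₁ B).comp (algebraMap A B₁),
    e₂.symm.trans e', inferInstance, IsAlgClosed.of_ringEquiv _ _ e₂, hinj2.comp hinj1, ?_⟩
  intro a
  change e' (e₂.symm (residue B (algebraMap B₁ B (algebraMap A B₁ a)))) = _
  rw [← he₂, e₂.symm_apply_apply, he']

/-- Factorization through a closed immersion can be tested on a scheme-theoretically dominant morphism. -/
theorem factor {U T Z P : Scheme.{u}} (j : U ⟶ T) [IsSchemeTheoreticallyDominant j] (i : Z ⟶ P)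
    [IsClosedImmersion i] (a : T ⟶ P) (l : U ⟶ Z) (h : l ≫ i = j ≫ a) : ∃ a' : T ⟶ Z, a' ≫ i = a := by
  have h1 : pullback.lift j l h.symm ≫ pullback.fst a i = j := pullback.lift_fst _ _ _
  have h2 : (pullback.fst a i).ker = ⊥ := by
    rw [eq_bot_iff]
    have h3 : j.ker = ⊥ := IsSchemeTheoreticallyDominant.ker_eq_bot j
    have h4 := Scheme.Hom.le_ker_comp (pullback.lift j l h.symm) (pullback.fst a i)
    rw [h1, h3] at h4
    exact h4
  have h3 : IsIso (pullback.fst a i) := IsClosedImmersion.isIso_iff_ker_eq_bot.mpr h2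
  refine ⟨inv (pullback.fst a i) ≫ pullback.snd a i, ?_⟩
  rw [Category.assoc, ← pullback.condition, IsIso.inv_hom_id_assoc]

section

variable {R : Type u} [CommRing R]

theorem mem_iff' {Z : Scheme.{u}} (q : Z ⟶ Spec (CommRingCat.of R)) (π : R) (z : Z) :
    z ∈ q ⁻¹ᵁ Dπ π ↔ π ∉ (q z : PrimeSpectrum R).asIdeal := Iff.rfl

theorem mem_of_isUnit' {G : CommRingCat.{u}} (a : Spec G ⟶ Spec (CommRingCat.of R)) (π : R)
    (h : IsUnit (ro a π)) (s : Spec G) : π ∉ (a s : PrimeSpectrum R).asIdeal := by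
  intro h1
  rw [← map_ro a] at h1
  have h2 : ro a π ∈ (s : PrimeSpectrum G).asIdeal := h1
  exact (s : PrimeSpectrum G).2.ne_top (Ideal.eq_top_of_isUnit_mem _ h2 h)

theorem uniq' {π : R} {C X : Scheme.{u}} (c : C ⟶ Spec (CommRingCat.of R)) (f : X ⟶ C) [IsSeparated f]
    [Mono (f ∣_ (c ⁻¹ᵁ Dπ π))] {G : CommRingCat.{u}} (α β : Spec G ⟶ X) (h : α ≫ f = β ≫ f)
    (hG : ∀ x : G, ro (α ≫ f ≫ c) π * x = 0 → x = 0) : α = β := by
  let ϖ := ro (α ≫ f ≫ c) π
  let G' := CommRingCat.of (Localization.Away ϖ)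
  let l : G ⟶ G' := CommRingCat.ofHom (algebraMap G (Localization.Away ϖ))
  have hl : Function.Injective l := by
    apply IsLocalization.injective (Localization.Away ϖ) (M := Submonoid.powers ϖ)
    rw [Submonoid.powers_le]
    exact mem_nonZeroDivisors_iff_left.2 fun x hx => hG x hx
  have h1 := dominant_spec l hl
  refine K851.Ext.hom_ext (Spec.map l) f α β h ?_
  refine lift_unique f (c ⁻¹ᵁ Dπ π) _ _
    (by rw [Category.assoc, Category.assoc, h]) fun s => ?_
  rw [mem_iff', ← Scheme.Hom.comp_apply, ← Scheme.Hom.comp_apply]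
  apply mem_of_isUnit'
  rw [Category.assoc, ro_comp]
  exact IsLocalization.Away.algebraMap_isUnit ϖ

/-- Regularity on the closure. -/
theorem reg_of_dominant' {π : R} {U Γ' : Scheme.{u}} (q : Γ' ⟶ Spec (CommRingCat.of R)) (s : U ⟶ Γ')
    [IsSchemeTheoreticallyDominant s] [QuasiCompact s] (h : ∀ x : U, q (s x) ∈ Dπ π) (z : Γ')
    (a : Γ'.presheaf.stalk z) (ha : st q z π * a = 0) : a = 0 := by
  obtain ⟨W, hzW, b, rfl⟩ := Γ'.presheaf.exists_germ_eq a
  rw [← germ_sc q W z hzW, ← map_mul, ← map_zero (Γ'.presheaf.germ W z hzW).hom] at ha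
  obtain ⟨W', hzW', i1, i2, hW'⟩ := TopCat.Presheaf.germ_eq (C := CommRingCat) Γ'.presheaf z hzW hzW _ _ ha
  have h1 : Γ'.presheaf.map i1.op b = 0 := by
    have hinj := s.app_injective W'
    apply hinj
    rw [map_zero]
    refine TopCat.Presheaf.section_ext U.sheaf (s ⁻¹ᵁ W') _ _ fun x hx => ?_
    have hx' : s x ∈ W' := hx
    have h2 : U.presheaf.germ (s ⁻¹ᵁ W') x hx (s.app W' (Γ'.presheaf.map i1.op b)) =
        s.stalkMap x (Γ'.presheaf.germ W (s x) (i1.le hx') b) := by
      have e1 := Scheme.Hom.germ_stalkMap_apply s W' x hx' (Γ'.presheaf.map i1.op b)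
      have e2 : Γ'.presheaf.germ W' (s x) hx' (Γ'.presheaf.map i1.op b) =
          Γ'.presheaf.germ W (s x) (i1.le hx') b := Γ'.presheaf.germ_res_apply i1 (s x) hx' b
      rw [← e2]
      exact e1.symm
    have h3 : st (s ≫ q) x π * s.stalkMap x (Γ'.presheaf.germ W (s x) (i1.le hx') b) = 0 := by
      rw [st_comp, ← map_mul, ← germ_sc q W (s x) (i1.le hx'), ← map_mul]
      have e2 : Γ'.presheaf.germ W' (s x) hx' (Γ'.presheaf.map i1.op (sc q W π * b)) =
          Γ'.presheaf.germ W (s x) (i1.le hx') (sc q W π * b) :=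
        Γ'.presheaf.germ_res_apply i1 (s x) hx' _
      rw [← e2]
      have e3 : Γ'.presheaf.map i1.op (sc q W π * b) = 0 := hW'.trans (map_zero _)
      rw [e3, map_zero, map_zero]
    have h4 : IsUnit (st (s ≫ q) x π) := by
      rw [isUnit_st_iff, Scheme.Hom.comp_apply]
      exact h x
    change U.presheaf.germ (s ⁻¹ᵁ W') x hx _ = U.presheaf.germ (s ⁻¹ᵁ W') x hx _
    rw [h2, map_zero]
    exact (h4.mul_right_eq_zero).1 h3
  rw [← TopCat.Presheaf.germ_res_apply Γ'.presheaf i1 z hzW' b, h1, map_zero]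

end

end K851.NA
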