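import Groth.Agent.SSMod.K851.GA
import Groth.Agent.SSMod.K851.NA
import Groth.Prelude.Def_SSMod

/-!
# Isomorphisms on generic fibres
-/

set_option autoImplicit false
set_option linter.unusedSectionVars false
set_option linter.dupNamespace false
universe u

open CategoryTheory CategoryTheory.Limits AlgebraicGeometry TopologicalSpace

namespace K851.GB

variable {S : Scheme.{u}} [IsIntegral S]

/-- The generic point. -/
noncomputable abbrev sη (S : Scheme.{u}) [IsIntegral S] : Spec (S.presheaf.stalk (genericPoint S)) ⟶ S :=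
  S.fromSpecStalk (genericPoint S)

instance [QuasiSeparatedSpace S] : QuasiCompact (sη S) := quasiCompact_of_compactSpace _

instance : IsSchemeTheoreticallyDominant (sη S) := by
  have h1 : IsDominant (sη S) := by
    rw [isDominant_iff, DenseRange]
    have h2 : genericPoint S ∈ Set.range (sη S) := by
      rw [Scheme.range_fromSpecStalk]
      exact specializes_rfl
    rw [dense_iff_closure_eq, ← Set.univ_subset_iff, ← genericPoint_closure]
    exact closure_mono (Set.singleton_subset_iff.2 h2)
  exact IsSchemeTheoreticallyDominant.of_isDominant _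

variable {C X T : Scheme.{u}} {φ : C ⟶ S} {f : X ⟶ C}

theorem exists_pt {z : S} (hz : z = genericPoint S) : ∃ s, sη S s = z := by
  have h2 : genericPoint S ∈ Set.range (sη S) := by
    rw [Scheme.range_fromSpecStalk]
    exact specializes_rfl
  rw [hz]
  exact h2

theorem eta_surj (h : SSMod.IsEtaIso φ f) (z : C) (hz : φ z = genericPoint S) : ∃ x, f x = z := by
  obtain ⟨s, hs⟩ := exists_pt hz
  obtain ⟨w, hw1, -⟩ := Scheme.Pullback.exists_preimage_pullback z s (f := φ) (g := sη S) hs.symm
  have h1 : IsIso (pullback.snd f (pullback.fst φ (sη S))) := h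
  obtain ⟨u, hu⟩ := (pullback.snd f (pullback.fst φ (sη S))).homeomorph.surjective w
  have hu' : pullback.snd f (pullback.fst φ (sη S)) u = w := hu
  refine ⟨pullback.fst f (pullback.fst φ (sη S)) u, ?_⟩
  rw [← Scheme.Hom.comp_apply, pullback.condition, Scheme.Hom.comp_apply, hu', hw1]

theorem eta_inj (h : SSMod.IsEtaIso φ f) (x x' : X) (hx : φ (f x) = genericPoint S) (h' : f x = f x') :
    x = x' := by
  obtain ⟨s, hs⟩ := exists_pt hx
  obtain ⟨w, hw1, -⟩ := Scheme.Pullback.exists_preimage_pullback (f x) s (f := φ) (g := sη S) hs.symm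
  have h1 : IsIso (pullback.snd f (pullback.fst φ (sη S))) := h
  obtain ⟨u, hu1, hu2⟩ := Scheme.Pullback.exists_preimage_pullback x w (f := f) (g := pullback.fst φ (sη S))
    hw1.symm
  obtain ⟨u', hu1', hu2'⟩ := Scheme.Pullback.exists_preimage_pullback x' w (f := f)
    (g := pullback.fst φ (sη S)) (by rw [hw1, h'])
  have h2 : u = u' := (pullback.snd f (pullback.fst φ (sη S))).homeomorph.injective (hu2.trans hu2'.symm)
  rw [← hu1, ← hu1', h2]

/-- Lifting over the generic point. -/
theorem eta_lift (h : SSMod.IsEtaIso φ f) (t : T ⟶ C) (s : T ⟶ Spec (S.presheaf.stalk (genericPoint S)))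
    (w : t ≫ φ = s ≫ sη S) : ∃ a : T ⟶ X, a ≫ f = t := by
  have h1 : IsIso (pullback.snd f (pullback.fst φ (sη S))) := h
  refine ⟨pullback.lift t s w ≫ inv (pullback.snd f (pullback.fst φ (sη S))) ≫ pullback.fst _ _, ?_⟩
  rw [Category.assoc, Category.assoc, pullback.condition, IsIso.inv_hom_id_assoc, pullback.lift_fst]

theorem eta_unique (h : SSMod.IsEtaIso φ f) (a b : T ⟶ X) (hab : a ≫ f = b ≫ f)
    (s : T ⟶ Spec (S.presheaf.stalk (genericPoint S))) (w : (a ≫ f) ≫ φ = s ≫ sη S) : a = b := by
  have h1 : IsIso (pullback.snd f (pullback.fst φ (sη S))) := h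
  let t : T ⟶ pullback φ (sη S) := pullback.lift (a ≫ f) s w
  have ht : t ≫ pullback.fst φ (sη S) = a ≫ f := pullback.lift_fst _ _ _
  let a' : T ⟶ pullback f (pullback.fst φ (sη S)) := pullback.lift a t ht.symm
  let b' : T ⟶ pullback f (pullback.fst φ (sη S)) := pullback.lift b t (by rw [ht, hab])
  have h2 : a' = b' := by
    rw [← cancel_mono (pullback.snd f (pullback.fst φ (sη S))), pullback.lift_snd, pullback.lift_snd]
  rw [← pullback.lift_fst a t ht.symm, ← pullback.lift_fst b t (by rw [ht, hab])]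
  exact congrArg (· ≫ pullback.fst _ _) h2

/-- Uniqueness of lifts from flat schemes. -/
theorem flat_unique [QuasiSeparatedSpace S] (h : SSMod.IsEtaIso φ f) [IsSeparated f] (a b : T ⟶ X)
    (hab : a ≫ f = b ≫ f) (hfl : Flat ((a ≫ f) ≫ φ)) : a = b := by
  let q := (a ≫ f) ≫ φ
  have h1 : IsSchemeTheoreticallyDominant (pullback.fst q (sη S)) := inferInstance
  refine K851.Ext.hom_ext (pullback.fst q (sη S)) f a b hab ?_
  refine eta_unique h _ _ (by rw [Category.assoc, Category.assoc, hab]) (pullback.snd q (sη S)) ?_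
  rw [Category.assoc, Category.assoc]
  have h2 : pullback.fst q (sη S) ≫ (a ≫ f) ≫ φ = pullback.snd q (sη S) ≫ sη S := pullback.condition
  rw [Category.assoc] at h2
  exact h2

/-- Base change of generic isomorphisms. -/
theorem isIso_of_eta (h : SSMod.IsEtaIso φ f) {X' : Scheme.{u}} {a : X' ⟶ X} {f' : X' ⟶ T} {t : T ⟶ C}
    (H : IsPullback a f' f t) (s : T ⟶ Spec (S.presheaf.stalk (genericPoint S))) (w : t ≫ φ = s ≫ sη S) :
    IsIso f' := by
  have h1 : IsIso (pullback.snd f (pullback.fst φ (sη S))) := h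
  let m : T ⟶ pullback φ (sη S) := pullback.lift t s w
  have hm : m ≫ pullback.fst φ (sη S) = t := pullback.lift_fst _ _ _
  have P := IsPullback.of_hasPullback f (pullback.fst φ (sη S))
  rw [← hm] at H
  have hw : a ≫ f = (f' ≫ m) ≫ pullback.fst φ (sη S) := by rw [H.w, Category.assoc]
  have e1 : P.lift _ _ hw ≫ pullback.fst f (pullback.fst φ (sη S)) = a := P.lift_fst _ _ _
  have e2 : P.lift _ _ hw ≫ pullback.snd f (pullback.fst φ (sη S)) = f' ≫ m := P.lift_snd _ _ _
  rw [← e1] at H
  have H2 : IsPullback (P.lift _ _ hw) f' (pullback.snd f (pullback.fst φ (sη S))) m :=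
    IsPullback.of_right H e2 P
  exact H2.isIso_snd_of_isIso

end K851.GB
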