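import Groth.Agent.SSMod.K851.GB
import Groth.Agent.SSMod.K851.BG

/-!
# The theorem locally on the curve
-/

set_option autoImplicit false
set_option linter.unusedSectionVars false
set_option linter.dupNamespace false
universe u

open CategoryTheory CategoryTheory.Limits AlgebraicGeometry TopologicalSpace

namespace K851.GC

open K851.NB K851.NS K851.GA K851.GB K851.BG K851.BE K851.PQ

theorem etale_of_mono {X S S' : Scheme.{u}} (q : X ⟶ S) (e : S ⟶ S') [Mono e] (h : Etale (q ≫ e)) : Etale q :=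
  MorphismProperty.of_isPullback (P := @Etale) (isPullback_mono q e) h

theorem nodal_of_mono {X S S' : Scheme.{u}} (q : X ⟶ S) (e : S ⟶ S') [Mono e]
    (h : Curv2.IsNodalFamily (q ≫ e)) : Curv2.IsNodalFamily q :=
  Groth.Agent.Sga7.H734.NodalBC.isNodalFamily_of_isPullback (isPullback_mono q e) h

theorem smooth_of_mono {X S S' : Scheme.{u}} (q : X ⟶ S) (e : S ⟶ S') [Mono e]
    [LocallyOfFinitePresentation q] [LocallyOfFinitePresentation (q ≫ e)] [Flat (q ≫ e)] (x : X)
    (h : x ∈ (q ≫ e).smoothLocus) : x ∈ q.smoothLocus := by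
  rw [K851.BD.smooth_iff (isPullback_mono q e)]
  exact h

section Loc

variable {S C Cst C' W : Scheme.{u}} {A : Type u} [CommRing A] (e : Spec (CommRingCat.of A) ⟶ S)
  [IsOpenImmersion e] (φ : C ⟶ S) (w : W ⟶ C) [IsOpenImmersion w] (c : W ⟶ Spec (CommRingCat.of A))
  (hc : c ≫ e = w ≫ φ) (g : Cst ⟶ C)

include hc in
theorem comp_e : (pullback.snd g w ≫ c) ≫ e = pullback.fst g w ≫ g ≫ φ := by
  rw [Category.assoc, hc, ← Category.assoc, ← pullback.condition, Category.assoc]

/-- Comparison of fibres. -/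
noncomputable def Φ {Ω : Type u} [Field Ω] (v : Spec (CommRingCat.of Ω) ⟶ Spec (CommRingCat.of A)) :
    pullback (pullback.snd g w ≫ c) v ⟶ pullback (g ≫ φ) (v ≫ e) :=
  pullback.lift (pullback.fst _ _ ≫ pullback.fst g w) (pullback.snd _ _) (by
    rw [Category.assoc, ← comp_e e φ w c hc g, ← Category.assoc, pullback.condition, Category.assoc])

/-- Comparison of fibres. -/
noncomputable def Ψ {Ω : Type u} [Field Ω] (v : Spec (CommRingCat.of Ω) ⟶ Spec (CommRingCat.of A)) :
    pullback c v ⟶ pullback φ (v ≫ e) :=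
  pullback.lift (pullback.fst _ _ ≫ w) (pullback.snd _ _) (by
    rw [Category.assoc, ← hc, ← Category.assoc, pullback.condition, Category.assoc])

variable {Ω : Type u} [Field Ω] (v : Spec (CommRingCat.of Ω) ⟶ Spec (CommRingCat.of A))

theorem Φ_fst : Φ e φ w c hc g v ≫ pullback.fst _ _ = pullback.fst _ _ ≫ pullback.fst g w :=
  pullback.lift_fst _ _ _
theorem Φ_snd : Φ e φ w c hc g v ≫ pullback.snd _ _ = pullback.snd _ _ := pullback.lift_snd _ _ _
theorem Ψ_fst : Ψ e φ w c hc v ≫ pullback.fst _ _ = pullback.fst _ _ ≫ w := pullback.lift_fst _ _ _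
theorem Ψ_snd : Ψ e φ w c hc v ≫ pullback.snd _ _ = pullback.snd _ _ := pullback.lift_snd _ _ _

theorem isPullback_Φ : IsPullback (Φ e φ w c hc g v) (pullback.fst (pullback.snd g w ≫ c) v)
    (pullback.fst (g ≫ φ) (v ≫ e)) (pullback.fst g w) := by
  have H1 : IsPullback (pullback.snd (pullback.snd g w ≫ c) v) (pullback.fst (pullback.snd g w ≫ c) v) v
      (pullback.snd g w ≫ c) := (IsPullback.of_hasPullback _ _).flip
  have H2 := (isPullback_mono (pullback.snd g w ≫ c) e).flip
  have H3 := (H1.flip.paste_horiz (isPullback_mono (pullback.snd g w ≫ c) e)).flip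
  rw [Category.comp_id, comp_e e φ w c hc g, ← Φ_snd e φ w c hc g v] at H3
  exact IsPullback.of_right H3 (Φ_fst e φ w c hc g v) (IsPullback.of_hasPullback _ _).flip

theorem isPullback_Ψ : IsPullback (Ψ e φ w c hc v) (pullback.fst c v) (pullback.fst φ (v ≫ e)) w := by
  have H1 : IsPullback (pullback.snd c v) (pullback.fst c v) v c := (IsPullback.of_hasPullback _ _).flip
  have H3 := (H1.flip.paste_horiz (isPullback_mono c e)).flip
  rw [Category.comp_id, hc, ← Ψ_snd e φ w c hc v] at H3
  exact IsPullback.of_right H3 (Ψ_fst e φ w c hc v) (IsPullback.of_hasPullback _ _).flip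

instance : IsOpenImmersion (Φ e φ w c hc g v) :=
  MorphismProperty.of_isPullback (P := @IsOpenImmersion) (isPullback_Φ e φ w c hc g v).flip inferInstance

instance : IsOpenImmersion (Ψ e φ w c hc v) :=
  MorphismProperty.of_isPullback (P := @IsOpenImmersion) (isPullback_Ψ e φ w c hc v).flip inferInstance

include hc in
/-- Absence of exceptional components is local on the curve. -/
theorem noExc_loc {Dst : Scheme.{u}} (i : Dst ⟶ Cst) [IsProper g] [LocallyOfFinitePresentation φ]
    [LocallyOfFinitePresentation (g ≫ φ)] (hno : SSMod.NoExcComp φ i g) :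
    SSMod.NoExcComp c (pullback.snd i (pullback.fst g w)) (pullback.snd g w) := by
  intro Ω _ _ v Z hZ hexc
  have hp : IsProper (CInt.baseChangeOver (pullback.snd g w) c v) :=
    MorphismProperty.of_isPullback (P := @IsProper) (bco_isPullback (pullback.snd g w) c v) inferInstance
  have hl : LocallyOfFinitePresentation (pullback.snd (pullback.snd g w ≫ c) v) := by
    have h1 : LocallyOfFinitePresentation ((pullback.snd g w ≫ c) ≫ e) := by
      rw [comp_e e φ w c hc g]; infer_instance
    have h2 : LocallyOfFinitePresentation (pullback.snd g w ≫ c) := lfp_of_comp _ e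
    infer_instance
  have hsq : Φ e φ w c hc g v ≫ CInt.baseChangeOver g φ (v ≫ e) =
      CInt.baseChangeOver (pullback.snd g w) c v ≫ Ψ e φ w c hc v := by
    have e1 : CInt.baseChangeOver g φ (v ≫ e) ≫ pullback.fst φ (v ≫ e) =
      pullback.fst (g ≫ φ) (v ≫ e) ≫ g := bco_fst _ _ _
    have e2 : CInt.baseChangeOver g φ (v ≫ e) ≫ pullback.snd φ (v ≫ e) =
      pullback.snd (g ≫ φ) (v ≫ e) := bco_snd _ _ _
    have e3 : CInt.baseChangeOver (pullback.snd g w) c v ≫ pullback.fst c v =
      pullback.fst (pullback.snd g w ≫ c) v ≫ pullback.snd g w := bco_fst _ _ _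
    have e4 : CInt.baseChangeOver (pullback.snd g w) c v ≫ pullback.snd c v =
      pullback.snd (pullback.snd g w ≫ c) v := bco_snd _ _ _
    apply pullback.hom_ext
    · calc (Φ e φ w c hc g v ≫ CInt.baseChangeOver g φ (v ≫ e)) ≫ pullback.fst φ (v ≫ e)
          = Φ e φ w c hc g v ≫ (CInt.baseChangeOver g φ (v ≫ e) ≫ pullback.fst φ (v ≫ e)) :=
            Category.assoc _ _ _
        _ = (Φ e φ w c hc g v ≫ pullback.fst (g ≫ φ) (v ≫ e)) ≫ g := by
            rw [e1, ← Category.assoc]
        _ = pullback.fst (pullback.snd g w ≫ c) v ≫ pullback.snd g w ≫ w := by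
            rw [Φ_fst, Category.assoc, pullback.condition]
        _ = (CInt.baseChangeOver (pullback.snd g w) c v ≫ pullback.fst c v) ≫ w := by
            rw [e3, Category.assoc]
        _ = (CInt.baseChangeOver (pullback.snd g w) c v ≫ Ψ e φ w c hc v) ≫ pullback.fst φ (v ≫ e) := by
            rw [Category.assoc, Category.assoc, Ψ_fst]
    · calc (Φ e φ w c hc g v ≫ CInt.baseChangeOver g φ (v ≫ e)) ≫ pullback.snd φ (v ≫ e)
          = Φ e φ w c hc g v ≫ (CInt.baseChangeOver g φ (v ≫ e) ≫ pullback.snd φ (v ≫ e)) :=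
            Category.assoc _ _ _
        _ = pullback.snd (pullback.snd g w ≫ c) v := by rw [e2, Φ_snd]
        _ = (CInt.baseChangeOver (pullback.snd g w) c v ≫ Ψ e φ w c hc v) ≫ pullback.snd φ (v ≫ e) := by
            rw [Category.assoc, Ψ_snd, e4]
  have hran : ∀ y, (CInt.baseChangeOver g φ (v ≫ e)) y ∈ Set.range (Ψ e φ w c hc v) →
      y ∈ Set.range (Φ e φ w c hc g v) := by
    rintro y ⟨u, hu⟩
    have e1 : CInt.baseChangeOver g φ (v ≫ e) ≫ pullback.fst φ (v ≫ e) =
      pullback.fst (g ≫ φ) (v ≫ e) ≫ g := bco_fst _ _ _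
    have h1 : g (pullback.fst (g ≫ φ) (v ≫ e) y) = w (pullback.fst c v u) := by
      have h2 := congr($e1 y)
      rw [Scheme.Hom.comp_apply, Scheme.Hom.comp_apply] at h2
      rw [← h2, ← hu, ← Scheme.Hom.comp_apply, Ψ_fst, Scheme.Hom.comp_apply]
    obtain ⟨z, hz1, hz2⟩ := Scheme.Pullback.exists_preimage_pullback _ _ (f := g) (g := w) h1
    obtain ⟨y', hy1, -⟩ := exists_pt (isPullback_Φ e φ w c hc g v) y z hz1.symm
    exact ⟨y', hy1⟩
  obtain ⟨k1, k2⟩ := excComp_open (CInt.baseChangeOver (pullback.snd g w) c v)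
    (CInt.baseChangeOver g φ (v ≫ e)) (pullback.snd (pullback.snd g w ≫ c) v)
    (pullback.snd (g ≫ φ) (v ≫ e)) _ ((pullback.fst (g ≫ φ) (v ≫ e)).base ⁻¹' Set.range (i.base : Dst → Cst))
    (Φ e φ w c hc g v) (Ψ e φ w c hc v) hsq hran (Φ_snd e φ w c hc g v) (by
      ext y
      change pullback.fst (pullback.snd g w ≫ c) v y ∈ Set.range (pullback.snd i (pullback.fst g w)) ↔
        pullback.fst (g ≫ φ) (v ≫ e) (Φ e φ w c hc g v y) ∈ Set.range i
      have h1 : pullback.fst (g ≫ φ) (v ≫ e) (Φ e φ w c hc g v y) =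
          pullback.fst g w (pullback.fst (pullback.snd g w ≫ c) v y) := by
        rw [← Scheme.Hom.comp_apply, Φ_fst, Scheme.Hom.comp_apply]
      rw [h1]
      constructor
      · rintro ⟨d, hd⟩
        exact ⟨pullback.fst i (pullback.fst g w) d, by
          rw [← hd, ← Scheme.Hom.comp_apply, ← Scheme.Hom.comp_apply, pullback.condition]⟩
      · rintro ⟨d, hd⟩
        obtain ⟨u, -, hu⟩ := Scheme.Pullback.exists_preimage_pullback _ _ (f := i) (g := pullback.fst g w) hd
        exact ⟨u, hu⟩) (pullback.snd φ (v ≫ e)) Z hZ hexc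
  exact hno Ω (v ≫ e) _ k1 k2

end Loc

end K851.GC
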