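import Groth.Agent.SSMod.K851.GC
import Groth.Agent.Ega3B.NormalBirational

/-!
# The theorem locally on the curve: the local statement
-/

set_option autoImplicit false
set_option linter.unusedSectionVars false
set_option linter.dupNamespace false
universe u

open CategoryTheory CategoryTheory.Limits AlgebraicGeometry TopologicalSpace

namespace K851.GD

open K851.NB K851.NS K851.GA K851.GB K851.BG K851.BE K851.PQ K851.GC K851.DDef

theorem mem_of_smooth_comp {X Y S : Scheme.{u}} (j : X ⟶ Y) [IsOpenImmersion j] (q : Y ⟶ S)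
    [LocallyOfFinitePresentation q] (x : X) (h : j x ∈ q.smoothLocus) : x ∈ (j ≫ q).smoothLocus :=
  (mem_iff_of_etale j q x).1 h

section

variable {S C D Cst Dst C' D' W : Scheme.{u}} [IsIntegral S]
  {A : Type u} [CommRing A] [IsDomain A] (e : Spec (CommRingCat.of A) ⟶ S)
  [IsOpenImmersion e] (φ : C ⟶ S) (w : W ⟶ C) [IsOpenImmersion w] (c : W ⟶ Spec (CommRingCat.of A))
  (hc : c ≫ e = w ≫ φ)

theorem e_bot : e ((⊥ : PrimeSpectrum A) : Spec (CommRingCat.of A)) = genericPoint S := by
  have h1 : ((⊥ : PrimeSpectrum A) : Spec (CommRingCat.of A)) = genericPoint (Spec (CommRingCat.of A)) := by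
    have h2 : (⊥ : PrimeSpectrum A).asIdeal = ⊥ := rfl
    apply PrimeSpectrum.ext
    rw [h2]
    have h3 := genericPoint_specializes ((⊥ : PrimeSpectrum A) : Spec (CommRingCat.of A))
    have h4 : (genericPoint (PrimeSpectrum A)).asIdeal ≤ (⊥ : PrimeSpectrum A).asIdeal :=
      (PrimeSpectrum.le_iff_specializes (genericPoint (PrimeSpectrum A)) ⊥).2 h3
    exact (le_bot_iff.1 h4).symm
  rw [h1]
  exact genericPoint_eq_of_isOpenImmersion e

theorem exists_β : ∃ β : Spec (CommRingCat.of (FractionRing A)) ⟶ Spec (S.presheaf.stalk (genericPoint S)),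
    β ≫ sη S = gp A ≫ e := by
  let t : Spec (CommRingCat.of (FractionRing A)) := (⊥ : PrimeSpectrum (FractionRing A))
  have h1 : gp A t = ((⊥ : PrimeSpectrum A) : Spec (CommRingCat.of A)) := by
    apply PrimeSpectrum.ext
    change (⊥ : Ideal (FractionRing A)).comap (algebraMap A (FractionRing A)) = ⊥
    exact (RingHom.injective_iff_ker_eq_bot _).1 (IsFractionRing.injective A (FractionRing A))
  have h2 : (gp A ≫ e) (K851.Dat.cp (CommRingCat.of (FractionRing A))) = genericPoint S := by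
    have h3 : K851.Dat.cp (CommRingCat.of (FractionRing A)) = t := K851.Dat.subsingleton_spec _ _
    rw [h3, Scheme.Hom.comp_apply, h1, e_bot]
  obtain ⟨β, -, hβ⟩ := K851.Dat.exists_stalk (gp A ≫ e) (genericPoint S) h2
  exact ⟨Spec.map β, hβ⟩

include hc in
theorem gi_of_eta {X : Scheme.{u}} (g : X ⟶ C) (h : SSMod.IsEtaIso φ g) : GI (pullback.snd g w) c := by
  obtain ⟨β, hβ⟩ := exists_β (S := S) e
  have H1 : IsPullback (pullback.fst (pullback.snd g w ≫ c) (gp A))
    (CInt.baseChangeOver (pullback.snd g w) c (gp A)) (pullback.snd g w)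
    (pullback.fst c (gp A)) := bco_isPullback (pullback.snd g w) c (gp A)
  have H2 := H1.paste_horiz (IsPullback.of_hasPullback g w)
  refine isIso_of_eta h H2 (pullback.snd c (gp A) ≫ β) ?_
  rw [Category.assoc, ← hc, ← Category.assoc, pullback.condition, Category.assoc, Category.assoc, hβ]

include hc in
theorem hD_of_eta {i : D ⟶ C} {ist : Dst ⟶ Cst} {fC : Cst ⟶ C} {fD : Dst ⟶ D} {i' : D' ⟶ C'}
    {gC : C' ⟶ C} {gD : D' ⟶ D} (hw1 : ist ≫ fC = fD ≫ i) (hw2 : i' ≫ gC = gD ≫ i)
    (hη' : SSMod.IsEtaIso φ gC) (hηD' : SSMod.IsEtaIso (i ≫ φ) gD)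
    (x : ↥(pullback gC w)) (y : ↥(pullback fC w)) (hxy : pullback.snd gC w x = pullback.snd fC w y)
    (hx : (c (pullback.snd gC w x) : PrimeSpectrum A).asIdeal = ⊥)
    (hy : y ∈ Set.range (pullback.snd ist (pullback.fst fC w))) :
    x ∈ Set.range (pullback.snd i' (pullback.fst gC w)) := by
  obtain ⟨d, rfl⟩ := hy
  have h1 : c (pullback.snd gC w x) = ((⊥ : PrimeSpectrum A) : Spec (CommRingCat.of A)) :=
    PrimeSpectrum.ext hx
  have h2 : φ (gC (pullback.fst gC w x)) = genericPoint S := by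
    rw [← Scheme.Hom.comp_apply (pullback.fst gC w), pullback.condition, Scheme.Hom.comp_apply,
      ← Scheme.Hom.comp_apply w, ← hc, Scheme.Hom.comp_apply, h1, e_bot]
  have h3 : i (fD (pullback.fst ist (pullback.fst fC w) d)) = gC (pullback.fst gC w x) := by
    rw [← Scheme.Hom.comp_apply, ← hw1, Scheme.Hom.comp_apply, ← Scheme.Hom.comp_apply _ ist,
      pullback.condition, Scheme.Hom.comp_apply, ← Scheme.Hom.comp_apply _ fC, pullback.condition,
      Scheme.Hom.comp_apply, ← hxy, ← Scheme.Hom.comp_apply, ← Scheme.Hom.comp_apply, pullback.condition]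
  obtain ⟨d', hd'⟩ := eta_surj hηD' (fD (pullback.fst ist (pullback.fst fC w) d)) (by
    rw [Scheme.Hom.comp_apply, h3, h2])
  have h4 : gC (i' d') = gC (pullback.fst gC w x) := by
    rw [← Scheme.Hom.comp_apply, hw2, Scheme.Hom.comp_apply, hd', h3]
  have h5 : i' d' = pullback.fst gC w x := eta_inj hη' _ _ (by rw [h4, h2]) h4
  obtain ⟨u, -, hu⟩ := Scheme.Pullback.exists_preimage_pullback _ _ (f := i') (g := pullback.fst gC w) h5
  exact ⟨u, hu⟩

include hc in
/-- The local statement. -/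
theorem local_hom [IsIntegrallyClosed A] [IsAffine W] (i : D ⟶ C) (hC : SSMod.IsMPCurve φ i)
    (ist : Dst ⟶ Cst) (fC : Cst ⟶ C) (fD : Dst ⟶ D) (hst : SSMod.IsStableModification φ i ist fC fD)
    (hη : SSMod.IsEtaIso φ fC)
    (i' : D' ⟶ C') (gC : C' ⟶ C) (gD : D' ⟶ D) (hss : SSMod.IsSemistableModification φ i i' gC gD)
    (hη' : SSMod.IsEtaIso φ gC) (hηD' : SSMod.IsEtaIso (i ≫ φ) gD) :
    ∃ h : pullback gC w ⟶ Cst, h ≫ fC = pullback.fst gC w ≫ gC := by
  obtain ⟨⟨⟨hw1, hmp1, ⟨pf, -⟩, -⟩, -, nY, eY, sY⟩, hno⟩ := hst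
  obtain ⟨⟨hw2, hmp2, ⟨pg, -⟩, -⟩, -, nX, eX, sX⟩ := hss
  have l0 : LocallyOfFinitePresentation φ := hC.2.1
  have l1 : LocallyOfFinitePresentation (fC ≫ φ) := nY.2.1
  have l2 : LocallyOfFinitePresentation (gC ≫ φ) := nX.2.1
  have fl1 : Flat (fC ≫ φ) := nY.1
  have fl2 : Flat (gC ≫ φ) := nX.1
  have ci1 : IsClosedImmersion ist := hmp1.2.2.2.2.2.1
  have ci2 : IsClosedImmersion i' := hmp2.2.2.2.2.2.1
  have lc : LocallyOfFinitePresentation c := by
    have h1 : LocallyOfFinitePresentation (c ≫ e) := by rw [hc]; infer_instance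
    exact lfp_of_comp c e
  have eX1 : (pullback.snd gC w ≫ c) ≫ e = pullback.fst gC w ≫ gC ≫ φ := comp_e e φ w c hc gC
  have eY1 : (pullback.snd fC w ≫ c) ≫ e = pullback.fst fC w ≫ fC ≫ φ := comp_e e φ w c hc fC
  have lX' : LocallyOfFinitePresentation ((pullback.snd gC w ≫ c) ≫ e) := by rw [eX1]; infer_instance
  have lY' : LocallyOfFinitePresentation ((pullback.snd fC w ≫ c) ≫ e) := by rw [eY1]; infer_instance
  have flX' : Flat ((pullback.snd gC w ≫ c) ≫ e) := by rw [eX1]; infer_instance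
  have flY' : Flat ((pullback.snd fC w ≫ c) ≫ e) := by rw [eY1]; infer_instance
  have lX : LocallyOfFinitePresentation (pullback.snd gC w ≫ c) := lfp_of_comp _ e
  have lY : LocallyOfFinitePresentation (pullback.snd fC w ≫ c) := lfp_of_comp _ e
  have hsX : ∀ d, pullback.snd i' (pullback.fst gC w) d ∈ (pullback.snd gC w ≫ c).smoothLocus := by
    intro d
    apply smooth_of_mono _ e
    refine (K851.FB.mem_congr eX1 rfl).2 ?_
    apply mem_of_smooth_comp
    rw [← Scheme.Hom.comp_apply, ← pullback.condition, Scheme.Hom.comp_apply]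
    by_contra hcon
    exact Set.disjoint_left.1 sX ⟨pullback.fst i' (pullback.fst gC w) d, rfl⟩ hcon
  have hsY : ∀ d, pullback.snd ist (pullback.fst fC w) d ∈ (pullback.snd fC w ≫ c).smoothLocus := by
    intro d
    apply smooth_of_mono _ e
    refine (K851.FB.mem_congr eY1 rfl).2 ?_
    apply mem_of_smooth_comp
    rw [← Scheme.Hom.comp_apply, ← pullback.condition, Scheme.Hom.comp_apply]
    by_contra hcon
    exact Set.disjoint_left.1 sY ⟨pullback.fst ist (pullback.fst fC w) d, rfl⟩ hcon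
  obtain ⟨h, hh⟩ := affine_hom c (pullback.snd gC w) (pullback.snd fC w)
    (pullback.snd i' (pullback.fst gC w)) (pullback.snd ist (pullback.fst fC w)) inferInstance inferInstance
    inferInstance inferInstance
    (nodal_of_mono _ e (by rw [eX1]; exact Groth.Agent.S1592.result _ nX _))
    (nodal_of_mono _ e (by rw [eY1]; exact Groth.Agent.S1592.result _ nY _))
    (etale_of_mono _ e (by
      have h1 : (pullback.snd i' (pullback.fst gC w) ≫ pullback.snd gC w ≫ c) ≫ e =
          pullback.fst i' (pullback.fst gC w) ≫ i' ≫ gC ≫ φ := by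
        rw [Category.assoc, eX1, ← Category.assoc, ← pullback.condition, Category.assoc]
      rw [h1]; infer_instance))
    (etale_of_mono _ e (by
      have h1 : (pullback.snd ist (pullback.fst fC w) ≫ pullback.snd fC w ≫ c) ≫ e =
          pullback.fst ist (pullback.fst fC w) ≫ ist ≫ fC ≫ φ := by
        rw [Category.assoc, eY1, ← Category.assoc, ← pullback.condition, Category.assoc]
      rw [h1]; infer_instance))
    hsX hsY (gi_of_eta e φ w c hc gC hη') (gi_of_eta e φ w c hc fC hη)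
    (hD_of_eta e φ w c hc hw1 hw2 hη' hηD') (noExc_loc e φ w c hc fC ist hno)
  exact ⟨h ≫ pullback.fst fC w, by
    rw [Category.assoc, pullback.condition, reassoc_of% hh, pullback.condition]⟩

end

end K851.GD
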