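import Groth.Agent.SSMod.K851.GE

/-!
# Isomorphism over the semistable locus
-/

set_option autoImplicit false
set_option linter.unusedSectionVars false
set_option linter.dupNamespace false
universe u

open CategoryTheory CategoryTheory.Limits AlgebraicGeometry TopologicalSpace

namespace K851.GF

open K851.NB K851.NS K851.GA K851.GB K851.BG K851.BE K851.PQ K851.GC K851.GD K851.GE K851.DDef

/-- A morphism is an isomorphism over an open if it is one locally. -/
theorem isIso_restrict {X Y : Scheme.{u}} (f : X ⟶ Y) (V : Y.Opens)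
    (h : ∀ y ∈ V, ∃ (W : Scheme.{u}) (w : W ⟶ Y) (_ : IsOpenImmersion w), y ∈ Set.range w ∧
      IsIso (pullback.snd f w)) : IsIso (f ∣_ V) := by
  choose W w hw hy hi using h
  let 𝒰 : V.toScheme.OpenCover := Scheme.Cover.mkOfCovers V (fun y => pullback V.ι (w y.1 y.2))
    (fun y => pullback.fst V.ι (w y.1 y.2)) (fun y => by
      obtain ⟨z, hz⟩ := hy y.1 y.2
      obtain ⟨u, hu, -⟩ := Scheme.Pullback.exists_preimage_pullback y z (f := V.ι) (g := w y.1 y.2) hz.symm
      exact ⟨y, u, hu⟩) (fun y => by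
      have := hw y.1 y.2
      infer_instance)
  change MorphismProperty.isomorphisms Scheme (f ∣_ V)
  rw [IsZariskiLocalAtTarget.iff_of_openCover (P := MorphismProperty.isomorphisms Scheme) (𝒰 := 𝒰)]
  intro y
  change IsIso (pullback.snd (f ∣_ V) (𝒰.f y))
  have key : ∀ (y : V), IsIso (pullback.snd (f ∣_ V) (pullback.fst V.ι (w y.1 y.2))) := by
    intro y
    have P1 := (IsPullback.of_hasPullback (f ∣_ V) (pullback.fst V.ι (w y.1 y.2))).paste_horiz
      (isPullback_morphismRestrict f V).flip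
    have hcm : (pullback.fst (f ∣_ V) (pullback.fst V.ι (w y.1 y.2)) ≫ (f ⁻¹ᵁ V).ι) ≫ f =
        (pullback.snd (f ∣_ V) (pullback.fst V.ι (w y.1 y.2)) ≫ pullback.snd V.ι (w y.1 y.2)) ≫ w y.1 y.2 := by
      rw [P1.w, Category.assoc, pullback.condition]
    rw [pullback.condition] at P1
    have P2 := IsPullback.of_hasPullback f (w y.1 y.2)
    have h2 : P2.lift _ _ hcm ≫ pullback.fst f (w y.1 y.2) = _ := P2.lift_fst _ _ _
    have h3 : P2.lift _ _ hcm ≫ pullback.snd f (w y.1 y.2) = _ := P2.lift_snd _ _ _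
    rw [← h2] at P1
    have P3 := IsPullback.of_right P1 h3 P2
    have := hi y.1 y.2
    exact P3.isIso_snd_of_isIso
  exact key y

section

variable {S C D Cst Dst C' D' W : Scheme.{u}} [IsIntegral S]

theorem affine_iso [QuasiSeparatedSpace S]
    {A : Type u} [CommRing A] [IsDomain A] (e : Spec (CommRingCat.of A) ⟶ S)
    [IsOpenImmersion e] (φ : C ⟶ S) (w : W ⟶ C) [IsOpenImmersion w] (c : W ⟶ Spec (CommRingCat.of A))
    (hc : c ≫ e = w ≫ φ) [IsIntegrallyClosed A] [IsAffine W] (i : D ⟶ C) (hC : SSMod.IsMPCurve φ i)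
    (ist : Dst ⟶ Cst) (fC : Cst ⟶ C) (fD : Dst ⟶ D) (hst : SSMod.IsStableModification φ i ist fC fD)
    (hη : SSMod.IsEtaIso φ fC) [LocallyOfFinitePresentation (w ≫ φ)]
    (nW : Curv2.IsNodalFamily (w ≫ φ)) (eW : Etale (pullback.snd i w ≫ w ≫ φ))
    (sW : ∀ d, pullback.snd i w d ∈ (w ≫ φ).smoothLocus) : IsIso (pullback.snd fC w) := by
  obtain ⟨⟨⟨hw1, hmp1, ⟨pf, -⟩, -⟩, -, nY, eY, sY⟩, hno⟩ := hst
  have ci : IsClosedImmersion i := hC.2.2.2.2.2.1
  have l0 : LocallyOfFinitePresentation φ := hC.2.1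
  have l1 : LocallyOfFinitePresentation (fC ≫ φ) := nY.2.1
  have fl1 : Flat (fC ≫ φ) := nY.1
  have ci1 : IsClosedImmersion ist := hmp1.2.2.2.2.2.1
  have flw : Flat (w ≫ φ) := nW.1
  have lc : LocallyOfFinitePresentation c := by
    have h1 : LocallyOfFinitePresentation (c ≫ e) := by rw [hc]; infer_instance
    exact lfp_of_comp c e
  have hce : LocallyOfFinitePresentation (c ≫ e) := by rw [hc]; infer_instance
  have hcf : Flat (c ≫ e) := by rw [hc]; infer_instance
  have eY1 : (pullback.snd fC w ≫ c) ≫ e = pullback.fst fC w ≫ fC ≫ φ := comp_e e φ w c hc fC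
  have lY' : LocallyOfFinitePresentation ((pullback.snd fC w ≫ c) ≫ e) := by rw [eY1]; infer_instance
  have flY' : Flat ((pullback.snd fC w ≫ c) ≫ e) := by rw [eY1]; infer_instance
  have lY : LocallyOfFinitePresentation (pullback.snd fC w ≫ c) := lfp_of_comp _ e
  have hsY : ∀ d, pullback.snd ist (pullback.fst fC w) d ∈ (pullback.snd fC w ≫ c).smoothLocus := by
    intro d
    apply smooth_of_mono _ e
    refine (K851.FB.mem_congr eY1 rfl).2 ?_
    apply mem_of_smooth_comp
    rw [← Scheme.Hom.comp_apply, ← pullback.condition, Scheme.Hom.comp_apply]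
    by_contra hcon
    exact Set.disjoint_left.1 sY ⟨pullback.fst ist (pullback.fst fC w) d, rfl⟩ hcon
  have lid : LocallyOfFinitePresentation (𝟙 W ≫ c) := by rw [Category.id_comp]; infer_instance
  obtain ⟨h, hh⟩ := affine_hom c (𝟙 W) (pullback.snd fC w)
    (pullback.snd i w) (pullback.snd ist (pullback.fst fC w)) inferInstance inferInstance
    inferInstance inferInstance
    (by rw [Category.id_comp]; exact nodal_of_mono _ e (by rw [hc]; exact nW))
    (nodal_of_mono _ e (by rw [eY1]; exact Groth.Agent.S1592.result _ nY _))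
    (by rw [Category.id_comp]; exact etale_of_mono _ e (by rw [Category.assoc, hc]; exact eW))
    (etale_of_mono _ e (by
      have h1 : (pullback.snd ist (pullback.fst fC w) ≫ pullback.snd fC w ≫ c) ≫ e =
          pullback.fst ist (pullback.fst fC w) ≫ ist ≫ fC ≫ φ := by
        rw [Category.assoc, eY1, ← Category.assoc, ← pullback.condition, Category.assoc]
      rw [h1]; infer_instance))
    (by
      intro d
      refine (K851.FB.mem_congr (Category.id_comp c) rfl).2 ?_
      apply smooth_of_mono _ e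
      refine (K851.FB.mem_congr hc rfl).2 (sW d))
    hsY (by
      have P := bco_isPullback (𝟙 W) c (gp A)
      exact P.isIso_snd_of_isIso) (gi_of_eta e φ w c hc fC hη)
    (by
      rintro x _ hx - ⟨d, rfl⟩
      have h1 : i (fD (pullback.fst ist (pullback.fst fC w) d)) = w x := by
        have h2 : x = pullback.snd fC w (pullback.snd ist (pullback.fst fC w) d) := by
          rw [← hx]; rfl
        rw [h2, ← Scheme.Hom.comp_apply (pullback.snd fC w), ← pullback.condition, Scheme.Hom.comp_apply,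
          ← Scheme.Hom.comp_apply (pullback.snd ist (pullback.fst fC w)), ← pullback.condition,
          Scheme.Hom.comp_apply, ← Scheme.Hom.comp_apply ist, hw1, Scheme.Hom.comp_apply]
      obtain ⟨u, -, hu⟩ := Scheme.Pullback.exists_preimage_pullback _ _ (f := i) (g := w) h1
      exact ⟨u, hu⟩)
    (noExc_loc e φ w c hc fC ist hno)
  refine ⟨h, ?_, hh⟩
  have h1 : pullback.fst fC w = pullback.snd fC w ≫ h ≫ pullback.fst fC w := by
    have h2 : pullback.fst fC w ≫ fC = (pullback.snd fC w ≫ h ≫ pullback.fst fC w) ≫ fC := by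
      rw [Category.assoc, Category.assoc, pullback.condition, reassoc_of% hh]
    refine flat_unique hη _ _ h2 ?_
    rw [Category.assoc]
    infer_instance
  apply pullback.hom_ext
  · rw [Category.assoc, ← h1, Category.id_comp]
  · rw [Category.assoc, hh, Category.comp_id, Category.id_comp]

/-- The isomorphism for the marked subschemes. -/
theorem iso_D [QuasiSeparatedSpace S] (φ : C ⟶ S) (w : W ⟶ C) [Mono w] (i : D ⟶ C) [IsClosedImmersion i]
    [Flat (i ≫ φ)] (ist : Dst ⟶ Cst) [IsClosedImmersion ist] (fC : Cst ⟶ C) (fD : Dst ⟶ D)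
    (hw1 : ist ≫ fC = fD ≫ i) (hη : SSMod.IsEtaIso φ fC) (hηD : SSMod.IsEtaIso (i ≫ φ) fD)
    [Flat (pullback.fst i w)]
    (h : IsIso (pullback.snd fC w)) : IsIso (pullback.snd fD (pullback.fst i w)) := by
  let t := pullback.fst i w
  let u := pullback.snd i w
  have hu : t ≫ i = u ≫ w := pullback.condition
  let a : pullback i w ⟶ Cst := u ≫ inv (pullback.snd fC w) ≫ pullback.fst fC w
  have ha : a ≫ fC = u ≫ w := by
    simp only [a, Category.assoc]
    rw [pullback.condition, IsIso.inv_hom_id_assoc]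
  have flt : Flat t := inferInstanceAs (Flat (pullback.fst i w))
  let q := t ≫ i ≫ φ
  have hj : IsSchemeTheoreticallyDominant (pullback.fst q (sη S)) := inferInstance
  obtain ⟨l, hl⟩ := eta_lift hηD (pullback.fst q (sη S) ≫ t) (pullback.snd q (sη S)) (by
    rw [Category.assoc]
    exact pullback.condition)
  have h1 : l ≫ ist = pullback.fst q (sη S) ≫ a := by
    have h2 : (l ≫ ist) ≫ fC = pullback.fst q (sη S) ≫ t ≫ i := by
      rw [Category.assoc, hw1, reassoc_of% hl]
    refine eta_unique hη _ _ ?_ (pullback.snd q (sη S)) ?_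
    · rw [h2, Category.assoc, ha, hu]
    · rw [h2, Category.assoc, Category.assoc]
      exact pullback.condition
  obtain ⟨a', ha'⟩ := K851.NA.factor (pullback.fst q (sη S)) ist a l h1
  have hb : a' ≫ fD = t := by
    rw [← cancel_mono i, Category.assoc, ← hw1, reassoc_of% ha', ha, hu]
  refine ⟨pullback.lift a' (𝟙 _) (by rw [hb, Category.id_comp]), ?_, pullback.lift_snd _ _ _⟩
  apply pullback.hom_ext
  · rw [Category.assoc, pullback.lift_fst, Category.id_comp, ← cancel_mono ist, Category.assoc, ha']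
    have h3 : (pullback.snd fD t ≫ a) ≫ fC = (pullback.snd fD t ≫ u) ≫ w := by
      rw [Category.assoc, ha, Category.assoc]
    have h4 : (pullback.fst fD t ≫ ist) ≫ fC = (pullback.snd fD t ≫ u) ≫ w := by
      rw [Category.assoc, hw1, ← Category.assoc, pullback.condition, Category.assoc, hu, Category.assoc]
    have h5 : pullback.lift _ _ h3 = pullback.lift _ _ h4 := by
      rw [← cancel_mono (pullback.snd fC w), pullback.lift_snd, pullback.lift_snd]
    have h6 := congr($h5 ≫ pullback.fst fC w)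
    rw [pullback.lift_fst, pullback.lift_fst] at h6
    exact h6
  · rw [Category.assoc, pullback.lift_snd, Category.comp_id, Category.id_comp]

/-- Isomorphism near a point of the semistable locus. -/
theorem exists_nhd [QuasiSeparatedSpace S] (hS : Pi1.IsNormalScheme S) (φ : C ⟶ S) (i : D ⟶ C)
    (hC : SSMod.IsMPCurve φ i)
    (ist : Dst ⟶ Cst) (fC : Cst ⟶ C) (fD : Dst ⟶ D) (hst : SSMod.IsStableModification φ i ist fC fD)
    (hη : SSMod.IsEtaIso φ fC) (V : C.Opens) (hV : SSMod.IsSemistable (V.ι ≫ φ) (i ∣_ V)) (p : C)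
    (hp : p ∈ V) : ∃ (W : Scheme.{u}) (w : W ⟶ C) (_ : IsOpenImmersion w), p ∈ Set.range w ∧
      IsIso (pullback.snd fC w) := by
  obtain ⟨-, nV, eV, sV⟩ := hV
  obtain ⟨V', hV', hpV', -⟩ := exists_isAffineOpen_mem_and_subset (U := ⊤) (x := φ p) trivial
  obtain ⟨W, hW, hpW, hWV⟩ := exists_isAffineOpen_mem_and_subset (U := φ ⁻¹ᵁ V' ⊓ V) (x := p) ⟨hpV', hp⟩
  have : Nonempty V' := ⟨⟨φ p, hpV'⟩⟩
  have : IsAffine W := hW
  have ic : IsIntegrallyClosed Γ(S, V') :=
    Groth.Agent.Ega3B.NormalBirational.isIntegrallyClosed_section (fun y => (hS y).2) V' hV'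
  have hr : Set.range (W.ι ≫ φ) ⊆ Set.range hV'.fromSpec := by
    rw [hV'.range_fromSpec]
    rintro _ ⟨x, rfl⟩
    rw [Scheme.Hom.comp_apply]
    exact (hWV x.2).1
  let c : W.toScheme ⟶ Spec (CommRingCat.of Γ(S, V')) := IsOpenImmersion.lift hV'.fromSpec (W.ι ≫ φ) hr
  have hc : c ≫ hV'.fromSpec = W.ι ≫ φ := IsOpenImmersion.lift_fac _ _ _
  have hle : W ≤ V := fun x hx => (hWV hx).2
  let j : W.toScheme ⟶ V.toScheme := C.homOfLE hle
  have hj : j ≫ V.ι = W.ι := C.homOfLE_ι hle
  have hj' : j ≫ V.ι ≫ φ = W.ι ≫ φ := by rw [← Category.assoc, hj]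
  have l0 : LocallyOfFinitePresentation φ := hC.2.1
  have hr2 : Set.range (pullback.fst i W.ι) ⊆ Set.range (i ⁻¹ᵁ V).ι := by
    rw [Scheme.Opens.range_ι]
    rintro _ ⟨x, rfl⟩
    change i (pullback.fst i W.ι x) ∈ V
    rw [← Scheme.Hom.comp_apply, pullback.condition, Scheme.Hom.comp_apply]
    exact hle (pullback.snd i W.ι x).2
  let k : pullback i W.ι ⟶ (i ⁻¹ᵁ V).toScheme := IsOpenImmersion.lift (i ⁻¹ᵁ V).ι (pullback.fst i W.ι) hr2
  have hk : k ≫ (i ⁻¹ᵁ V).ι = pullback.fst i W.ι := IsOpenImmersion.lift_fac _ _ _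
  have hko : IsOpenImmersion (k ≫ (i ⁻¹ᵁ V).ι) := by rw [hk]; infer_instance
  have hko' : IsOpenImmersion k := IsOpenImmersion.of_comp k (i ⁻¹ᵁ V).ι
  have hkj : k ≫ i ∣_ V = pullback.snd i W.ι ≫ j := by
    rw [← cancel_mono V.ι, Category.assoc, Category.assoc, hj, morphismRestrict_ι, reassoc_of% hk,
      pullback.condition]
  refine ⟨W, W.ι, inferInstance, ?_, ?_⟩
  · rw [Scheme.Opens.range_ι]
    exact hpW
  · refine affine_iso (A := Γ(S, V')) hV'.fromSpec φ W.ι c hc i hC ist fC fD hst hη ?_ ?_ ?_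
    · rw [← hj']
      exact Groth.Agent.S1592.result _ nV _
    · have h1 : pullback.snd i W.ι ≫ W.ι ≫ φ = k ≫ i ∣_ V ≫ V.ι ≫ φ := by
        rw [reassoc_of% hkj, hj']
      rw [h1]
      infer_instance
    · intro d
      refine (K851.FB.mem_congr hj' rfl).1 ?_
      have lj : LocallyOfFinitePresentation (j ≫ V.ι ≫ φ) := by rw [hj']; infer_instance
      apply mem_of_smooth_comp
      rw [← Scheme.Hom.comp_apply, ← hkj, Scheme.Hom.comp_apply]
      by_contra hcon
      exact Set.disjoint_left.1 sV ⟨k d, rfl⟩ hcon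

theorem main [QuasiSeparatedSpace S] (hS : Pi1.IsNormalScheme S) (φ : C ⟶ S) (i : D ⟶ C)
    (hC : SSMod.IsMPCurve φ i)
    (ist : Dst ⟶ Cst) (fC : Cst ⟶ C) (fD : Dst ⟶ D) (hst : SSMod.IsStableModification φ i ist fC fD)
    (hη : SSMod.IsEtaIso φ fC) (hηD : SSMod.IsEtaIso (i ≫ φ) fD) :
    IsIso (fC ∣_ SSMod.ssLocus φ i) ∧ IsIso (fD ∣_ (i ⁻¹ᵁ SSMod.ssLocus φ i)) := by
  have h1 : ∀ p ∈ SSMod.ssLocus φ i, ∃ (W : Scheme.{u}) (w : W ⟶ C) (_ : IsOpenImmersion w),
      p ∈ Set.range w ∧ IsIso (pullback.snd fC w) := by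
    intro p hp
    obtain ⟨V, hV, hpV⟩ := Opens.mem_sSup.1 hp
    exact exists_nhd hS φ i hC ist fC fD hst hη V hV p hpV
  refine ⟨isIso_restrict _ _ h1, isIso_restrict _ _ fun y hy => ?_⟩
  obtain ⟨W, w, hw, ⟨z, hz⟩, hi⟩ := h1 (i y) hy
  have ci : IsClosedImmersion i := hC.2.2.2.2.2.1
  have fl : Flat (i ≫ φ) := hC.2.2.2.2.2.2.1
  have ci1 : IsClosedImmersion ist := hst.1.1.2.1.2.2.2.2.2.1
  obtain ⟨u, hu, -⟩ := Scheme.Pullback.exists_preimage_pullback y z (f := i) (g := w) hz.symm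
  exact ⟨_, pullback.fst i w, inferInstance, ⟨u, hu⟩,
    iso_D φ w i ist fC fD hst.1.1.1 hη hηD hi⟩

end

end K851.GF
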