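import Groth.Agent.SSMod.K851.Tor
import Groth.Agent.SSMod.K851.Dat
import Groth.Agent.S2227
import Mathlib.RingTheory.Unramified.LocalRing
import Mathlib.FieldTheory.IsAlgClosed.Basic
import Mathlib.AlgebraicGeometry.Morphisms.QuasiFinite

/-!
# Local charts of nodal families over a complete discrete valuation ring
-/

set_option autoImplicit false
set_option linter.unusedSectionVars false
universe u

open CategoryTheory CategoryTheory.Limits AlgebraicGeometry TopologicalSpace IsLocalRing

namespace K851.LC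

open K851.Fib K851.LemN K851.Et K851.Sep K851.Pt K851.Tor K851.Dat

theorem bijective_of_etale {R R' : Type u} [CommRing R] [IsDomain R] [IsDiscreteValuationRing R]
    [IsAdicComplete (maximalIdeal R) R] [IsAlgClosed (ResidueField R)] [CommRing R'] [IsDomain R']
    [IsDiscreteValuationRing R'] [Algebra R R'] [Algebra.Etale R R'] {π : R} (hπ : Irreducible π)
    (hπ' : Irreducible (algebraMap R R' π)) : Function.Bijective (algebraMap R R') := by
  have hinj : Function.Injective (algebraMap R R') := by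
    rw [injective_iff_map_eq_zero]
    intro r hr
    by_contra hne
    obtain ⟨n, w, rfl⟩ := IsDiscreteValuationRing.eq_unit_mul_pow_irreducible hne hπ
    rw [map_mul, map_pow] at hr
    rcases mul_eq_zero.1 hr with h | h
    · exact (w.isUnit.map (algebraMap R R')).ne_zero h
    · exact pow_ne_zero n hπ'.ne_zero h
  have hloc : IsLocalHom (algebraMap R R') := by
    refine ⟨fun r hr => ?_⟩
    by_contra hnu
    have h1 : r ∈ maximalIdeal R := hnu
    rw [hπ.maximalIdeal_eq, Ideal.mem_span_singleton] at h1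
    obtain ⟨s, rfl⟩ := h1
    rw [map_mul] at hr
    exact hπ'.not_isUnit (isUnit_of_mul_isUnit_left hr)
  have hfin : Module.Finite (ResidueField R) (ResidueField R') := inferInstance
  have hb : Function.Bijective (algebraMap (ResidueField R) (ResidueField R')) :=
    IsAlgClosed.algebraMap_bijective_of_isIntegral
  refine ⟨hinj, fun x => ?_⟩
  obtain ⟨c, hc⟩ := K851.Loc.exists_eq_of_surj (algebraMap R R') (RingHom.id R') hπ hπ'
    (fun g => by
      obtain ⟨s, hs⟩ := hb.2 (residue R' g)
      obtain ⟨r, rfl⟩ := residue_surjective s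
      refine ⟨r, ?_⟩
      have h1 : residue R' (g - algebraMap R R' r) = 0 := by
        rw [map_sub, ← hs, sub_eq_zero]
        rfl
      rw [residue_eq_zero_iff, hπ'.maximalIdeal_eq, Ideal.mem_span_singleton] at h1
      exact h1) x
  exact ⟨c, hc.symm⟩

theorem nd_equiv {R R' : Type u} [CommRing R] [IsDomain R] [IsDiscreteValuationRing R] [CommRing R']
    [IsDomain R'] [IsDiscreteValuationRing R'] (φ : R →+* R') (hφ : Function.Bijective φ) (a : R) :
    ∃ ψ : Nd a →+* Nd (φ a), Function.Bijective ψ ∧ ψ.comp (ndι a) = (ndι (φ a)).comp φ := by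
  let e := RingEquiv.ofBijective φ hφ
  obtain ⟨ψ, h1, h2, h3⟩ := nd_lift (a := a) ((ndι (φ a)).comp φ) (ndx (φ a) 0) (ndx (φ a) 1)
    (by rw [nd_rel]; rfl)
  obtain ⟨ψ', h1', h2', h3'⟩ := nd_lift (a := φ a) ((ndι a).comp (e.symm : R' →+* R)) (ndx a 0) (ndx a 1)
    (by
      rw [nd_rel]
      change _ = ndι a (e.symm (e a))
      rw [e.symm_apply_apply])
  refine ⟨ψ, Function.bijective_iff_has_inverse.2 ⟨ψ', ?_, ?_⟩, h1⟩
  · have h4 : ψ'.comp ψ = RingHom.id _ := by
      apply nd_ext
      · ext r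
        have e1 := congr($h1 r)
        have e2 := congr($h1' (φ r))
        simp only [RingHom.comp_apply] at e1 e2
        change ψ' (ψ ((Ideal.Quotient.mk _) (MvPolynomial.C r))) = _
        rw [e1]
        refine e2.trans ?_
        change ndι a (e.symm (e r)) = _
        rw [e.symm_apply_apply]; rfl
      · rw [RingHom.comp_apply, h2, h2']; rfl
      · rw [RingHom.comp_apply, h3, h3']; rfl
    exact fun x => congr($h4 x)
  · have h4 : ψ.comp ψ' = RingHom.id _ := by
      apply nd_ext
      · ext r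
        obtain ⟨r, rfl⟩ := hφ.2 r
        have e1 := congr($h1 r)
        have e2 := congr($h1' (φ r))
        simp only [RingHom.comp_apply] at e1 e2
        change ψ (ψ' ((Ideal.Quotient.mk _) (MvPolynomial.C (φ r)))) = _
        rw [e2]
        change ψ (ndι a (e.symm (e r))) = _
        rw [e.symm_apply_apply]
        exact e1
      · rw [RingHom.comp_apply, h2', h2]; rfl
      · rw [RingHom.comp_apply, h3', h3]; rfl
    exact fun x => congr($h4 x)

variable {R : Type u} [CommRing R] [IsDomain R] [IsDiscreteValuationRing R]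
    [IsAdicComplete (maximalIdeal R) R] [IsAlgClosed (ResidueField R)]

/-- Rational points lift along etale (or just locally quasi-finite) surjections near the point. -/
theorem exists_pt_of_etale {U X : Scheme.{u}} (q : X ⟶ Spec (CommRingCat.of R)) (e : U ⟶ X) [Etale e]
    (x₀ : Spec (CommRingCat.of (ResidueField R)) ⟶ X) (hx₀ : x₀ ≫ q = sp R) (u : U)
    (t : Spec (CommRingCat.of (ResidueField R))) (hu : e u = x₀ t) :
    ∃ xk : Spec (CommRingCat.of (ResidueField R)) ⟶ U, xk ≫ e = x₀ := by
  obtain ⟨z, -, -⟩ := Scheme.Pullback.exists_preimage_pullback (f := e) (g := x₀) u t hu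
  have hne : Nonempty ↥(pullback e x₀) := ⟨z⟩
  have hJ : JacobsonSpace ↥(pullback e x₀) := LocallyOfFiniteType.jacobsonSpace (pullback.snd e x₀)
  obtain ⟨w, (hw : IsClosed {w})⟩ : (closedPoints ↥(pullback e x₀)).Nonempty := by
    by_contra hcon
    rw [Set.not_nonempty_iff_eq_empty] at hcon
    have h1 := closure_closedPoints (X := ↥(pullback e x₀))
    rw [hcon, closure_empty] at h1
    exact Set.empty_ne_univ h1
  refine ⟨pointOfClosedPoint (pullback.snd e x₀) w hw ≫ pullback.fst e x₀, ?_⟩
  rw [Category.assoc, pullback.condition, pointOfClosedPoint_comp_assoc]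

/-- Local charts. -/
theorem exists_chart {π : R} (hπ : Irreducible π) {X : Scheme.{u}} (q : X ⟶ Spec (CommRingCat.of R))
    (hq : Curv2.IsNodalFamily q) (x₀ : Spec (CommRingCat.of (ResidueField R)) ⟶ X)
    (hx₀ : x₀ ≫ q = sp R) :
    ∃ (U : Scheme.{u}) (e : U ⟶ X) (_ : Etale e)
      (xk : Spec (CommRingCat.of (ResidueField R)) ⟶ U) (_ : xk ≫ e = x₀)
      (a : R) (_ : a = 0 ∨ ∃ n, a = π ^ n) (g : U ⟶ Spec (CommRingCat.of (Nd a))) (_ : Etale g),
      g ≫ Spec.map (CommRingCat.ofHom (ndι a)) = e ≫ q := by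
  obtain ⟨t, -⟩ : ∃ s : Spec (CommRingCat.of (ResidueField R)), True :=
    ⟨closedPoint (ResidueField R), trivial⟩
  have hqx : q (x₀ t) = closedPoint R := by
    rw [← Scheme.Hom.comp_apply, hx₀]
    exact map_residue (CommRingCat.of R) t
  obtain ⟨R', _, _, _, _, _, hϖ, h, hh, U, e, he, x', hx', g, hg, hc⟩ :=
    Groth.Agent.S2227.result R π hπ X q hq (x₀ t) hqx
  obtain ⟨xk, hxk⟩ := exists_pt_of_etale q e x₀ hx₀ x' t hx'
  have hbij := bijective_of_etale hπ hϖ
  obtain ⟨a, ha, rfl⟩ : ∃ a : R, (a = 0 ∨ ∃ n, a = π ^ n) ∧ h = MvPolynomial.C (algebraMap R R' a) := by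
    rcases hh with h | ⟨n, h⟩
    · exact ⟨0, Or.inl rfl, by rw [h, map_zero, map_zero]⟩
    · exact ⟨π ^ n, Or.inr ⟨n, rfl⟩, by rw [h, map_pow (algebraMap R R')]⟩
  obtain ⟨ψ, hψ1, hψ2⟩ := nd_equiv (algebraMap R R') hbij a
  have hiso : IsIso (CommRingCat.ofHom ψ) := (ConcreteCategory.isIso_iff_bijective _).2 hψ1
  refine ⟨U, e, he, xk, hxk, a, ha, g ≫ Spec.map (CommRingCat.ofHom ψ), inferInstance, ?_⟩
  rw [Category.assoc, ← Spec.map_comp, ← CommRingCat.ofHom_comp, hψ2]
  exact hc

end K851.LC
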