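import Groth.Agent.SSMod.K851.Loc
import Groth.Agent.SSMod.K851.Fib
import Groth.Agent.PerfA.H0AlgClosed

/-!
# A connected component of the special fibre which is proper over the residue field is not contracted
-/

set_option autoImplicit false
set_option linter.unusedSectionVars false
universe u

open CategoryTheory CategoryTheory.Limits AlgebraicGeometry TopologicalSpace IsLocalRing

namespace K851.LemN

open K851.Fib

section Sc

variable {R : Type u} [CommRing R]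

/-- The structure map to sections. -/
noncomputable def sc {Z : Scheme.{u}} (q : Z ⟶ Spec (CommRingCat.of R)) (U : Z.Opens) : R →+* Γ(Z, U) :=
  ((Scheme.ΓSpecIso (CommRingCat.of R)).inv ≫ q.appLE ⊤ U (le_top : U ≤ q ⁻¹ᵁ ⊤)).hom

theorem germ_sc {Z : Scheme.{u}} (q : Z ⟶ Spec (CommRingCat.of R)) (U : Z.Opens) (x : Z) (hx : x ∈ U)
    (r : R) : Z.presheaf.germ U x hx (sc q U r) = st q x r := by
  rw [st_eq_germ]
  change Z.presheaf.germ U x hx (Z.presheaf.map _ _) = _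
  rw [Z.presheaf.germ_res_apply]
  rfl

theorem sc_comp {Z' Z : Scheme.{u}} (f : Z' ⟶ Z) (q : Z ⟶ Spec (CommRingCat.of R)) (U : Z.Opens)
    (U' : Z'.Opens) (h : U' ≤ f ⁻¹ᵁ U) (r : R) : f.appLE U U' h (sc q U r) = sc (f ≫ q) U' r := by
  have h1 : q.appLE ⊤ U (le_top : U ≤ q ⁻¹ᵁ ⊤) ≫ f.appLE U U' h =
      (f ≫ q).appLE ⊤ U' (le_top : U' ≤ (f ≫ q) ⁻¹ᵁ ⊤) := Scheme.Hom.appLE_comp_appLE _ _ _ _ _ _ _
  exact congr($h1 ((Scheme.ΓSpecIso (CommRingCat.of R)).inv r))

theorem sc_map {R' : Type u} [CommRing R'] (φ : R →+* R') {Z : Scheme.{u}}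
    (q : Z ⟶ Spec (CommRingCat.of R')) (U : Z.Opens) (r : R) :
    sc (q ≫ Spec.map (CommRingCat.ofHom φ)) U r = sc q U (φ r) := by
  have h1 : (Spec.map (CommRingCat.ofHom φ)).appLE ⊤ ⊤ (le_top : ⊤ ≤ _) ≫
      q.appLE ⊤ U (le_top : U ≤ q ⁻¹ᵁ ⊤) = (q ≫ Spec.map (CommRingCat.ofHom φ)).appLE ⊤ U
        (le_top : U ≤ _) := Scheme.Hom.appLE_comp_appLE _ _ _ _ _ _ _
  have h2 : (Scheme.ΓSpecIso (CommRingCat.of R)).inv ≫ (Spec.map (CommRingCat.ofHom φ)).appLE ⊤ ⊤
      (le_top : ⊤ ≤ _) = CommRingCat.ofHom φ ≫ (Scheme.ΓSpecIso (CommRingCat.of R')).inv := by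
    have h3 := Scheme.ΓSpecIso_inv_naturality (CommRingCat.ofHom φ)
    rw [h3, Scheme.Hom.appTop, Scheme.Hom.app_eq_appLE]
    rfl
  change ((Scheme.ΓSpecIso (CommRingCat.of R)).inv ≫ (q ≫ Spec.map (CommRingCat.ofHom φ)).appLE ⊤ U
        (le_top : U ≤ _)) r = (CommRingCat.ofHom φ ≫ (Scheme.ΓSpecIso (CommRingCat.of R')).inv ≫
        q.appLE ⊤ U (le_top : U ≤ q ⁻¹ᵁ ⊤)) r
  rw [← h1, ← Category.assoc, h2, Category.assoc]

end Sc

variable {R : Type u} [CommRing R] [IsDomain R] [IsDiscreteValuationRing R]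

/-- The inclusion of the closed point. -/
noncomputable abbrev sp (R : Type u) [CommRing R] [IsLocalRing R] :
    Spec (CommRingCat.of (ResidueField R)) ⟶ Spec (CommRingCat.of R) :=
  Spec.map (CommRingCat.ofHom (residue R))

theorem isUnit_st_of_ne {π : R} (hπ : Irreducible π) {Z : Scheme.{u}} (q : Z ⟶ Spec (CommRingCat.of R))
    (x : Z) (hx : (q x : PrimeSpectrum R) ≠ closedPoint R) : IsUnit (st q x π) := by
  rw [isUnit_st_iff]
  intro h
  apply hx
  have h1 : (q x : PrimeSpectrum R).asIdeal = maximalIdeal R := by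
    have h2 : maximalIdeal R ≤ (q x : PrimeSpectrum R).asIdeal := by
      rw [hπ.maximalIdeal_eq, Ideal.span_singleton_le_iff_mem]; exact h
    exact ((maximalIdeal.isMaximal R).eq_of_le (q x : PrimeSpectrum R).2.ne_top h2).symm
  exact PrimeSpectrum.ext h1

theorem germ_appLE {Z' Z : Scheme.{u}} (f : Z' ⟶ Z) (U : Z.Opens) (U' : Z'.Opens) (h : U' ≤ f ⁻¹ᵁ U)
    (x : Z') (hx : x ∈ U') (s : Γ(Z, U)) :
    Z'.presheaf.germ U' x hx (f.appLE U U' h s) =
      f.stalkMap x (Z.presheaf.germ U (f x) (show f x ∈ U from h hx) s) := by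
  refine Eq.trans ?_ (Scheme.Hom.germ_stalkMap_apply f U x (show f x ∈ U from h hx) s).symm
  exact Z'.presheaf.germ_res_apply _ _ _ _

/-- Functions near a component of the special fibre which is proper over the residue field are constant
modulo the uniformizer. -/
theorem exists_const [IsAlgClosed (ResidueField R)] {π : R} (hπ : Irreducible π) {Z Zk : Scheme.{u}}
    (q : Z ⟶ Spec (CommRingCat.of R)) [Flat q] (i : Zk ⟶ Z)
    (qk : Zk ⟶ Spec (CommRingCat.of (ResidueField R))) (H : IsPullback i qk q (sp R)) [IsReduced Zk]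
    {W : Scheme.{u}} (j : W ⟶ Zk) [IsOpenImmersion j] (U : Z.Opens) (hWU : ∀ w, i (j w) ∈ U)
    (hU : ∀ x ∈ U, (q x : PrimeSpectrum R) = closedPoint R → ∃ w, i (j w) = x)
    [UniversallyClosed (j ≫ qk)] [ConnectedSpace W] (g : Γ(Z, U)) :
    ∃ r : R, sc q U π ∣ g - sc q U r := by
  have hle : (⊤ : W.Opens) ≤ (j ≫ i) ⁻¹ᵁ U := fun w _ => hWU w
  have : IsReduced W := isReduced_of_isOpenImmersion j
  obtain ⟨c, hc⟩ := (Groth.Agent.PerfA.H0AlgClosed.bijective_str_of_isAlgClosed (j ≫ qk)).2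
    ((j ≫ i).appLE U ⊤ hle g)
  obtain ⟨r, rfl⟩ := residue_surjective c
  refine ⟨r, ?_⟩
  have h2 : (j ≫ i).appLE U ⊤ hle (g - sc q U r) = 0 := by
    rw [map_sub, ← hc, sc_comp, sub_eq_zero]
    have h3 : (j ≫ i) ≫ q = (j ≫ qk) ≫ sp R := by rw [Category.assoc, H.w, Category.assoc]
    have h4 := sc_map (residue R) (j ≫ qk) ⊤ r
    have h5 : sc ((j ≫ i) ≫ q) ⊤ r = sc ((j ≫ qk) ≫ sp R) ⊤ r := by rw [h3]
    rw [h5, h4]
    rfl
  refine exists_mul_of_stalk U _ _ ?_ ?_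
  · intro x hx a ha
    rw [germ_sc] at ha
    exact eq_zero_of_st_mul q x hπ.ne_zero a ha
  · intro x hx
    rw [germ_sc]
    by_cases hcl : (q x : PrimeSpectrum R) = closedPoint R
    · obtain ⟨w, rfl⟩ := hU x hx hcl
      have h2 : Z.presheaf.germ U (i (j w)) hx (g - sc q U r) ∈ RingHom.ker (i.stalkMap (j w)).hom := by
        rw [RingHom.mem_ker]
        have h3 : Function.Injective (j.stalkMap w) := (ConcreteCategory.bijective_of_isIso _).1
        apply h3
        have h4 := germ_appLE (j ≫ i) U ⊤ hle w trivial (g - sc q U r)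
        rw [h2, map_zero, Scheme.Hom.stalkMap_comp] at h4
        rw [map_zero]
        exact h4.symm
      rw [ker_stalkMap hπ.maximalIdeal_eq q i qk H (j w), Ideal.mem_span_singleton] at h2
      exact h2
    · exact (isUnit_st_of_ne hπ q x hcl).dvd

theorem isUnit_st_of_ne_zero {π : R} (hπ : Irreducible π) {Z : Scheme.{u}}
    (q : Z ⟶ Spec (CommRingCat.of R)) (x : Z) (hx : (q x : PrimeSpectrum R) ≠ closedPoint R) {r : R}
    (hr : r ≠ 0) : IsUnit (st q x r) := by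
  obtain ⟨n, w, rfl⟩ := IsDiscreteValuationRing.eq_unit_mul_pow_irreducible hr hπ
  rw [map_mul, map_pow]
  exact (w.isUnit.map _).mul ((isUnit_st_of_ne hπ q x hx).pow n)

theorem closed_of_const [IsAdicComplete (maximalIdeal R) R] {π : R} (hπ : Irreducible π)
    {Z C : Scheme.{u}} (q : Z ⟶ Spec (CommRingCat.of R)) (f : Z ⟶ C)
    (c : C ⟶ Spec (CommRingCat.of R)) (hfc : f ≫ c = q) [IsAffine C] (U : Z.Opens)
    (hconst : ∀ g : Γ(Z, U), ∃ r : R, sc q U π ∣ g - sc q U r) (ξ : Z) (hξ : ξ ∈ U)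
    (hd : ∃ _ : IsDomain (Z.presheaf.stalk ξ), IsDiscreteValuationRing (Z.presheaf.stalk ξ) ∧
      Irreducible (st q ξ π)) (η : Z) (hη : η ⤳ ξ) (hqη : (q η : PrimeSpectrum R) ≠ closedPoint R)
    (y : C) (hy : f η ⤳ y) (hcy : (c y : PrimeSpectrum R) ≠ closedPoint R) : y = f η := by
  obtain ⟨_, hdvr, hirr⟩ := hd
  suffices h : y ⤳ f η from (h.antisymm hy).eq
  rw [specializes_iff_forall_open]
  intro O hO hfO
  obtain ⟨a, ha1, ha2⟩ := (isAffineOpen_top C).exists_basicOpen_le (V := ⟨O, hO⟩) ⟨f η, hfO⟩ trivial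
  refine ha1 ?_
  by_contra hya
  have htop : ∀ x : C, x ∈ (⊤ : C.Opens) := fun _ => trivial
  have hηU : η ∈ U := hη.mem_open U.2 hξ
  let g : Γ(Z, U) := f.appLE ⊤ U le_top a
  obtain ⟨r, hr⟩ := K851.Loc.exists_eq_of_surj (sc q U) (Z.presheaf.germ U ξ hξ).hom hπ
    (by
      change Irreducible (Z.presheaf.germ U ξ hξ (sc q U π))
      rw [germ_sc]; exact hirr) hconst g
  have hr' : Z.presheaf.germ U ξ hξ g = st q ξ r := by
    rw [← germ_sc q U ξ hξ r]; exact hr
  have hrη : Z.presheaf.germ U η hηU g = st q η r := by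
    have h1 := congrArg (Z.presheaf.stalkSpecializes hη) hr'
    rw [st_specializes, TopCat.Presheaf.germ_stalkSpecializes_apply] at h1
    exact h1
  have hgerm : ∀ b : Γ(C, ⊤), Z.presheaf.germ U η hηU (f.appLE ⊤ U le_top b) =
      f.stalkMap η (C.presheaf.germ ⊤ (f η) (htop _) b) := fun b =>
    germ_appLE f ⊤ U le_top η hηU b
  rw [C.mem_basicOpen a _ (htop _)] at ha2 hya
  have hr0 : r ≠ 0 := by
    rintro rfl
    have h1 : IsUnit (st q η 0) := by
      rw [← hrη, hgerm]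
      exact ha2.map _
    rw [map_zero] at h1
    exact not_isUnit_zero h1
  let b : Γ(C, ⊤) := a - sc c ⊤ r
  have hb : Z.presheaf.germ U η hηU (f.appLE ⊤ U le_top b) = 0 := by
    have h1 : f.appLE ⊤ U le_top (sc c ⊤ r) = sc q U r := by
      refine (sc_comp f c ⊤ U _ r).trans ?_
      subst hfc
      rfl
    rw [map_sub, map_sub, h1, germ_sc, ← hrη, sub_self]
  have hbη : ¬ IsUnit (C.presheaf.germ ⊤ (f η) (htop _) b) := by
    intro h
    have h1 := h.map (f.stalkMap η).hom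
    change IsUnit (f.stalkMap η _) at h1
    rw [← hgerm, hb] at h1
    exact not_isUnit_zero h1
  have hby : ¬ IsUnit (C.presheaf.germ ⊤ y (htop _) b) := by
    intro h
    apply hbη
    have h1 := h.map (C.presheaf.stalkSpecializes hy).hom
    change IsUnit (C.presheaf.stalkSpecializes hy _) at h1
    rwa [TopCat.Presheaf.germ_stalkSpecializes_apply] at h1
  have h1 : C.presheaf.germ ⊤ y (htop _) a - C.presheaf.germ ⊤ y (htop _) b = st c y r := by
    rw [← germ_sc c ⊤ y (htop _) r, ← map_sub]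
    congr 1
    simp [b]
  have h2 : st c y r ∈ maximalIdeal (C.presheaf.stalk y) := by
    rw [← h1]
    exact Ideal.sub_mem _ ((mem_maximalIdeal _).2 hya) ((mem_maximalIdeal _).2 hby)
  exact (mem_maximalIdeal _).1 h2 (isUnit_st_of_ne_zero hπ c y hcy hr0)

end K851.LemN
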