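import Groth.Agent.SSMod.K851.NS

/-!
# Coordinate charts at smooth points
-/

set_option autoImplicit false
set_option linter.unusedSectionVars false
universe u

open CategoryTheory CategoryTheory.Limits AlgebraicGeometry TopologicalSpace IsLocalRing

namespace K851.Line

open K851.Fib K851.LemN K851.Et K851.Sep K851.Pt K851.Tor K851.Dat K851.NS

variable {R : Type u} [CommRing R] [IsDomain R] [IsDiscreteValuationRing R]

/-- The map from the line to the chart `ndx i ≠ 0`. -/
noncomputable def lineMap (a : R) (i : Fin 2) : Polynomial R →+* Localization.Away (ndx a i) :=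
  Polynomial.eval₂RingHom ((algebraMap (Nd a) (Localization.Away (ndx a i))).comp (ndι a))
    (algebraMap (Nd a) (Localization.Away (ndx a i)) (ndx a i))

theorem lineMap_C (a : R) (i : Fin 2) (r : R) : lineMap a i (Polynomial.C r) =
    algebraMap (Nd a) (Localization.Away (ndx a i)) (ndι a r) := by simp [lineMap]

theorem lineMap_X (a : R) (i : Fin 2) : lineMap a i Polynomial.X =
    algebraMap (Nd a) (Localization.Away (ndx a i)) (ndx a i) := by simp [lineMap]

theorem isOpenImmersion_lineMap (a : R) (i : Fin 2) :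
    IsOpenImmersion (Spec.map (CommRingCat.ofHom (lineMap a i))) := by
  let L := Localization.Away (Polynomial.X : Polynomial R)
  let Ni := Localization.Away (ndx a i)
  have hu : IsUnit (lineMap a i Polynomial.X) := by
    rw [lineMap_X]
    exact IsLocalization.Away.algebraMap_isUnit _
  let α : L →+* Ni := IsLocalization.Away.lift (Polynomial.X : Polynomial R) hu
  have hα : ∀ p, α (algebraMap _ _ p) = lineMap a i p := fun p => IsLocalization.Away.lift_eq _ hu p
  obtain ⟨z, hz⟩ := (IsLocalization.Away.algebraMap_isUnit (Polynomial.X : Polynomial R)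
    (S := L)).exists_right_inv
  obtain ⟨β₀, hβ1, hβ2, hβ3⟩ := nd_lift' (a := a) ((algebraMap (Polynomial R) L).comp Polynomial.C) i
    (algebraMap (Polynomial R) L Polynomial.X) (algebraMap (Polynomial R) L (Polynomial.C a) * z)
    (by
      rw [mul_left_comm, hz, mul_one]; rfl)
  have hu' : IsUnit (β₀ (ndx a i)) := by
    rw [hβ2]; exact IsLocalization.Away.algebraMap_isUnit _
  let β : Ni →+* L := IsLocalization.Away.lift (ndx a i) hu'
  have hβ : ∀ p, β (algebraMap _ _ p) = β₀ p := fun p => IsLocalization.Away.lift_eq _ hu' p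
  have h1 : β.comp α = RingHom.id _ := by
    apply IsLocalization.ringHom_ext (Submonoid.powers (Polynomial.X : Polynomial R))
    apply Polynomial.ringHom_ext
    · intro r
      simp only [RingHom.comp_apply, RingHom.id_apply]
      rw [hα, lineMap_C, hβ]
      exact congr($hβ1 r)
    · simp only [RingHom.comp_apply, RingHom.id_apply]
      rw [hα, lineMap_X, hβ, hβ2]
  have h2 : α.comp β = RingHom.id _ := by
    apply IsLocalization.ringHom_ext (Submonoid.powers (ndx a i))
    have hx : α (β (algebraMap _ Ni (ndx a i))) = algebraMap _ Ni (ndx a i) := by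
      rw [hβ, hβ2, hα, lineMap_X]
    have hr : ∀ r, α (β (algebraMap _ Ni (ndι a r))) = algebraMap _ Ni (ndι a r) := by
      intro r
      rw [hβ]
      have := congr($hβ1 r)
      simp only [RingHom.comp_apply] at this
      change α (β₀ (Ideal.Quotient.mk _ (MvPolynomial.C r))) = _
      rw [this, hα, lineMap_C]
    refine nd_ext' i ?_ hx ?_
    · ext r
      exact hr r
    · have e1 : algebraMap _ Ni (ndx a i) * algebraMap _ Ni (ndx a (1 - i)) = algebraMap _ Ni (ndι a a) := by
        rw [← map_mul, nd_rel']
      have e2 := congrArg α (congrArg β e1)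
      rw [map_mul, map_mul, hx, hr, ← e1] at e2
      have hux : IsUnit (algebraMap _ Ni (ndx a i)) := IsLocalization.Away.algebraMap_isUnit _
      exact hux.mul_left_cancel e2
  have hbij : Function.Bijective α := Function.bijective_iff_has_inverse.2
    ⟨β, fun x => congr($h1 x), fun x => congr($h2 x)⟩
  have hiso : IsIso (CommRingCat.ofHom α) := (ConcreteCategory.isIso_iff_bijective _).2 hbij
  have h3 : CommRingCat.ofHom (lineMap a i) = CommRingCat.ofHom (algebraMap (Polynomial R) L) ≫
      CommRingCat.ofHom α := by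
    exact CommRingCat.hom_ext (RingHom.ext fun p => (hα p).symm)
  rw [h3, Spec.map_comp]
  have : IsOpenImmersion (Spec.map (CommRingCat.ofHom (algebraMap (Polynomial R) L))) :=
    IsOpenImmersion.of_isLocalization (Polynomial.X : Polynomial R)
  infer_instance

/-- Where one of the coordinates is invertible we get a coordinate chart. -/
theorem exists_line {a : R} {U X : Scheme.{u}} (g : U ⟶ Spec (CommRingCat.of (Nd a))) [Etale g]
    (e : U ⟶ X) [Etale e] (q : X ⟶ Spec (CommRingCat.of R))
    (w : g ≫ Spec.map (CommRingCat.ofHom (ndι a)) = e ≫ q)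
    {k : CommRingCat.{u}} (xk : Spec k ⟶ U) (i : Fin 2)
    (hi : IsUnit (Spec.preimage (xk ≫ g) (ndx a i))) :
    ∃ (U' : Scheme.{u}) (e' : U' ⟶ X) (_ : Etale e') (xk' : Spec k ⟶ U') (_ : xk' ≫ e' = xk ≫ e)
      (g' : U' ⟶ Spec (CommRingCat.of (Polynomial R))) (_ : Etale g'),
      g' ≫ Spec.map (CommRingCat.ofHom Polynomial.C) = e' ≫ q := by
  let Ni := Localization.Away (ndx a i)
  let ℓ : Spec (CommRingCat.of Ni) ⟶ Spec (CommRingCat.of (Nd a)) :=
    Spec.map (CommRingCat.ofHom (algebraMap (Nd a) Ni))
  have hℓ : IsOpenImmersion ℓ := IsOpenImmersion.of_isLocalization (ndx a i)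
  have := isOpenImmersion_lineMap a i
  let χ : Ni →+* k := IsLocalization.Away.lift (ndx a i) hi
  have hχ : Spec.map (CommRingCat.ofHom χ) ≫ ℓ = xk ≫ g := by
    rw [← Spec.map_preimage (xk ≫ g), ← Spec.map_comp]
    congr 1
    exact CommRingCat.hom_ext (RingHom.ext fun p => IsLocalization.Away.lift_eq _ hi p)
  refine ⟨pullback g ℓ, pullback.fst g ℓ ≫ e, inferInstance,
    pullback.lift xk (Spec.map (CommRingCat.ofHom χ)) hχ.symm, ?_,
    pullback.snd g ℓ ≫ Spec.map (CommRingCat.ofHom (lineMap a i)), inferInstance, ?_⟩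
  · rw [pullback.lift_fst_assoc]
  · have h1 : Spec.map (CommRingCat.ofHom (lineMap a i)) ≫ Spec.map (CommRingCat.ofHom Polynomial.C) =
        ℓ ≫ Spec.map (CommRingCat.ofHom (ndι a)) := by
      rw [← Spec.map_comp, ← Spec.map_comp]
      congr 1
      ext r
      exact lineMap_C a i r
    rw [Category.assoc, h1, ← pullback.condition_assoc, w, Category.assoc]

end K851.Line
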