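import Groth.Agent.SSMod.K851.Line

/-!
# Marked sections
-/

set_option autoImplicit false
set_option linter.unusedSectionVars false
universe u

open CategoryTheory CategoryTheory.Limits AlgebraicGeometry TopologicalSpace IsLocalRing

namespace K851.Mark

open K851.Fib K851.LemN K851.Et K851.Sep K851.Pt K851.Tor K851.Dat K851.NS

theorem st_map {R R' : Type u} [CommRing R] [CommRing R'] (φ : R →+* R') {Z : Scheme.{u}}
    (q : Z ⟶ Spec (CommRingCat.of R')) (z : Z) (r : R) :
    st (q ≫ Spec.map (CommRingCat.ofHom φ)) z r = st q z (φ r) := by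
  rw [← germ_sc _ ⊤ z trivial r, ← germ_sc _ ⊤ z trivial (φ r), sc_map]

variable {R : Type u} [CommRing R] [IsDomain R] [IsDiscreteValuationRing R]

theorem ro_sp (r : R) : ro (sp R) r = residue R r := by
  have := ro_map (CommRingCat.ofHom (residue R)) r
  exact this

/-- The local hom to the residue field given by a rational point. -/
theorem exists_eval {E : Scheme.{u}} (p : E ⟶ Spec (CommRingCat.of R))
    (xE : Spec (CommRingCat.of (ResidueField R)) ⟶ E) (hx : xE ≫ p = sp R)
    (t : Spec (CommRingCat.of (ResidueField R))) :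
    ∃ φ : E.presheaf.stalk (xE t) →+* ResidueField R, IsLocalHom φ ∧
      Spec.map (CommRingCat.ofHom φ) ≫ E.fromSpecStalk (xE t) = xE ∧
      ∀ r, φ (st p (xE t) r) = residue R r := by
  obtain ⟨φ, h1, h2⟩ := exists_stalk xE (xE t) (congrArg xE (subsingleton_spec _ _))
  refine ⟨φ.hom, h1, h2, fun r => ?_⟩
  have h3 : Spec.map φ ≫ E.fromSpecStalk (xE t) ≫ p = sp R := by
    rw [← Category.assoc, h2, hx]
  rw [← ro_sp, ← h3, ro_comp, ro_stalk]

theorem point_eq {E : Scheme.{u}} (p : E ⟶ Spec (CommRingCat.of R))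
    (xE : Spec (CommRingCat.of (ResidueField R)) ⟶ E) (hx : xE ≫ p = sp R)
    (t : Spec (CommRingCat.of (ResidueField R))) : p (xE t) = cp (CommRingCat.of R) := by
  rw [← Scheme.Hom.comp_apply, hx]
  exact map_residue (CommRingCat.of R) t

theorem maximalIdeal_of_etale {π : R} (hπ : Irreducible π) {E : Scheme.{u}}
    (p : E ⟶ Spec (CommRingCat.of R)) [Etale p] (z : E) (hz : p z = cp (CommRingCat.of R)) :
    maximalIdeal (E.presheaf.stalk z) = Ideal.span {st p z π} := by
  rw [← map_maximalIdeal p z, maximalIdeal_stalk (R := R), Ideal.map_map]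
  have h3 : (p z : PrimeSpectrum R).asIdeal = maximalIdeal R := by
    rw [hz]; rfl
  rw [h3, hπ.maximalIdeal_eq, Ideal.map_span, Set.image_singleton]
  congr 2
  have h2 := st_comp (R := R) p (𝟙 _) z π
  rw [Category.comp_id] at h2
  exact h2.symm

/-- A complete discrete valuation ring maps onto the local ring at a rational point of an etale scheme. -/
theorem surj_of_etale [IsAdicComplete (maximalIdeal R) R] {π : R} (hπ : Irreducible π) {E : Scheme.{u}}
    (p : E ⟶ Spec (CommRingCat.of R)) [Etale p]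
    (xE : Spec (CommRingCat.of (ResidueField R)) ⟶ E) (hx : xE ≫ p = sp R)
    (t : Spec (CommRingCat.of (ResidueField R))) : Function.Surjective (st p (xE t)) := by
  obtain ⟨φ, hφ, -, hφ2⟩ := exists_eval p xE hx t
  have hN : IsLocallyNoetherian E := LocallyOfFiniteType.isLocallyNoetherian p
  have hm := maximalIdeal_of_etale hπ p (xE t) (point_eq p xE hx t)
  obtain ⟨hdom, hdvr, hirr⟩ := K851.Loc.dvr_of hm fun x hx' =>
    eq_zero_of_st_mul p (xE t) hπ.ne_zero x hx'
  intro s
  obtain ⟨c, hc⟩ := K851.Loc.exists_eq_of_surj (st p (xE t)) (RingHom.id _) hπ hirr (fun g => by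
    obtain ⟨r, hr⟩ := residue_surjective (φ g)
    refine ⟨r, ?_⟩
    have h1 : φ (g - st p (xE t) r) = 0 := by rw [map_sub, hφ2, hr, sub_self]
    have h2 : g - st p (xE t) r ∈ maximalIdeal (E.presheaf.stalk (xE t)) := by
      intro hu
      have := hu.map φ
      rw [h1] at this
      exact not_isUnit_zero this
    rw [hm, Ideal.mem_span_singleton] at h2
    exact h2) s
  exact ⟨c, hc.symm⟩

/-- A rational point in the range of a closed immersion lifts. -/
theorem lift_closed {D X : Scheme.{u}} (i : D ⟶ X) [IsClosedImmersion i] {k : Type u} [Field k]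
    (x : Spec (CommRingCat.of k) ⟶ X) (t : Spec (CommRingCat.of k)) (d : D) (h : i d = x t) :
    ∃ y : Spec (CommRingCat.of k) ⟶ D, y ≫ i = x := by
  obtain ⟨z, -, -⟩ := Scheme.Pullback.exists_preimage_pullback (f := i) (g := x) d t h
  have h1 : Surjective (pullback.snd i x) := ⟨fun s => ⟨z, subsingleton_spec _ _⟩⟩
  have h2 : IsIso (pullback.snd i x) := isIso_of_isClosedImmersion_of_surjective _
  refine ⟨inv (pullback.snd i x) ≫ pullback.fst i x, ?_⟩
  rw [Category.assoc, pullback.condition, IsIso.inv_hom_id_assoc]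

theorem mem_asIdeal_iff {N : Type u} [CommRing N] {U : Scheme.{u}} (g : U ⟶ Spec (CommRingCat.of N))
    (y : U) (𝔞 : Spec (U.presheaf.stalk y)) (x : N) :
    x ∈ (g (U.fromSpecStalk y 𝔞) : PrimeSpectrum N).asIdeal ↔
      st g y x ∈ (𝔞 : PrimeSpectrum (U.presheaf.stalk y)).asIdeal := by
  rw [← Scheme.Hom.comp_apply, ← map_ro (U.fromSpecStalk y ≫ g), ← ro_stalk g y x]
  rfl

theorem asIdeal_eq {π : R} (hπ : Irreducible π) (n : Spec (CommRingCat.of (Polynomial R))) (c : R)
    (h1 : Polynomial.C π ∈ (n : PrimeSpectrum (Polynomial R)).asIdeal)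
    (h2 : Polynomial.X - Polynomial.C c ∈ (n : PrimeSpectrum (Polynomial R)).asIdeal) :
    (n : PrimeSpectrum (Polynomial R)).asIdeal = Ideal.span {Polynomial.X - Polynomial.C c, Polynomial.C π} := by
  apply le_antisymm
  · intro p hp
    obtain ⟨q, hq⟩ : Polynomial.X - Polynomial.C c ∣ p - Polynomial.C (p.eval c) :=
      Polynomial.dvd_iff_isRoot.2 (by simp [Polynomial.IsRoot])
    have h3 : Polynomial.C (p.eval c) ∈ (n : PrimeSpectrum (Polynomial R)).asIdeal := by
      have : Polynomial.C (p.eval c) = p - (Polynomial.X - Polynomial.C c) * q := by rw [← hq]; ring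
      rw [this]
      exact Ideal.sub_mem _ hp (Ideal.mul_mem_right _ _ h2)
    have h4 : π ∣ p.eval c := by
      by_contra hcon
      have hu : IsUnit (p.eval c) := by
        by_contra hnu
        apply hcon
        have : p.eval c ∈ maximalIdeal R := hnu
        rwa [hπ.maximalIdeal_eq, Ideal.mem_span_singleton] at this
      exact (n : PrimeSpectrum (Polynomial R)).2.ne_top
        (Ideal.eq_top_of_isUnit_mem _ h3 (hu.map Polynomial.C))
    obtain ⟨r, hr⟩ := h4
    have h5 : p = (Polynomial.X - Polynomial.C c) * q + Polynomial.C π * Polynomial.C r := by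
      rw [← Polynomial.C_mul, ← hr, ← hq]; ring
    rw [h5]
    exact Ideal.add_mem _ (Ideal.mul_mem_right _ _ (Ideal.subset_span (by simp)))
      (Ideal.mul_mem_right _ _ (Ideal.subset_span (by simp)))
  · rw [Ideal.span_le]
    rintro x (rfl | rfl)
    · exact h2
    · exact h1

/-- The local ring of the chart modulo `w` maps isomorphically. -/
theorem mem_span_of_ker {A O : Type*} [CommRing A] [IsLocalRing A] [IsNoetherianRing A] [CommRing O]
    [IsDomain O] (φ : A →+* O) (w p : A) (hm : maximalIdeal A = Ideal.span {w, p}) (hw : φ w = 0)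
    (hp : φ p ≠ 0) (a : A) (ha : φ a = 0) : a ∈ Ideal.span {w} := by
  by_contra hne
  have hwm : w ∈ maximalIdeal A := by rw [hm]; exact Ideal.subset_span (by simp)
  have hpm : p ∈ maximalIdeal A := by rw [hm]; exact Ideal.subset_span (by simp)
  have hnt : Ideal.span {w} ≠ ⊤ := fun h => (maximalIdeal.isMaximal A).ne_top
    (top_le_iff.1 (h ▸ (Ideal.span_singleton_le_iff_mem _).2 hwm))
  have : Nontrivial (A ⧸ Ideal.span {w}) := Ideal.Quotient.nontrivial_iff.2 hnt
  have : IsLocalRing (A ⧸ Ideal.span {w}) :=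
    IsLocalRing.of_surjective' (Ideal.Quotient.mk (Ideal.span {w})) Ideal.Quotient.mk_surjective
  have hloc : IsLocalHom (Ideal.Quotient.mk (Ideal.span {w})) :=
    IsLocalHom.of_surjective _ Ideal.Quotient.mk_surjective
  obtain ⟨n, b, hb, hb'⟩ := K851.Loc.exists_pow_mul (A := A ⧸ Ideal.span {w})
    (π := Ideal.Quotient.mk _ p) (fun h => hpm (isUnit_of_map_unit (Ideal.Quotient.mk (Ideal.span {w})) p h))
    (a := Ideal.Quotient.mk _ a) (fun h => hne (Ideal.Quotient.eq_zero_iff_mem.1 h))
  obtain ⟨b, rfl⟩ := Ideal.Quotient.mk_surjective b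
  have hbu : IsUnit b := by
    by_contra hnu
    have h1 : b ∈ maximalIdeal A := hnu
    rw [hm, Ideal.mem_span_pair] at h1
    obtain ⟨s, t, hst⟩ := h1
    apply hb'
    refine ⟨Ideal.Quotient.mk _ t, ?_⟩
    rw [← map_mul, Ideal.Quotient.eq, Ideal.mem_span_singleton, ← hst]
    exact ⟨s, by ring⟩
  rw [← map_pow, ← map_mul, Ideal.Quotient.eq, Ideal.mem_span_singleton] at hb
  obtain ⟨s, hs⟩ := hb
  have h1 := congrArg φ hs
  rw [map_sub, ha, map_mul, map_mul, hw, zero_mul, zero_sub, neg_eq_zero, map_pow] at h1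
  rcases mul_eq_zero.1 h1 with h | h
  · exact pow_ne_zero n hp h
  · exact (hbu.map φ).ne_zero h

/-- A section of the chart through a marked point is given by `X = c`. -/
theorem exists_shift [IsAdicComplete (maximalIdeal R) R] {π : R} (hπ : Irreducible π)
    {D X U : Scheme.{u}} (q : X ⟶ Spec (CommRingCat.of R)) (i : D ⟶ X) [IsClosedImmersion i]
    [Etale (i ≫ q)] (e : U ⟶ X) [Etale e]
    (g : U ⟶ Spec (CommRingCat.of (Polynomial R))) [Etale g]
    (w : g ≫ Spec.map (CommRingCat.ofHom Polynomial.C) = e ≫ q)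
    (xk : Spec (CommRingCat.of (ResidueField R)) ⟶ U) (hxk : xk ≫ e ≫ q = sp R)
    (t : Spec (CommRingCat.of (ResidueField R))) (d : D) (hd : i d = e (xk t)) :
    ∃ (c : R) (V : U.Opens), xk t ∈ V ∧ (∀ u ∈ V, (∃ d, i d = e u) →
      Polynomial.X - Polynomial.C c ∈ (g u : PrimeSpectrum (Polynomial R)).asIdeal) ∧
      ∀ u, u ⤳ xk t → Polynomial.X - Polynomial.C c ∈ (g u : PrimeSpectrum (Polynomial R)).asIdeal →
        ∃ d, i d = e u := by
  obtain ⟨xD, hxD⟩ := lift_closed i (xk ≫ e) t d (by rw [Scheme.Hom.comp_apply]; exact hd)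
  let E := pullback i e
  let pE : E ⟶ Spec (CommRingCat.of R) := pullback.fst i e ≫ i ≫ q
  have hpE : Etale pE := inferInstanceAs (Etale (pullback.fst i e ≫ i ≫ q))
  let xE : Spec (CommRingCat.of (ResidueField R)) ⟶ E := pullback.lift xD xk hxD
  have hxE : xE ≫ pE = sp R := by
    rw [pullback.lift_fst_assoc, reassoc_of% hxD, hxk]
  have hpE' : pE = (pullback.snd i e ≫ g) ≫ Spec.map (CommRingCat.ofHom Polynomial.C) := by
    rw [Category.assoc, w, ← pullback.condition_assoc]
  have hxEs : pullback.snd i e (xE t) = xk t := by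
    rw [← Scheme.Hom.comp_apply, pullback.lift_snd]
  obtain ⟨c, hc⟩ := surj_of_etale hπ pE xE hxE t (st (R := Polynomial R) (pullback.snd i e ≫ g) (xE t) Polynomial.X)
  have hst : ∀ y r, st pE y r = st (R := Polynomial R) (pullback.snd i e ≫ g) y (Polynomial.C r) := by
    intro y r
    rw [hpE', st_map]
  have h0 : st (R := Polynomial R) (pullback.snd i e ≫ g) (xE t) (Polynomial.X - Polynomial.C c) = 0 := by
    rw [map_sub, ← hst, hc, sub_self]
  rw [← germ_sc _ ⊤ (xE t) trivial] at h0
  obtain ⟨W, hzW, iW, iW', hW⟩ := TopCat.Presheaf.germ_eq (C := CommRingCat) E.presheaf (xE t)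
    (show xE t ∈ (⊤ : E.Opens) from trivial) (show xE t ∈ (⊤ : E.Opens) from trivial)
    (sc (R := Polynomial R) (pullback.snd i e ≫ g) ⊤ (Polynomial.X - Polynomial.C c)) 0
    (h0.trans (map_zero _).symm)
  refine ⟨c, ⟨((pullback.snd i e) '' (W : Set E)ᶜ)ᶜ,
    ((pullback.snd i e).isClosedMap _ W.2.isClosed_compl).isOpen_compl⟩, ?_, ?_, ?_⟩
  · rintro ⟨y, hy, hyz⟩
    apply hy
    have : y = xE t := (pullback.snd i e).isClosedEmbedding.injective (hyz.trans hxEs.symm)
    rw [this]
    exact hzW
  · rintro u hu ⟨d', hd'⟩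
    obtain ⟨y, -, hy⟩ := Scheme.Pullback.exists_preimage_pullback (f := i) (g := e) d' u hd'
    have hyW : y ∈ W := by
      by_contra hcon
      exact hu ⟨y, hcon, hy⟩
    have h1 : st (R := Polynomial R) (pullback.snd i e ≫ g) y (Polynomial.X - Polynomial.C c) = 0 := by
      rw [← germ_sc _ ⊤ y trivial]
      have h2 := congrArg (E.presheaf.germ W y hyW) hW
      erw [TopCat.Presheaf.germ_res_apply, map_zero, map_zero] at h2
      exact h2
    by_contra hcon
    have h3 := (isUnit_st_iff (R := Polynomial R) (pullback.snd i e ≫ g) y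
      (Polynomial.X - Polynomial.C c)).2 (by
        rw [Scheme.Hom.comp_apply, hy]; exact hcon)
    rw [h1] at h3
    exact not_isUnit_zero h3
  · intro u hu hcu
    have hm := maximalIdeal_of_etale hπ pE (xE t) (point_eq pE xE hxE t)
    have hNE : IsLocallyNoetherian E := LocallyOfFiniteType.isLocallyNoetherian pE
    have hNU : IsLocallyNoetherian U := LocallyOfFiniteType.isLocallyNoetherian g
    obtain ⟨hdom, hdvr, hirr⟩ := K851.Loc.dvr_of hm fun x hx' =>
      eq_zero_of_st_mul pE (xE t) hπ.ne_zero x hx'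
    rw [← hxEs] at hu
    let z := xE t
    let φ := (pullback.snd i e).stalkMap z
    have hφ : Function.Surjective φ := Scheme.Hom.stalkMap_surjective _ _
    have hφst : ∀ p, φ (st (R := Polynomial R) g (pullback.snd i e z) p) =
        st (R := Polynomial R) (pullback.snd i e ≫ g) z p := fun p =>
      (st_comp (R := Polynomial R) (pullback.snd i e) g z p).symm
    have hz0 : st (R := Polynomial R) (pullback.snd i e ≫ g) z (Polynomial.X - Polynomial.C c) = 0 := by
      rw [map_sub, ← hst]
      exact sub_eq_zero.2 hc.symm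
    have hgz : (g (pullback.snd i e z) : PrimeSpectrum (Polynomial R)).asIdeal =
        Ideal.span {Polynomial.X - Polynomial.C c, Polynomial.C π} := by
      apply asIdeal_eq hπ
      · rw [← not_not (a := Polynomial.C π ∈ _), ← isUnit_st_iff (R := Polynomial R)]
        intro hcon
        have h1 := hcon.map φ.hom
        change IsUnit (φ _) at h1
        rw [hφst, ← hst] at h1
        exact hirr.not_isUnit h1
      · rw [← not_not (a := Polynomial.X - Polynomial.C c ∈ _), ← isUnit_st_iff (R := Polynomial R)]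
        intro hcon
        have h1 := hcon.map φ.hom
        change IsUnit (φ _) at h1
        rw [hφst, hz0] at h1
        exact not_isUnit_zero h1
    have hmA : maximalIdeal (U.presheaf.stalk (pullback.snd i e z)) =
        Ideal.span {st (R := Polynomial R) g (pullback.snd i e z) (Polynomial.X - Polynomial.C c),
          st (R := Polynomial R) g (pullback.snd i e z) (Polynomial.C π)} := by
      rw [← map_maximalIdeal g, maximalIdeal_stalk (R := Polynomial R), Ideal.map_map, hgz, Ideal.map_span,
        Set.image_pair]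
      have h2 : ∀ p, ((g.stalkMap (pullback.snd i e z)).hom.comp
          (st (𝟙 (Spec (CommRingCat.of (Polynomial R)))) (g (pullback.snd i e z)))) p =
          st (R := Polynomial R) g (pullback.snd i e z) p := by
        intro p
        have h2 := st_comp (R := Polynomial R) g (𝟙 _) (pullback.snd i e z) p
        rw [Category.comp_id] at h2
        exact h2.symm
      rw [h2, h2]
    have hu' : u ∈ Set.range (U.fromSpecStalk (pullback.snd i e z)) := by
      rw [Scheme.range_fromSpecStalk]; exact hu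
    obtain ⟨𝔞, rfl⟩ := hu'
    rw [mem_asIdeal_iff] at hcu
    have hle : RingHom.ker φ.hom ≤ (𝔞 : PrimeSpectrum (U.presheaf.stalk (pullback.snd i e z))).asIdeal := by
      intro a ha
      have h1 := mem_span_of_ker φ.hom _ _ hmA (by
        change φ _ = 0
        rw [hφst, hz0]) (by
        change φ _ ≠ 0
        rw [hφst, ← hst]
        exact hirr.ne_zero) a ha
      exact (Ideal.span_singleton_le_iff_mem _).2 hcu h1
    obtain ⟨𝔟, h𝔟⟩ : 𝔞 ∈ Set.range (Spec.map φ) := by
      have h1 := range_comap_of_surjective _ φ.hom hφ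
      change 𝔞 ∈ Set.range (PrimeSpectrum.comap φ.hom)
      rw [h1]
      exact hle
    refine ⟨pullback.fst i e (E.fromSpecStalk z 𝔟), ?_⟩
    rw [← h𝔟, ← Scheme.Hom.comp_apply, ← Scheme.Hom.comp_apply, pullback.condition,
      ← Scheme.Hom.comp_apply, ← Scheme.Hom.comp_apply, Scheme.SpecMap_stalkMap_fromSpecStalk_assoc]

end K851.Mark
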