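import Groth.Agent.SSMod.K851.NB

/-!
# The closure of the graph over a normal noetherian base
-/

set_option autoImplicit false
set_option linter.unusedSectionVars false
set_option linter.dupNamespace false
universe u

open CategoryTheory CategoryTheory.Limits AlgebraicGeometry TopologicalSpace IsLocalRing

namespace K851.NC

open K851.Fib K851.LemN K851.Et K851.Sep K851.Dat K851.DDef K851.Ext K851.NA K851.PQ K851.PR K851.NB

/-- Over a bad point the fibre is infinite. -/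
theorem infinite_of_bad {Γ' X : Scheme.{u}} (g : Γ' ⟶ X) [IsProper g] (x : X) (hx : x ∉ good g) :
    (g ⁻¹' {x}).Infinite := by
  intro hfin
  apply hx
  rw [mem_good]
  intro z hz
  subst hz
  have h5 : LocallyOfFiniteType (g.fiberToSpecResidueField (g z)) :=
    MorphismProperty.of_isPullback (P := @LocallyOfFiniteType) (IsPullback.of_hasPullback _ _) inferInstance
  have hfin' : (Set.univ : Set ↥(g.fiber (g z))).Finite := by
    have h6 : (Set.univ : Set ↥(g.fiber (g z))) ⊆ (g.fiberι (g z)) ⁻¹' (g ⁻¹' {g z}) := by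
      intro y _
      have h7 : (g.fiberι (g z)) y ∈ Set.range (g.fiberι (g z)) := ⟨y, rfl⟩
      rw [Scheme.Hom.range_fiberι] at h7
      exact h7
    exact (hfin.preimage (g.fiberι (g z)).injective.injOn).subset h6
  have h1 : LocallyQuasiFinite (g.fiberToSpecResidueField (g z)) :=
    LocallyQuasiFinite.of_finite_preimage_singleton _ fun y => hfin'.subset (Set.subset_univ _)
  rw [Scheme.Hom.quasiFiniteAt_iff_isOpen_singleton_asFiber]
  have h8 := (g.fiberToSpecResidueField (g z)).isDiscrete_preimage_singleton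
    (g.fiberToSpecResidueField (g z) (g.asFiber z))
  have h9 : (g.fiberToSpecResidueField (g z)) ⁻¹' {g.fiberToSpecResidueField (g z) (g.asFiber z)} =
      Set.univ := by
    ext y
    simp only [Set.mem_preimage, Set.mem_singleton_iff, Set.mem_univ, iff_true]
    exact Subsingleton.elim (α := PrimeSpectrum (X.residueField (g z))) _ _
  rw [h9] at h8
  have h10 : DiscreteTopology ↥(g.fiber (g z)) := isDiscrete_univ_iff.1 h8
  exact isOpen_discrete _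

variable {O : Type u} [CommRing O] (𝔑 : NN O)

/-- The generic part. -/
noncomputable abbrev XK : 𝔑.X.Opens := 𝔑.qX ⁻¹ᵁ Dπ 𝔑.b

theorem exists_hK : ∃ h : (XK 𝔑 : Scheme.{u}) ⟶ 𝔑.Y, h ≫ 𝔑.g = (XK 𝔑).ι ≫ 𝔑.f := by
  refine lift_exists 𝔑.g (𝔑.c ⁻¹ᵁ Dπ 𝔑.b) ((XK 𝔑).ι ≫ 𝔑.f) fun t => ?_
  have h1 : (XK 𝔑).ι t ∈ Set.range (XK 𝔑).ι := ⟨t, rfl⟩
  rw [Scheme.Opens.range_ι] at h1
  exact h1

/-- The map from the generic part to `Y`. -/
noncomputable def hK : (XK 𝔑 : Scheme.{u}) ⟶ 𝔑.Y := (exists_hK 𝔑).choose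

theorem hK_g : (XK 𝔑).ι ≫ 𝔑.f = hK 𝔑 ≫ 𝔑.g := (exists_hK 𝔑).choose_spec.symm

section Noeth

variable [IsNoetherianRing O]

theorem quasiCompact_D (π : O) : QuasiCompact (Dπ π).ι := by
  have h1 : NoetherianSpace ↥(Spec (CommRingCat.of O)) :=
    inferInstanceAs (NoetherianSpace (PrimeSpectrum O))
  have h2 : NoetherianSpace ↥((Dπ π : Scheme.{u})) :=
    (Dπ π).ι.isOpenEmbedding.isInducing.noetherianSpace
  exact quasiCompact_of_noetherianSpace_source _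

instance quasiCompact_XK : QuasiCompact (XK 𝔑).ι := by
  have h1 := quasiCompact_D 𝔑.b
  exact MorphismProperty.of_isPullback (P := @QuasiCompact)
    (isPullback_morphismRestrict 𝔑.qX (Dπ 𝔑.b)) h1

/-- The closure of the graph. -/
noncomputable abbrev GN : Scheme.{u} := Gm (XK 𝔑).ι 𝔑.f 𝔑.g (hK 𝔑) (hK_g 𝔑)

noncomputable abbrev pN : GN 𝔑 ⟶ 𝔑.X := pX (XK 𝔑).ι 𝔑.f 𝔑.g (hK 𝔑) (hK_g 𝔑)
noncomputable abbrev pNY : GN 𝔑 ⟶ 𝔑.Y := pY (XK 𝔑).ι 𝔑.f 𝔑.g (hK 𝔑) (hK_g 𝔑)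

/-- The locus where the rational map to `Y` is (going to be) defined. -/
noncomputable abbrev gN : 𝔑.X.Opens := good (pN 𝔑)

theorem XK_le_gN : XK 𝔑 ≤ gN 𝔑 := by
  have := opensRange_le_good (XK 𝔑).ι 𝔑.f 𝔑.g (hK 𝔑) (hK_g 𝔑)
  rwa [Scheme.Opens.opensRange_ι] at this

instance isIso_pN : IsIso (pN 𝔑 ∣_ (𝔑.qX ⁻¹ᵁ Dπ 𝔑.b)) := by
  have := isIso_over (XK 𝔑).ι 𝔑.f 𝔑.g (hK 𝔑) (hK_g 𝔑)
  rwa [Scheme.Opens.opensRange_ι] at this

/-- Regularity on the closure. -/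
theorem reg_of_dominant2 {π : O} {U Γ' : Scheme.{u}} (q : Γ' ⟶ Spec (CommRingCat.of O)) (s : U ⟶ Γ')
    [IsSchemeTheoreticallyDominant s] [QuasiCompact s]
    (h : ∀ (x : U) (a : U.presheaf.stalk x), st (s ≫ q) x π * a = 0 → a = 0) (z : Γ')
    (a : Γ'.presheaf.stalk z) (ha : st q z π * a = 0) : a = 0 := by
  obtain ⟨W, hzW, b, rfl⟩ := Γ'.presheaf.exists_germ_eq a
  rw [← germ_sc q W z hzW, ← map_mul, ← map_zero (Γ'.presheaf.germ W z hzW).hom] at ha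
  obtain ⟨W', hzW', i1, i2, hW'⟩ := TopCat.Presheaf.germ_eq (C := CommRingCat) Γ'.presheaf z hzW hzW _ _ ha
  have h1 : Γ'.presheaf.map i1.op b = 0 := by
    have hinj := s.app_injective W'
    apply hinj
    rw [map_zero]
    refine TopCat.Presheaf.section_ext U.sheaf (s ⁻¹ᵁ W') _ _ fun x hx => ?_
    have hx' : s x ∈ W' := hx
    have h2 : U.presheaf.germ (s ⁻¹ᵁ W') x hx (s.app W' (Γ'.presheaf.map i1.op b)) =
        s.stalkMap x (Γ'.presheaf.germ W (s x) (i1.le hx') b) := by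
      have e1 := Scheme.Hom.germ_stalkMap_apply s W' x hx' (Γ'.presheaf.map i1.op b)
      have e2 : Γ'.presheaf.germ W' (s x) hx' (Γ'.presheaf.map i1.op b) =
          Γ'.presheaf.germ W (s x) (i1.le hx') b := Γ'.presheaf.germ_res_apply i1 (s x) hx' b
      rw [← e2]
      exact e1.symm
    have h3 : st (s ≫ q) x π * s.stalkMap x (Γ'.presheaf.germ W (s x) (i1.le hx') b) = 0 := by
      rw [st_comp, ← map_mul, ← germ_sc q W (s x) (i1.le hx'), ← map_mul]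
      have e2 : Γ'.presheaf.germ W' (s x) hx' (Γ'.presheaf.map i1.op (sc q W π * b)) =
          Γ'.presheaf.germ W (s x) (i1.le hx') (sc q W π * b) :=
        Γ'.presheaf.germ_res_apply i1 (s x) hx' _
      rw [← e2]
      have e3 : Γ'.presheaf.map i1.op (sc q W π * b) = 0 := hW'.trans (map_zero _)
      rw [e3, map_zero, map_zero]
    change U.presheaf.germ (s ⁻¹ᵁ W') x hx _ = U.presheaf.germ (s ⁻¹ᵁ W') x hx _
    rw [h2, map_zero]
    exact h x _ h3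
  rw [← TopCat.Presheaf.germ_res_apply Γ'.presheaf i1 z hzW' b, h1, map_zero]

theorem reg_GN [IsDomain O] {r : O} (hr : r ≠ 0) (z : GN 𝔑) (a : (GN 𝔑).presheaf.stalk z)
    (ha : st (pN 𝔑 ≫ 𝔑.qX) z r * a = 0) : a = 0 := by
  refine reg_of_dominant2 (pN 𝔑 ≫ 𝔑.qX) (sec (XK 𝔑).ι 𝔑.f 𝔑.g (hK 𝔑) (hK_g 𝔑)) ?_ z a ha
  intro x a ha
  have h1 : sec (XK 𝔑).ι 𝔑.f 𝔑.g (hK 𝔑) (hK_g 𝔑) ≫ pN 𝔑 ≫ 𝔑.qX = (XK 𝔑).ι ≫ 𝔑.qX := by
    rw [sec_pX_assoc]
  rw [h1] at ha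
  exact eq_zero_of_st_mul ((XK 𝔑).ι ≫ 𝔑.qX) x hr a ha

instance : IsLocallyNoetherian 𝔑.X := by
  have h1 : IsLocallyNoetherian (Spec (CommRingCat.of O)) := inferInstance
  exact LocallyOfFiniteType.isLocallyNoetherian 𝔑.qX

instance : IsLocallyNoetherian (GN 𝔑) := LocallyOfFiniteType.isLocallyNoetherian (pN 𝔑)

/-- Discrete valuation rings centered at points of the closure of the graph. -/
theorem exists_dvr_at [IsDomain O] (z : GN 𝔑) (hz : 𝔑.qX (pN 𝔑 z) ∉ Dπ 𝔑.b) :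
    ∃ (A : Type u) (_ : CommRing A) (_ : IsDomain A) (_ : IsDiscreteValuationRing A)
      (a : Spec (CommRingCat.of A) ⟶ GN 𝔑), a (cp (CommRingCat.of A)) = z ∧
        Function.Injective (ro (a ≫ pN 𝔑 ≫ 𝔑.qX)) := by
  let B := (GN 𝔑).presheaf.stalk z
  obtain ⟨p, hp, -⟩ := Ideal.exists_minimalPrimes_le (I := (⊥ : Ideal B)) (J := maximalIdeal B) bot_le
  have hpp : p.IsPrime := hp.1.1
  have hb : ∀ r : O, r ≠ 0 → st (pN 𝔑 ≫ 𝔑.qX) z r ∈ nonZeroDivisors B := by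
    intro r hr
    rw [mem_nonZeroDivisors_iff_right]
    intro y hy
    exact reg_GN 𝔑 hr z y (by rw [mul_comm]; exact hy)
  have hbp : ∀ r : O, r ≠ 0 → st (pN 𝔑 ≫ 𝔑.qX) z r ∉ p := fun r hr hcon =>
    Set.disjoint_left.1 (Ideal.disjoint_nonZeroDivisors_of_mem_minimalPrimes hp) hcon (hb r hr)
  let s₀ : Spec B := (⟨p, hpp⟩ : PrimeSpectrum B)
  let ζ : GN 𝔑 := (GN 𝔑).fromSpecStalk z s₀
  have hζz : ζ ⤳ z := by
    have h1 : s₀ ⤳ cp B := specializes_closedPoint s₀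
    have h2 := h1.map ((GN 𝔑).fromSpecStalk z).continuous
    rwa [fromSpecStalk_cp] at h2
  have hζ : ∀ r : O, r ≠ 0 → (pN 𝔑 ≫ 𝔑.qX) ζ ∈ Dπ r := by
    intro r hr hcon
    apply hbp r hr
    rw [← ro_stalk (pN 𝔑 ≫ 𝔑.qX) z r]
    change r ∈ ((pN 𝔑 ≫ 𝔑.qX) ((GN 𝔑).fromSpecStalk z s₀) : PrimeSpectrum O).asIdeal at hcon
    rw [← Scheme.Hom.comp_apply, ← map_ro ((GN 𝔑).fromSpecStalk z ≫ pN 𝔑 ≫ 𝔑.qX)] at hcon
    exact hcon
  have hne : ζ ≠ z := by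
    intro h
    apply hz
    have hζb := hζ _ 𝔑.hb
    rw [h, Scheme.Hom.comp_apply] at hζb
    exact hζb
  obtain ⟨A, i1, i2, i3, i4, i5, a, ha1, ha2⟩ :=
    Groth.Agent.Ega43.DvrScheme.exists_dvr_of_specializes_of_locallyOfFiniteType (𝟙 (GN 𝔑)) ζ (y := z)
      hζz hne
  refine ⟨A, i1, i2, i3, a, ha1, ?_⟩
  rw [injective_iff_map_eq_zero]
  intro r h0
  by_contra hr
  obtain ⟨t, ht⟩ : ζ ∈ Set.range ((GN 𝔑).fromSpecResidueField ζ) := by
    rw [Scheme.range_fromSpecResidueField]; rfl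
  have h3 : a (Spec.map (CommRingCat.ofHom (algebraMap A ((GN 𝔑).residueField ζ))) t) = ζ := by
    rw [← Scheme.Hom.comp_apply, ha2, Category.comp_id]
    exact ht
  have h4 : r ∈ ((a ≫ pN 𝔑 ≫ 𝔑.qX)
      (Spec.map (CommRingCat.ofHom (algebraMap A ((GN 𝔑).residueField ζ))) t) : PrimeSpectrum O).asIdeal := by
    rw [← map_ro (a ≫ pN 𝔑 ≫ 𝔑.qX)]
    have h5 : ro (a ≫ pN 𝔑 ≫ 𝔑.qX) r ∈
        (Spec.map (CommRingCat.ofHom (algebraMap A ((GN 𝔑).residueField ζ))) t : PrimeSpectrum A).asIdeal := by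
      rw [h0]
      exact Ideal.zero_mem _
    exact h5
  rw [Scheme.Hom.comp_apply, h3] at h4
  exact hζ r hr h4

end Noeth

end K851.NC
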