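import Groth.Agent.SSMod.K851.NC

/-!
# Lifting base changes of `X` to the closure of the graph
-/

set_option autoImplicit false
set_option linter.unusedSectionVars false
set_option linter.dupNamespace false
universe u

open CategoryTheory CategoryTheory.Limits AlgebraicGeometry TopologicalSpace IsLocalRing

namespace K851.ND

open K851.Fib K851.LemN K851.Et K851.Sep K851.Dat K851.DDef K851.Ext K851.NA K851.PQ K851.PR K851.NB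
  K851.NC

variable {O : Type u} [CommRing O] [IsNoetherianRing O] (𝔑 : NN O)

theorem mem_of_ι {X : Scheme.{u}} (U : X.Opens) (t : (U : Scheme.{u})) : U.ι t ∈ U := by
  have h : U.ι t ∈ Set.range U.ι := ⟨t, rfl⟩
  rwa [Scheme.Opens.range_ι] at h

section

variable {V : Type u} [CommRing V] [IsDomain V] [IsDiscreteValuationRing V] {π : V}
  (hπ : Irreducible π) (φ : O →+* V) (hφ : Function.Injective φ)

/-- An extension over a discrete valuation ring lifts to the closure of the graph. -/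
theorem exists_gamma (h : (toDD 𝔑 hπ φ hφ).X ⟶ (toDD 𝔑 hπ φ hφ).Y)
    (hh : h ≫ (toDD 𝔑 hπ φ hφ).g = (toDD 𝔑 hπ φ hφ).f) :
    ∃ γ : pullback (𝔑.f ≫ 𝔑.c) (Spec.map (CommRingCat.ofHom φ)) ⟶ GN 𝔑,
      γ ≫ pN 𝔑 = pullback.fst _ _ := by
  let σ := Spec.map (CommRingCat.ofHom φ)
  let XV := pullback (𝔑.f ≫ 𝔑.c) σ
  let YV := pullback (𝔑.g ≫ 𝔑.c) σ
  let h' : XV ⟶ YV := h
  have hh' : h' ≫ CInt.baseChangeOver 𝔑.g 𝔑.c σ = CInt.baseChangeOver 𝔑.f 𝔑.c σ := hh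
  let fX : XV ⟶ 𝔑.X := pullback.fst _ _
  let fY : YV ⟶ 𝔑.Y := pullback.fst _ _
  have h1 : h' ≫ fY ≫ 𝔑.g = fX ≫ 𝔑.f := by
    have e1 : CInt.baseChangeOver 𝔑.g 𝔑.c σ ≫ pullback.fst 𝔑.c σ = fY ≫ 𝔑.g := bco_fst _ _ _
    have e2 : CInt.baseChangeOver 𝔑.f 𝔑.c σ ≫ pullback.fst 𝔑.c σ = fX ≫ 𝔑.f := bco_fst _ _ _
    rw [← e1, ← e2, ← Category.assoc, hh']
  let a : XV ⟶ pullback 𝔑.f 𝔑.g := pullback.lift fX (h' ≫ fY) (by rw [Category.assoc, h1])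
  have ha1 : a ≫ pullback.fst 𝔑.f 𝔑.g = fX := pullback.lift_fst _ _ _
  have ha2 : a ≫ pullback.snd 𝔑.f 𝔑.g = h' ≫ fY := pullback.lift_snd _ _ _
  let qV : XV ⟶ Spec (CommRingCat.of V) := pullback.snd _ _
  let U : XV.Opens := qV ⁻¹ᵁ Dπ π
  have hfl : Flat qV := inferInstanceAs (Flat (pullback.snd 𝔑.qX σ))
  have hdom : IsSchemeTheoreticallyDominant U.ι := by
    have h1 : IsSchemeTheoreticallyDominant (Dπ π).ι := K851.Tx.dominant_D hπ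
    have h2 := K851.Tx.quasiCompact_D π
    exact IsSchemeTheoreticallyDominant.of_isPullback (isPullback_morphismRestrict qV (Dπ π))
  have hmem : ∀ t : (U : Scheme.{u}), fX (U.ι t) ∈ XK 𝔑 := by
    intro t
    have h2 : U.ι t ∈ U := mem_of_ι U t
    have h3 : (fX ≫ 𝔑.qX) (U.ι t) ∈ Dπ 𝔑.b := by
      have e : fX ≫ 𝔑.qX = qV ≫ σ := pullback.condition
      rw [e, Scheme.Hom.comp_apply]
      exact mem_of_ne 𝔑 hπ φ hφ _ h2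
    rw [Scheme.Hom.comp_apply] at h3
    exact h3
  let l : (U : Scheme.{u}) ⟶ (XK 𝔑 : Scheme.{u}) := IsOpenImmersion.lift (XK 𝔑).ι (U.ι ≫ fX) (by
    rw [Scheme.Opens.range_ι]
    rintro _ ⟨t, rfl⟩
    rw [Scheme.Hom.comp_apply]
    exact hmem t)
  have hl : l ≫ (XK 𝔑).ι = U.ι ≫ fX := IsOpenImmersion.lift_fac _ _ _
  have hkey : (l ≫ sec (XK 𝔑).ι 𝔑.f 𝔑.g (hK 𝔑) (hK_g 𝔑)) ≫
      (gr (XK 𝔑).ι 𝔑.f 𝔑.g (hK 𝔑) (hK_g 𝔑)).imageι = U.ι ≫ a := by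
    apply pullback.hom_ext
    · have e1 : (l ≫ sec (XK 𝔑).ι 𝔑.f 𝔑.g (hK 𝔑) (hK_g 𝔑)) ≫ pN 𝔑 = U.ι ≫ fX := by
        rw [Category.assoc, sec_pX, hl]
      rw [Category.assoc _ a, ha1, ← e1, Category.assoc]
      rfl
    · have e1 : (l ≫ sec (XK 𝔑).ι 𝔑.f 𝔑.g (hK 𝔑) (hK_g 𝔑)) ≫ pNY 𝔑 = l ≫ hK 𝔑 := by
        rw [Category.assoc, sec_pY]
      have e2 : l ≫ hK 𝔑 = U.ι ≫ h' ≫ fY := by
        refine lift_unique 𝔑.g (𝔑.c ⁻¹ᵁ Dπ 𝔑.b) _ _ ?_ fun s => ?_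
        · rw [Category.assoc, ← hK_g, reassoc_of% hl, Category.assoc, Category.assoc, h1]
        · have e3 : 𝔑.g ((l ≫ hK 𝔑) s) = 𝔑.f (fX (U.ι s)) := by
            rw [← Scheme.Hom.comp_apply, Category.assoc, ← hK_g, reassoc_of% hl, Scheme.Hom.comp_apply,
              Scheme.Hom.comp_apply]
          rw [e3]
          exact hmem s
      rw [Category.assoc _ a, ha2, ← e2, ← e1, Category.assoc]
      rfl
  obtain ⟨γ, hγ⟩ := factor U.ι (gr (XK 𝔑).ι 𝔑.f 𝔑.g (hK 𝔑) (hK_g 𝔑)).imageι a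
    (l ≫ sec (XK 𝔑).ι 𝔑.f 𝔑.g (hK 𝔑) (hK_g 𝔑)) hkey
  refine ⟨γ, ?_⟩
  have e1 : γ ≫ pN 𝔑 = (γ ≫ (gr (XK 𝔑).ι 𝔑.f 𝔑.g (hK 𝔑) (hK_g 𝔑)).imageι) ≫ pullback.fst 𝔑.f 𝔑.g := by
    rw [Category.assoc]; rfl
  rw [e1, hγ, ha1]

end

/-- Sections of the closure of the graph. -/
theorem gamma_eq {V : Type u} [CommRing V] [IsDomain V] {T : Scheme.{u}} (γ : T ⟶ GN 𝔑) (fX : T ⟶ 𝔑.X)
    (hγ : γ ≫ pN 𝔑 = fX) (α : Spec (CommRingCat.of V) ⟶ GN 𝔑) (hα : ro (α ≫ pN 𝔑 ≫ 𝔑.qX) 𝔑.b ≠ 0)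
    (s : Spec (CommRingCat.of V) ⟶ T) (hs : s ≫ fX = α ≫ pN 𝔑) : s ≫ γ = α := by
  refine (uniq' (π := 𝔑.b) 𝔑.qX (pN 𝔑) α (s ≫ γ) ?_ ?_).symm
  · rw [Category.assoc, hγ, hs]
  · intro x hx
    exact (mul_eq_zero.1 hx).resolve_left hα

/-- Transport of the absence of exceptional components in the geometric fibre at `τ`. -/
theorem NoExcAt.congr {Ω : Type u} [Field Ω] {τ τ' : Spec (CommRingCat.of Ω) ⟶ Spec (CommRingCat.of O)}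
    (h : τ = τ') (hn : NoExcAt 𝔑 Ω τ) : NoExcAt 𝔑 Ω τ' := by
  subst h; exact hn

/-- The main step: over a geometric point, `X` lifts to the closure of the graph through a given point. -/
theorem exists_gammaΩ {S' : Scheme.{u}} (ρ' : S' ⟶ Spec (CommRingCat.of O))
    (H : ∀ (Ω : Type u) [Field Ω] [IsAlgClosed Ω] (v' : Spec (CommRingCat.of Ω) ⟶ S'),
      NoExcAt 𝔑 Ω (v' ≫ ρ'))
    (A : Type u) [CommRing A] [IsDomain A] [IsDiscreteValuationRing A]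
    (a : Spec (CommRingCat.of A) ⟶ GN 𝔑) (hA : Function.Injective (ro (a ≫ pN 𝔑 ≫ 𝔑.qX)))
    (Ω : Type u) [Field Ω] [IsAlgClosed Ω] (ρ : ResidueField A →+* Ω)
    (ω' : Spec (CommRingCat.of Ω) ⟶ S')
    (hω : ω' ≫ ρ' = Spec.map (CommRingCat.ofHom ρ) ≫ sp A ≫ a ≫ pN 𝔑 ≫ 𝔑.qX)
    (x : Spec (CommRingCat.of Ω) ⟶ pullback 𝔑.qX (ω' ≫ ρ'))
    (hx1 : x ≫ pullback.fst _ _ = Spec.map (CommRingCat.ofHom ρ) ≫ sp A ≫ a ≫ pN 𝔑)
    (hx2 : x ≫ pullback.snd _ _ = 𝟙 _) :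
    ∃ γ : pullback 𝔑.qX (ω' ≫ ρ') ⟶ GN 𝔑, γ ≫ pN 𝔑 = pullback.fst _ _ ∧
      x ≫ γ = Spec.map (CommRingCat.ofHom ρ) ≫ sp A ≫ a := by
  obtain ⟨V, i1, i2, i3, φ, e, i4, i5, hφ, he⟩ := exists_complete A Ω ρ
  obtain ⟨π, hπ⟩ := IsDiscreteValuationRing.exists_irreducible V
  let α : Spec (CommRingCat.of V) ⟶ GN 𝔑 := Spec.map (CommRingCat.ofHom φ) ≫ a
  let ψ : O →+* V := φ.comp (ro (a ≫ pN 𝔑 ≫ 𝔑.qX))
  have hψ : Spec.map (CommRingCat.ofHom ψ) = α ≫ pN 𝔑 ≫ 𝔑.qX := by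
    have h1 : CommRingCat.ofHom ψ = CommRingCat.ofHom (ro (a ≫ pN 𝔑 ≫ 𝔑.qX)) ≫ CommRingCat.ofHom φ := rfl
    rw [h1, Spec.map_comp, map_ro, Category.assoc]
  have hψb : Function.Injective ψ := hφ.comp hA
  let β : Spec (CommRingCat.of Ω) ⟶ Spec (CommRingCat.of V) :=
    Spec.map (CommRingCat.ofHom (e : ResidueField V →+* Ω)) ≫ sp V
  have hβ1 : β ≫ Spec.map (CommRingCat.ofHom φ) = Spec.map (CommRingCat.ofHom ρ) ≫ sp A := by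
    rw [Category.assoc, ← Spec.map_comp, ← Spec.map_comp, ← Spec.map_comp]
    congr 1
    ext r
    exact he r
  have hβα : β ≫ α = Spec.map (CommRingCat.ofHom ρ) ≫ sp A ≫ a := by
    have h1 : β ≫ α = (β ≫ Spec.map (CommRingCat.ofHom φ)) ≫ a := (Category.assoc _ _ _).symm
    rw [h1, hβ1, Category.assoc]
  have hβ2 : β ≫ Spec.map (CommRingCat.ofHom ψ) = ω' ≫ ρ' := by
    have h1 : β ≫ α ≫ pN 𝔑 ≫ 𝔑.qX = (β ≫ α) ≫ pN 𝔑 ≫ 𝔑.qX := (Category.assoc _ _ _).symm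
    rw [hψ, hω, h1, hβα, Category.assoc, Category.assoc]
  have hno : NoExc (toDD 𝔑 hπ ψ hψb) := by
    apply noExc_toDD 𝔑 hπ ψ hψb
    have h1 := H (ResidueField V) (Spec.map (CommRingCat.ofHom (e.symm : Ω →+* ResidueField V)) ≫ ω')
    refine NoExcAt.congr 𝔑 ?_ h1
    rw [Category.assoc, ← hβ2, Category.assoc, ← Category.assoc, ← Spec.map_comp]
    have h2 : CommRingCat.ofHom (e : ResidueField V →+* Ω) ≫
        CommRingCat.ofHom (e.symm : Ω →+* ResidueField V) = 𝟙 _ := by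
      ext r
      exact e.symm_apply_apply r
    rw [h2, Spec.map_id, Category.id_comp]
  obtain ⟨h, hh⟩ := K851.DV.dvr_main (toDD 𝔑 hπ ψ hψb) hno
  obtain ⟨γ, hγ⟩ := exists_gamma 𝔑 hπ ψ hψb h hh
  let m : pullback 𝔑.qX (ω' ≫ ρ') ⟶ pullback 𝔑.qX (Spec.map (CommRingCat.ofHom ψ)) :=
    pullback.lift (pullback.fst _ _) (pullback.snd _ _ ≫ β) (by
      rw [Category.assoc, hβ2, pullback.condition])
  have hm1 : m ≫ pullback.fst _ _ = pullback.fst _ _ := pullback.lift_fst _ _ _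
  have hm2 : m ≫ pullback.snd _ _ = pullback.snd _ _ ≫ β := pullback.lift_snd _ _ _
  let s : Spec (CommRingCat.of V) ⟶ pullback 𝔑.qX (Spec.map (CommRingCat.ofHom ψ)) :=
    pullback.lift (α ≫ pN 𝔑) (𝟙 _) (by rw [Category.id_comp, hψ, Category.assoc])
  have hs1 : s ≫ pullback.fst _ _ = α ≫ pN 𝔑 := pullback.lift_fst _ _ _
  have hs2 : s ≫ pullback.snd _ _ = 𝟙 _ := pullback.lift_snd _ _ _
  have hsγ : s ≫ γ = α := by
    refine gamma_eq 𝔑 γ _ hγ α ?_ s hs1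
    have h1 : ro (α ≫ pN 𝔑 ≫ 𝔑.qX) 𝔑.b = ψ 𝔑.b := by
      rw [← hψ, ro_map]; rfl
    rw [h1]; exact map_b_ne 𝔑 ψ hψb
  refine ⟨m ≫ γ, ?_, ?_⟩
  · rw [Category.assoc, hγ]; exact hm1
  · have h3 : x ≫ m = β ≫ s := by
      apply pullback.hom_ext
      · have e1 : β ≫ α ≫ pN 𝔑 = (β ≫ α) ≫ pN 𝔑 := (Category.assoc _ _ _).symm
        rw [Category.assoc, hm1, Category.assoc, hs1, hx1, e1, hβα, Category.assoc, Category.assoc]
      · rw [Category.assoc, hm2, reassoc_of% hx2, Category.assoc, hs2, Category.comp_id]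
    rw [← Category.assoc, h3, Category.assoc, hsγ, hβα]

end K851.ND
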