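import Groth.Agent.SSMod.K851.ND

/-!
# The bad locus is open and closed in fibres
-/

set_option autoImplicit false
set_option linter.unusedSectionVars false
set_option linter.dupNamespace false
universe u

open CategoryTheory CategoryTheory.Limits AlgebraicGeometry TopologicalSpace IsLocalRing

namespace K851.NE

open K851.Fib K851.LemN K851.Et K851.Sep K851.Dat K851.DDef K851.Ext K851.NA K851.PQ K851.PR K851.NB
  K851.NC K851.ND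

variable {O : Type u} [CommRing O] [IsNoetherianRing O] (𝔑 : NN O)

theorem dominant_D [IsDomain O] {b : O} (hb : b ≠ 0) : IsSchemeTheoreticallyDominant (Dπ b).ι := by
  have h1 : IsDominant (Dπ b).ι := by
    rw [isDominant_iff, DenseRange, Scheme.Opens.range_ι]
    refine (Dπ b).2.dense ⟨(⊥ : PrimeSpectrum O), ?_⟩
    exact hb
  have h3 := quasiCompact_D b
  exact IsSchemeTheoreticallyDominant.of_isDominant _

instance dominant_XK [IsDomain O] : IsSchemeTheoreticallyDominant (XK 𝔑).ι := by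
  have h1 : IsSchemeTheoreticallyDominant (Dπ 𝔑.b).ι := dominant_D 𝔑.hb
  have h2 := quasiCompact_D 𝔑.b
  exact IsSchemeTheoreticallyDominant.of_isPullback (isPullback_morphismRestrict 𝔑.qX (Dπ 𝔑.b))

theorem ic [IsDomain O] [IsIntegrallyClosed O] : IC (XK 𝔑).ι :=
  K851.Int.IC_of_flat 𝔑.qX 𝔑.b 𝔑.hb (XK 𝔑).ι (Scheme.Opens.opensRange_ι _)
    fun y => K851.Comp.isReduced_fiber 𝔑.qX 𝔑.nX y

theorem isIso_gN [IsDomain O] [IsIntegrallyClosed O] : IsIso (pN 𝔑 ∣_ gN 𝔑) := by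
  have h1 : IsSchemeTheoreticallyDominant (sec (XK 𝔑).ι 𝔑.f 𝔑.g (hK 𝔑) (hK_g 𝔑) ≫ pN 𝔑) := by
    rw [sec_pX]; infer_instance
  have h2 : IC (sec (XK 𝔑).ι 𝔑.f 𝔑.g (hK 𝔑) (hK_g 𝔑) ≫ pN 𝔑) := by rw [sec_pX]; exact ic 𝔑
  exact isIso_restrict_good (sec (XK 𝔑).ι 𝔑.f 𝔑.g (hK 𝔑) (hK_g 𝔑)) (pN 𝔑) h2

/-- A non-empty fibre product of points. -/
theorem exists_common {S' X S : Scheme.{u}} {K₁ K₂ : Type u} [Field K₁] [Field K₂]
    (r₁ : Spec (CommRingCat.of K₁) ⟶ X) (r₂ : Spec (CommRingCat.of K₂) ⟶ X) (q : X ⟶ S) (ρ : S' ⟶ S) (x : X)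
    (h₁ : ∀ t, r₁ t = x) (h₂ : ∀ t, r₂ t = x) (hx : q x ∈ Set.range ρ) :
    ∃ (Ω : Type u) (_ : Field Ω) (_ : IsAlgClosed Ω) (u₁ : K₁ →+* Ω) (u₂ : K₂ →+* Ω)
      (ω : Spec (CommRingCat.of Ω) ⟶ S'),
      Spec.map (CommRingCat.ofHom u₁) ≫ r₁ = Spec.map (CommRingCat.ofHom u₂) ≫ r₂ ∧
        ω ≫ ρ = Spec.map (CommRingCat.ofHom u₁) ≫ r₁ ≫ q := by
  obtain ⟨s', hs'⟩ := hx
  obtain ⟨p₁, hp1, hp2⟩ := Scheme.Pullback.exists_preimage_pullback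
    ((⊥ : PrimeSpectrum K₁) : Spec (CommRingCat.of K₁)) ((⊥ : PrimeSpectrum K₂) : Spec (CommRingCat.of K₂))
    (f := r₁) (g := r₂) ((h₁ _).trans (h₂ _).symm)
  obtain ⟨p₂, hp3, hp4⟩ := Scheme.Pullback.exists_preimage_pullback p₁ s'
    (f := pullback.fst r₁ r₂ ≫ r₁ ≫ q) (g := ρ) (by
      rw [Scheme.Hom.comp_apply, Scheme.Hom.comp_apply, h₁, hs'])
  let P := pullback (pullback.fst r₁ r₂ ≫ r₁ ≫ q) ρ
  let Ω := AlgebraicClosure (P.residueField p₂)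
  let ω₀ : Spec (CommRingCat.of Ω) ⟶ P :=
    Spec.map (CommRingCat.ofHom (algebraMap (P.residueField p₂) Ω)) ≫ P.fromSpecResidueField p₂
  refine ⟨Ω, inferInstance, inferInstance,
    (Spec.preimage (ω₀ ≫ pullback.fst _ _ ≫ pullback.fst r₁ r₂)).hom,
    (Spec.preimage (ω₀ ≫ pullback.fst _ _ ≫ pullback.snd r₁ r₂)).hom, ω₀ ≫ pullback.snd _ _, ?_, ?_⟩
  · rw [CommRingCat.ofHom_hom, CommRingCat.ofHom_hom, Spec.map_preimage, Spec.map_preimage]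
    simp only [Category.assoc]
    rw [pullback.condition]
  · rw [CommRingCat.ofHom_hom, Spec.map_preimage, Category.assoc, ← pullback.condition]
    simp only [Category.assoc]

/-- Near a bad point everything is bad, in a geometric fibre. -/
theorem exists_W [IsDomain O] [IsIntegrallyClosed O] {S' : Scheme.{u}}
    (ρ' : S' ⟶ Spec (CommRingCat.of O))
    (H : ∀ (Ω : Type u) [Field Ω] [IsAlgClosed Ω] (v' : Spec (CommRingCat.of Ω) ⟶ S'),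
      NoExcAt 𝔑 Ω (v' ≫ ρ')) (x : 𝔑.X) (hx : x ∉ gN 𝔑) (hs : 𝔑.qX x ∈ Set.range ρ') :
    ∃ (Ω : Type u) (_ : Field Ω) (τ : Spec (CommRingCat.of Ω) ⟶ Spec (CommRingCat.of O))
      (W : (pullback 𝔑.qX τ).Opens) (w : ↥(pullback 𝔑.qX τ)), w ∈ W ∧ pullback.fst 𝔑.qX τ w = x ∧
        ∀ w' ∈ W, pullback.fst 𝔑.qX τ w' ∉ gN 𝔑 := by
  obtain ⟨z₁, hz₁, z₂, hz₂, hne⟩ := (infinite_of_bad (pN 𝔑) x hx).nontrivial
  have hz₁' : pN 𝔑 z₁ = x := hz₁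
  have hz₂' : pN 𝔑 z₂ = x := hz₂
  have hb : 𝔑.qX x ∉ Dπ 𝔑.b := fun h => hx (XK_le_gN 𝔑 h)
  obtain ⟨A₁, i1, i2, i3, a₁, ha₁, hb₁⟩ := exists_dvr_at 𝔑 z₁ (by rw [hz₁']; exact hb)
  obtain ⟨A₂, j1, j2, j3, a₂, ha₂, hb₂⟩ := exists_dvr_at 𝔑 z₂ (by rw [hz₂']; exact hb)
  obtain ⟨Ω, k1, k2, u₁, u₂, ω, hu, hω⟩ := exists_common (sp A₁ ≫ a₁ ≫ pN 𝔑) (sp A₂ ≫ a₂ ≫ pN 𝔑) 𝔑.qX ρ' x
    (fun t => by
      rw [Scheme.Hom.comp_apply, Scheme.Hom.comp_apply, map_residue (CommRingCat.of A₁) t, ha₁, hz₁'])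
    (fun t => by
      rw [Scheme.Hom.comp_apply, Scheme.Hom.comp_apply, map_residue (CommRingCat.of A₂) t, ha₂, hz₂']) hs
  let xt : Spec (CommRingCat.of Ω) ⟶ pullback 𝔑.qX (ω ≫ ρ') :=
    pullback.lift (Spec.map (CommRingCat.ofHom u₁) ≫ sp A₁ ≫ a₁ ≫ pN 𝔑) (𝟙 _) (by
      rw [Category.id_comp, hω]; simp only [Category.assoc])
  have hx1 : xt ≫ pullback.fst _ _ = Spec.map (CommRingCat.ofHom u₁) ≫ sp A₁ ≫ a₁ ≫ pN 𝔑 :=
    pullback.lift_fst _ _ _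
  have hx2 : xt ≫ pullback.snd _ _ = 𝟙 _ := pullback.lift_snd _ _ _
  obtain ⟨γ₁, hγ₁, hxγ₁⟩ := exists_gammaΩ 𝔑 ρ' H A₁ a₁ hb₁ Ω u₁ ω
    (by rw [hω]; simp only [Category.assoc]) xt hx1 hx2
  obtain ⟨γ₂, hγ₂, hxγ₂⟩ := exists_gammaΩ 𝔑 ρ' H A₂ a₂ hb₂ Ω u₂ ω
    (by
      have e1 := congrArg (· ≫ 𝔑.qX) hu
      simp only [Category.assoc] at e1 hω ⊢
      rw [hω, e1]) xt (by rw [hx1, hu]) hx2
  let m : pullback 𝔑.qX (ω ≫ ρ') ⟶ pullback (pN 𝔑) (pN 𝔑) := pullback.lift γ₁ γ₂ (by rw [hγ₁, hγ₂])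
  have hm1 : m ≫ pullback.fst _ _ = γ₁ := pullback.lift_fst _ _ _
  have hm2 : m ≫ pullback.snd _ _ = γ₂ := pullback.lift_snd _ _ _
  have hcl : IsClosed (Set.range (pullback.diagonal (pN 𝔑))) :=
    (pullback.diagonal (pN 𝔑)).isClosedEmbedding.isClosed_range
  let t₀ : Spec (CommRingCat.of Ω) := (⊥ : PrimeSpectrum Ω)
  refine ⟨Ω, k1, ω ≫ ρ', m ⁻¹ᵁ ⟨(Set.range (pullback.diagonal (pN 𝔑)))ᶜ, hcl.isOpen_compl⟩, xt t₀, ?_, ?_, ?_⟩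
  · rintro ⟨y, hy⟩
    apply hne
    have e1 : z₁ = γ₁ (xt t₀) := by
      rw [← Scheme.Hom.comp_apply, hxγ₁, Scheme.Hom.comp_apply, Scheme.Hom.comp_apply,
        map_residue (CommRingCat.of A₁), ha₁]
    have e2 : z₂ = γ₂ (xt t₀) := by
      rw [← Scheme.Hom.comp_apply, hxγ₂, Scheme.Hom.comp_apply, Scheme.Hom.comp_apply,
        map_residue (CommRingCat.of A₂), ha₂]
    have e3 : γ₁ (xt t₀) = y := by
      rw [← hm1, Scheme.Hom.comp_apply, ← hy, ← Scheme.Hom.comp_apply, pullback.diagonal_fst]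
      rfl
    have e4 : γ₂ (xt t₀) = y := by
      rw [← hm2, Scheme.Hom.comp_apply, ← hy, ← Scheme.Hom.comp_apply, pullback.diagonal_snd]
      rfl
    rw [e1, e2, e3, e4]
  · rw [← Scheme.Hom.comp_apply, hx1, Scheme.Hom.comp_apply, Scheme.Hom.comp_apply, Scheme.Hom.comp_apply,
      map_residue (CommRingCat.of A₁), ha₁, hz₁']
  · intro w' hw' hg
    apply hw'
    let U : (pullback 𝔑.qX (ω ≫ ρ')).Opens := pullback.fst 𝔑.qX (ω ≫ ρ') ⁻¹ᵁ gN 𝔑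
    have hiso := isIso_gN 𝔑
    have e1 : U.ι ≫ γ₁ = U.ι ≫ γ₂ := by
      refine lift_unique (pN 𝔑) (gN 𝔑) _ _ (by rw [Category.assoc, Category.assoc, hγ₁, hγ₂]) fun s => ?_
      rw [Scheme.Hom.comp_apply, ← Scheme.Hom.comp_apply γ₁, hγ₁]
      exact mem_of_ι U s
    have e2 : U.ι ≫ m = U.ι ≫ γ₁ ≫ pullback.diagonal (pN 𝔑) := by
      apply pullback.hom_ext
      · rw [Category.assoc, hm1, Category.assoc, Category.assoc, pullback.diagonal_fst, Category.comp_id]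
      · rw [Category.assoc, hm2, Category.assoc, Category.assoc, pullback.diagonal_snd, Category.comp_id, e1]
    obtain ⟨w, rfl⟩ : w' ∈ Set.range U.ι := by rw [Scheme.Opens.range_ι]; exact hg
    refine ⟨γ₁ (U.ι w), ?_⟩
    rw [← Scheme.Hom.comp_apply, ← Scheme.Hom.comp_apply, ← Scheme.Hom.comp_apply, e2]

end K851.NE
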