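import Groth.Agent.SSMod.K851.NE

/-!
# The bad locus is open in fibres; open and closed curves in the special fibre
-/

set_option autoImplicit false
set_option linter.unusedSectionVars false
set_option linter.dupNamespace false
universe u

open CategoryTheory CategoryTheory.Limits AlgebraicGeometry TopologicalSpace IsLocalRing

namespace K851.NF

open K851.Fib K851.LemN K851.Et K851.Sep K851.Pt K851.Dat K851.DDef K851.Ext K851.NA K851.PQ K851.PR K851.NB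
  K851.NC K851.ND K851.NE

/-- Base changes to fields map openly to the fibre. -/
theorem fac_fiber {K : Type u} [Field K] {X S : Scheme.{u}} (q : X ⟶ S)
    (τ : Spec (CommRingCat.of K) ⟶ S) (s : S) (h : ∀ t, τ t = s) :
    ∃ m : pullback q τ ⟶ q.fiber s, m ≫ q.fiberι s = pullback.fst q τ ∧ IsOpenMap m := by
  obtain ⟨φ, hφ⟩ := exists_fac τ s ((⊥ : PrimeSpectrum K) : Spec (CommRingCat.of K)) (h _)
  have H1 : IsPullback (pullback.fst q τ) (pullback.snd q τ) q (Spec.map φ ≫ S.fromSpecResidueField s) := by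
    rw [← hφ]; exact IsPullback.of_hasPullback _ _
  have H2 : IsPullback (q.fiberι s) (q.fiberToSpecResidueField s) q (S.fromSpecResidueField s) :=
    IsPullback.of_hasPullback _ _
  let m : pullback q τ ⟶ q.fiber s := H2.lift (pullback.fst q τ) (pullback.snd q τ ≫ Spec.map φ) (by
    rw [Category.assoc]; exact H1.w)
  have hm1 : m ≫ q.fiberι s = pullback.fst q τ := H2.lift_fst _ _ _
  have hm2 : m ≫ q.fiberToSpecResidueField s = pullback.snd q τ ≫ Spec.map φ := H2.lift_snd _ _ _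
  have H3 : IsPullback m (pullback.snd q τ) (q.fiberToSpecResidueField s) (Spec.map φ) := by
    rw [← hm1] at H1
    exact IsPullback.of_right H1 hm2 H2
  have h1 : UniversallyOpen (Spec.map φ) :=
    Groth.Agent.Fdesc.BaseField.universallyOpen_of_field (K := S.residueField s) (Spec.map φ)
  have h2 : UniversallyOpen m := MorphismProperty.of_isPullback (P := @UniversallyOpen) H3.flip h1
  exact ⟨m, hm1, m.isOpenMap⟩

variable {O : Type u} [CommRing O] [IsNoetherianRing O] (𝔑 : NN O)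

theorem isOpen_bad [IsDomain O] [IsIntegrallyClosed O] {S' : Scheme.{u}}
    (ρ' : S' ⟶ Spec (CommRingCat.of O))
    (H : ∀ (Ω : Type u) [Field Ω] [IsAlgClosed Ω] (v' : Spec (CommRingCat.of Ω) ⟶ S'),
      NoExcAt 𝔑 Ω (v' ≫ ρ')) (K : Type u) [Field K] (τ : Spec (CommRingCat.of K) ⟶ Spec (CommRingCat.of O))
    (hτ : ∀ t, τ t ∈ Set.range ρ') :
    IsOpen {w : ↥(pullback 𝔑.qX τ) | pullback.fst 𝔑.qX τ w ∉ gN 𝔑} := by
  rw [isOpen_iff_forall_mem_open]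
  intro w₁ hw₁
  let s := τ (pullback.snd 𝔑.qX τ w₁)
  have hs : ∀ t, τ t = s := fun t => congrArg τ (subsingleton_spec _ _)
  have hxs : 𝔑.qX (pullback.fst 𝔑.qX τ w₁) = s := by
    rw [← Scheme.Hom.comp_apply, pullback.condition, Scheme.Hom.comp_apply]
  obtain ⟨Ω, _, τ', W, w, hwW, hw, hW⟩ := exists_W 𝔑 ρ' H (pullback.fst 𝔑.qX τ w₁) hw₁
    (by rw [hxs]; exact hτ _)
  have hs' : ∀ t, τ' t = s := by
    intro t
    have h1 : τ' (pullback.snd 𝔑.qX τ' w) = s := by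
      rw [← Scheme.Hom.comp_apply, ← pullback.condition, Scheme.Hom.comp_apply, hw, hxs]
    rw [← h1]
    exact congrArg τ' (subsingleton_spec _ _)
  obtain ⟨m, hm, hmo⟩ := fac_fiber 𝔑.qX τ s hs
  obtain ⟨m', hm', hmo'⟩ := fac_fiber 𝔑.qX τ' s hs'
  refine ⟨m ⁻¹' (m' '' (W : Set _)), ?_, (hmo' _ W.2).preimage m.continuous, w, hwW, ?_⟩
  · rintro w₂ ⟨w₃, hw₃, h⟩
    change pullback.fst 𝔑.qX τ w₂ ∉ gN 𝔑
    rw [← hm, Scheme.Hom.comp_apply, ← h, ← Scheme.Hom.comp_apply, hm']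
    exact hW _ hw₃
  · apply (𝔑.qX.fiberι s).injective
    rw [← Scheme.Hom.comp_apply, ← Scheme.Hom.comp_apply, hm, hm', hw]

section DVR

variable {R : Type u} [CommRing R] [IsDomain R] [IsDiscreteValuationRing R] [IsAlgClosed (ResidueField R)]
  [IsAdicComplete (maximalIdeal R) R]

/-- An open and closed part of the special fibre which is proper over the residue field is impossible. -/
theorem false_of_clopen' (𝔇 : DD R) (W : (pullback 𝔇.qY (sp R)).Opens)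
    (hcl : IsClosed (W : Set ↥(pullback 𝔇.qY (sp R)))) [ConnectedSpace (W : Scheme.{u})]
    [UniversallyClosed (W.ι ≫ pullback.snd 𝔇.qY (sp R))] (z₀ : ↥(pullback 𝔇.qY (sp R))) (hz₀ : z₀ ∈ W)
    (hnc : ¬ IsClosed ({pullback.fst 𝔇.qY (sp R) z₀} : Set 𝔇.Y)) : False := by
  let U : 𝔇.Y.Opens := ⟨((pullback.fst 𝔇.qY (sp R)) '' (W : Set ↥(pullback 𝔇.qY (sp R)))ᶜ)ᶜ,
    ((pullback.fst 𝔇.qY (sp R)).isClosedMap _ W.2.isClosed_compl).isOpen_compl⟩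
  have hinj : Function.Injective (pullback.fst 𝔇.qY (sp R)) :=
    (pullback.fst 𝔇.qY (sp R)).isClosedEmbedding.injective
  have hmemU : ∀ z ∈ W, pullback.fst 𝔇.qY (sp R) z ∈ U := by
    intro z hz
    rintro ⟨z', hz', h⟩
    rw [hinj h] at hz'
    exact hz' hz
  have hred : IsReduced (pullback 𝔇.qY (sp R)) :=
    K851.Comp.isReduced_field (pullback.snd 𝔇.qY (sp R))
      (Groth.Agent.Sga7.H734.NodalBC.isNodalFamily_of_isPullback
        (IsPullback.of_hasPullback 𝔇.qY (sp R)) 𝔇.nY)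
  have hconst' : ∀ g : Γ(𝔇.Y, U), ∃ r : R, sc 𝔇.qY U 𝔇.π ∣ g - sc 𝔇.qY U r := by
    intro g
    refine K851.LemN.exists_const 𝔇.hπ 𝔇.qY (pullback.fst 𝔇.qY (sp R)) (pullback.snd 𝔇.qY (sp R))
      (IsPullback.of_hasPullback 𝔇.qY (sp R)) W.ι U ?_ ?_ g
    · intro w
      exact hmemU _ (mem_of_ι W w)
    · intro x hx hqx
      obtain ⟨z, hz⟩ := exists_lift 𝔇.qY _ _ (IsPullback.of_hasPullback 𝔇.qY (sp R)) x hqx
      have hzW : z ∈ W := by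
        by_contra h
        exact hx ⟨z, h, hz⟩
      obtain ⟨w, hw⟩ : ∃ w, W.ι w = z := by
        have : z ∈ Set.range W.ι := by rw [Scheme.Opens.range_ι]; exact hzW
        exact this
      exact ⟨w, by rw [hw, hz]⟩
  let ξ : 𝔇.Y := pullback.fst 𝔇.qY (sp R) z₀
  have hξq : 𝔇.qY ξ = cp (CommRingCat.of R) := by
    change 𝔇.qY (pullback.fst 𝔇.qY (sp R) z₀) = _
    rw [← Scheme.Hom.comp_apply, pullback.condition, Scheme.Hom.comp_apply]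
    exact map_residue (CommRingCat.of R) _
  obtain ⟨hdom, hdvr, hirr⟩ := K851.Comp.exists_dvr 𝔇.hπ 𝔇.qY 𝔇.nY ξ hξq hnc
  let s₀ : Spec (𝔇.Y.presheaf.stalk ξ) := (⊥ : PrimeSpectrum (𝔇.Y.presheaf.stalk ξ))
  let η : 𝔇.Y := 𝔇.Y.fromSpecStalk ξ s₀
  have hηξ : η ⤳ ξ := by
    have h1 : s₀ ⤳ cp (𝔇.Y.presheaf.stalk ξ) := specializes_closedPoint s₀
    have h2 := h1.map (𝔇.Y.fromSpecStalk ξ).continuous
    rwa [fromSpecStalk_cp] at h2
  have hqη : 𝔇.qY η ≠ cp (CommRingCat.of R) := by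
    intro hcon
    have h1 : 𝔇.π ∈ (𝔇.qY η : PrimeSpectrum R).asIdeal := by
      rw [hcon]; exact 𝔇.hπ.not_isUnit
    have h2 : st 𝔇.qY ξ 𝔇.π ∈ (s₀ : PrimeSpectrum (𝔇.Y.presheaf.stalk ξ)).asIdeal := by
      rw [← ro_stalk 𝔇.qY ξ 𝔇.π]
      change 𝔇.π ∈ (𝔇.qY (𝔇.Y.fromSpecStalk ξ s₀) : PrimeSpectrum R).asIdeal at h1
      rw [← Scheme.Hom.comp_apply, ← map_ro (𝔇.Y.fromSpecStalk ξ ≫ 𝔇.qY)] at h1
      exact h1
    exact hirr.ne_zero h2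
  have hfield : IsField (𝔇.Y.presheaf.stalk η) := isField_stalk_spec_bot ξ hdom s₀ rfl
  have hmax : ∀ t, t ⤳ η → t = η := eq_of_specializes_of_isField η hfield
  obtain ⟨y, hy1, hy2, hy3⟩ := exists_specializes 𝔇.qY 𝔇.nY η (fun t ht _ => hmax t ht)
  have hqy : 𝔇.c (𝔇.g y) ≠ cp (CommRingCat.of R) := by
    have : 𝔇.c (𝔇.g y) = 𝔇.qY y := by rw [Scheme.Hom.comp_apply]
    rw [this, hy3]; exact hqη
  have h1 := closed_of_const 𝔇.hπ 𝔇.qY 𝔇.g 𝔇.c rfl U hconst' ξ (hmemU _ hz₀)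
    ⟨hdom, hdvr, hirr⟩ η hηξ hqη (𝔇.g y) (hy1.map 𝔇.g.continuous) hqy
  exact hy2 (inj_of_isIso 𝔇.g (𝔇.c ⁻¹ᵁ Dπ 𝔇.π) y η (mem_O 𝔇 _ hqy) h1)

/-- The self pair. -/
noncomputable def selfDD (𝔇 : DD R) : DD R where
  π := 𝔇.π
  hπ := 𝔇.hπ
  C := 𝔇.C
  X := 𝔇.X
  Y := 𝔇.X
  DX := 𝔇.DX
  DY := 𝔇.DX
  c := 𝔇.c
  f := 𝔇.f
  g := 𝔇.f
  iX := 𝔇.iX
  iY := 𝔇.iX
  pf := 𝔇.pf
  pg := 𝔇.pf
  aC := 𝔇.aC
  fc := 𝔇.fc
  nX := 𝔇.nX
  nY := 𝔇.nX
  lX := 𝔇.lX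
  lY := 𝔇.lX
  cX := 𝔇.cX
  cY := 𝔇.cX
  eX := 𝔇.eX
  eY := 𝔇.eX
  sX := 𝔇.sX
  sY := 𝔇.sX
  isoX := 𝔇.isoX
  isoY := 𝔇.isoX
  hD := by
    intro x y hxy hx hy
    have h1 : x = y := inj_of_isIso 𝔇.f (𝔇.c ⁻¹ᵁ Dπ 𝔇.π) x y (mem_O 𝔇 _ hx) hxy
    rw [h1]; exact hy

end DVR

end K851.NF
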