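import Groth.Agent.SSMod.K851.NF
import Mathlib.AlgebraicGeometry.Morphisms.Finite

/-!
# A connected component of the bad locus is contracted
-/

set_option autoImplicit false
set_option linter.unusedSectionVars false
set_option linter.dupNamespace false
universe u

open CategoryTheory CategoryTheory.Limits AlgebraicGeometry TopologicalSpace IsLocalRing

namespace K851.NG

open K851.Fib K851.LemN K851.Et K851.Sep K851.Pt K851.Dat K851.DDef K851.Ext K851.NA K851.PQ K851.PR K851.NB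
  K851.NC K851.ND K851.NE K851.NF

variable {O : Type u} [CommRing O] [IsNoetherianRing O] (𝔑 : NN O)
variable {K : Type u} [Field K] (τ : Spec (CommRingCat.of K) ⟶ Spec (CommRingCat.of O))

/-- The map `X_τ ⟶ C_τ`. -/
noncomputable abbrev fT : pullback 𝔑.qX τ ⟶ pullback 𝔑.c τ := CInt.baseChangeOver 𝔑.f 𝔑.c τ
/-- The map `Y_τ ⟶ C_τ`. -/
noncomputable abbrev gT : pullback 𝔑.qY τ ⟶ pullback 𝔑.c τ := CInt.baseChangeOver 𝔑.g 𝔑.c τ

theorem fT_fst : fT 𝔑 τ ≫ pullback.fst 𝔑.c τ = pullback.fst 𝔑.qX τ ≫ 𝔑.f := bco_fst _ _ _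
theorem fT_snd : fT 𝔑 τ ≫ pullback.snd 𝔑.c τ = pullback.snd 𝔑.qX τ := bco_snd _ _ _
theorem gT_fst : gT 𝔑 τ ≫ pullback.fst 𝔑.c τ = pullback.fst 𝔑.qY τ ≫ 𝔑.g := bco_fst _ _ _
theorem gT_snd : gT 𝔑 τ ≫ pullback.snd 𝔑.c τ = pullback.snd 𝔑.qY τ := bco_snd _ _ _

instance : IsProper (fT 𝔑 τ) :=
  MorphismProperty.of_isPullback (P := @IsProper) (bco_isPullback 𝔑.f 𝔑.c τ) inferInstance
instance : IsProper (gT 𝔑 τ) :=
  MorphismProperty.of_isPullback (P := @IsProper) (bco_isPullback 𝔑.g 𝔑.c τ) inferInstance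

theorem inf_fibre (xh : Spec (CommRingCat.of K) ⟶ pullback 𝔑.qX τ) (hxh : xh ≫ pullback.snd _ _ = 𝟙 _)
    (w : ↥(pullback 𝔑.qX τ)) (hw : ∀ t, xh t = w) (hb : pullback.fst 𝔑.qX τ w ∉ gN 𝔑) :
    ((gT 𝔑 τ) ⁻¹' {fT 𝔑 τ w}).Infinite := by
  let x1 := xh ≫ pullback.fst 𝔑.qX τ
  let F := pullback (pN 𝔑) x1
  let p1 : F ⟶ GN 𝔑 := pullback.fst _ _
  let p2 : F ⟶ Spec (CommRingCat.of K) := pullback.snd _ _
  have hp : p1 ≫ pN 𝔑 = p2 ≫ x1 := pullback.condition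
  have hx1 : x1 ≫ 𝔑.qX = τ := by
    rw [Category.assoc, pullback.condition, ← Category.assoc, hxh, Category.id_comp]
  have hq : pNY 𝔑 ≫ 𝔑.qY = pN 𝔑 ≫ 𝔑.qX := by
    rw [← Category.assoc, ← pX_pY, Category.assoc]
  let m : F ⟶ pullback 𝔑.qY τ := pullback.lift (p1 ≫ pNY 𝔑) p2 (by
    rw [Category.assoc, hq, reassoc_of% hp, hx1])
  have hm1 : m ≫ pullback.fst _ _ = p1 ≫ pNY 𝔑 := pullback.lift_fst _ _ _
  have hm2 : m ≫ pullback.snd _ _ = p2 := pullback.lift_snd _ _ _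
  have hmono : Mono m := by
    refine ⟨fun a b hab => ?_⟩
    have h2 : a ≫ p2 = b ≫ p2 := by rw [← hm2, ← Category.assoc, hab, Category.assoc]
    apply pullback.hom_ext
    · apply Gm_hom_ext (XK 𝔑).ι 𝔑.f 𝔑.g (hK 𝔑) (hK_g 𝔑)
      · change (a ≫ p1) ≫ pN 𝔑 = (b ≫ p1) ≫ pN 𝔑
        rw [Category.assoc, Category.assoc, hp, reassoc_of% h2]
      · change (a ≫ p1) ≫ pNY 𝔑 = (b ≫ p1) ≫ pNY 𝔑
        rw [Category.assoc, Category.assoc, ← hm1, ← Category.assoc, hab, Category.assoc]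
    · exact h2
  have hmg : m ≫ gT 𝔑 τ = p2 ≫ xh ≫ fT 𝔑 τ := by
    apply pullback.hom_ext
    · rw [Category.assoc, gT_fst, ← Category.assoc, hm1, Category.assoc, ← pX_pY, reassoc_of% hp]
      simp only [x1, Category.assoc]
      rw [fT_fst]
    · rw [Category.assoc, gT_snd, hm2, Category.assoc, Category.assoc, fT_snd, hxh, Category.comp_id]
  intro hfin
  apply infinite_of_bad (pN 𝔑) _ hb
  have h1 : (Set.univ : Set F) ⊆ m ⁻¹' ((gT 𝔑 τ) ⁻¹' {fT 𝔑 τ w}) := by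
    intro u _
    change gT 𝔑 τ (m u) = fT 𝔑 τ w
    rw [← Scheme.Hom.comp_apply, hmg, Scheme.Hom.comp_apply, Scheme.Hom.comp_apply, hw]
  have h2 : (Set.univ : Set F).Finite := (hfin.preimage m.injective.injOn).subset h1
  refine (h2.image p1).subset ?_
  intro z hz
  have hz' : pN 𝔑 z = pullback.fst 𝔑.qX τ w := hz
  let t₀ : Spec (CommRingCat.of K) := (⊥ : PrimeSpectrum K)
  obtain ⟨u, hu, -⟩ := Scheme.Pullback.exists_preimage_pullback z t₀ (f := pN 𝔑) (g := x1) (by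
    rw [hz', Scheme.Hom.comp_apply, hw])
  exact ⟨u, trivial, hu⟩

instance : IsLocallyNoetherian 𝔑.Y := by
  have h1 : IsLocallyNoetherian (Spec (CommRingCat.of O)) := inferInstance
  exact LocallyOfFiniteType.isLocallyNoetherian 𝔑.qY

instance isNoetherian_XT : IsNoetherian (pullback 𝔑.qX τ) := by
  have h0 : IsLocallyNoetherian (Spec (CommRingCat.of K)) := inferInstance
  have h1 : IsLocallyNoetherian (pullback 𝔑.qX τ) :=
    LocallyOfFiniteType.isLocallyNoetherian (pullback.snd 𝔑.qX τ)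
  have h2 : CompactSpace ↥(pullback 𝔑.qX τ) :=
    QuasiCompact.compactSpace_of_compactSpace (pullback.snd 𝔑.qX τ)
  constructor

instance isNoetherian_YT : IsNoetherian (pullback 𝔑.qY τ) := by
  have h0 : IsLocallyNoetherian (Spec (CommRingCat.of K)) := inferInstance
  have h1 : IsLocallyNoetherian (pullback 𝔑.qY τ) :=
    LocallyOfFiniteType.isLocallyNoetherian (pullback.snd 𝔑.qY τ)
  have h2 : CompactSpace ↥(pullback 𝔑.qY τ) :=
    QuasiCompact.compactSpace_of_compactSpace (pullback.snd 𝔑.qY τ)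
  constructor

theorem nodal_XT : Curv2.IsNodalFamily (pullback.snd 𝔑.qX τ) :=
  Groth.Agent.Sga7.H734.NodalBC.isNodalFamily_of_isPullback (IsPullback.of_hasPullback 𝔑.qX τ) 𝔑.nX

theorem nodal_YT : Curv2.IsNodalFamily (pullback.snd 𝔑.qY τ) :=
  Groth.Agent.Sga7.H734.NodalBC.isNodalFamily_of_isPullback (IsPullback.of_hasPullback 𝔑.qY τ) 𝔑.nY

/-- A connected open and closed subset all of whose closed points are bad is contracted. -/
theorem contracted [IsAlgClosed K] (W : Set ↥(pullback 𝔑.qX τ)) (hcl : IsClosed W) (hpre : _root_.IsPreconnected W)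
    (hne : W.Nonempty) (hbad : ∀ w ∈ W, pullback.fst 𝔑.qX τ w ∉ gN 𝔑) :
    ∃ w₁ ∈ W, IsClosed ({w₁} : Set ↥(pullback 𝔑.qX τ)) ∧ ∀ w ∈ W, fT 𝔑 τ w = fT 𝔑 τ w₁ := by
  have hlft : LocallyOfFiniteType (pullback.snd 𝔑.qX τ) := inferInstance
  have hJ : JacobsonSpace ↥(pullback 𝔑.qX τ) := LocallyOfFiniteType.jacobsonSpace (pullback.snd 𝔑.qX τ)
  let Fin : Set ↥(pullback 𝔑.c τ) :=
    (gT 𝔑 τ) '' {y | ¬ IsClosed ({y} : Set ↥(pullback 𝔑.qY τ))} ∩ {c | IsClosed ({c} : Set _)}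
  have hFin : Fin.Finite :=
    ((K851.Comp.finite_not_closed (pullback.snd 𝔑.qY τ) (nodal_YT 𝔑 τ)).image _).subset
      Set.inter_subset_left
  have hsub : ∀ T ⊆ Fin, IsClosed T := by
    intro T hT
    rw [← Set.biUnion_of_singleton T]
    exact (hFin.subset hT).isClosed_biUnion fun c hc => (hT hc).2
  have hmem : ∀ w ∈ W, IsClosed ({w} : Set _) → fT 𝔑 τ w ∈ Fin := by
    intro w hw hwc
    have h1 := inf_fibre 𝔑 τ (pointOfClosedPoint (pullback.snd 𝔑.qX τ) w hwc)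
      (pointOfClosedPoint_comp _ _ _) w (fun t => pointOfClosedPoint_apply _ _ _ _) (hbad w hw)
    have h2 : IsClosed ({fT 𝔑 τ w} : Set _) := by
      have := (fT 𝔑 τ).isClosedMap _ hwc
      rwa [Set.image_singleton] at this
    refine ⟨?_, h2⟩
    by_contra hcon
    apply h1
    refine K851.Curve.finite_of_isClosed_singleton _ (h2.preimage (gT 𝔑 τ).continuous) ?_
    intro y hy
    by_contra hy'
    exact hcon ⟨y, hy', hy⟩
  have hW : W ⊆ fT 𝔑 τ ⁻¹' Fin := by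
    rw [← closure_inter_closedPoints hcl]
    refine closure_minimal ?_ ((hsub Fin subset_rfl).preimage (fT 𝔑 τ).continuous)
    rintro w ⟨hw, hw'⟩
    exact hmem w hw hw'
  obtain ⟨w₁, hw₁, hw₁'⟩ : (W ∩ closedPoints _).Nonempty := by
    rw [← closure_nonempty_iff, closure_inter_closedPoints hcl]; exact hne
  refine ⟨w₁, hw₁, hw₁', ?_⟩
  have h3 := isPreconnected_iff_subset_of_disjoint_closed.1 hpre (fT 𝔑 τ ⁻¹' {fT 𝔑 τ w₁})
    (fT 𝔑 τ ⁻¹' (Fin \ {fT 𝔑 τ w₁}))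
    ((hsub _ (Set.singleton_subset_iff.2 (hW hw₁))).preimage (fT 𝔑 τ).continuous)
    ((hsub _ Set.sdiff_subset).preimage (fT 𝔑 τ).continuous) (by
      intro w hw
      by_cases h : fT 𝔑 τ w = fT 𝔑 τ w₁
      · exact Or.inl h
      · exact Or.inr ⟨hW hw, h⟩) (by
      rw [← Set.preimage_inter, Set.inter_sdiff_self, Set.preimage_empty, Set.inter_empty])
  rcases h3 with h3 | h3
  · exact fun w hw => h3 hw
  · exact absurd rfl (h3 hw₁).2

/-- A contracted open and closed subset is proper over the residue field. -/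
theorem universallyClosed_of_contracted [IsAlgClosed K] (W : (pullback 𝔑.qX τ).Opens)
    (hcl : IsClosed (W : Set ↥(pullback 𝔑.qX τ))) (w₁ : ↥(pullback 𝔑.qX τ))
    (hw₁ : IsClosed ({w₁} : Set ↥(pullback 𝔑.qX τ))) (hW : ∀ w ∈ W, fT 𝔑 τ w = fT 𝔑 τ w₁) :
    UniversallyClosed (W.ι ≫ pullback.snd 𝔑.qX τ) := by
  have hlft : LocallyOfFiniteType (pullback.snd 𝔑.qX τ) := inferInstance
  let c₁ : Spec (CommRingCat.of K) ⟶ pullback 𝔑.c τ :=
    pointOfClosedPoint (pullback.snd 𝔑.qX τ) w₁ hw₁ ≫ fT 𝔑 τ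
  have hc₁ : c₁ ≫ pullback.snd 𝔑.c τ = 𝟙 _ := by
    rw [Category.assoc, fT_snd, pointOfClosedPoint_comp]
  have hc₁' : ∀ t, c₁ t = fT 𝔑 τ w₁ := by
    intro t
    rw [Scheme.Hom.comp_apply, pointOfClosedPoint_apply]
  have h1 : IsClosedImmersion c₁ := by
    have h2 : IsClosedImmersion (c₁ ≫ pullback.snd 𝔑.c τ) := by rw [hc₁]; infer_instance
    exact IsClosedImmersion.of_comp c₁ (pullback.snd 𝔑.c τ)
  have hι : IsClosedImmersion W.ι := by
    apply IsClosedImmersion.of_isPreimmersion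
    rw [Scheme.Opens.range_ι]; exact hcl
  have hred : IsReduced (pullback 𝔑.qX τ) := K851.Comp.isReduced_field (pullback.snd 𝔑.qX τ) (nodal_XT 𝔑 τ)
  have hred' : IsReduced (W : Scheme.{u}) := isReduced_of_isOpenImmersion W.ι
  have hs : Surjective (pullback.fst (W.ι ≫ fT 𝔑 τ) c₁) := by
    constructor
    intro w
    let t₀ : Spec (CommRingCat.of K) := (⊥ : PrimeSpectrum K)
    obtain ⟨u, hu, -⟩ := Scheme.Pullback.exists_preimage_pullback w t₀ (f := W.ι ≫ fT 𝔑 τ) (g := c₁) (by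
      rw [hc₁', Scheme.Hom.comp_apply]
      exact hW _ (mem_of_ι W w))
    exact ⟨u, hu⟩
  have hiso : IsIso (pullback.fst (W.ι ≫ fT 𝔑 τ) c₁) := isIso_of_isClosedImmersion_of_surjective _
  have h3 : (W.ι ≫ pullback.snd 𝔑.qX τ) ≫ c₁ = W.ι ≫ fT 𝔑 τ := by
    have h4 : pullback.fst (W.ι ≫ fT 𝔑 τ) c₁ ≫ W.ι ≫ fT 𝔑 τ =
        pullback.snd (W.ι ≫ fT 𝔑 τ) c₁ ≫ c₁ := pullback.condition
    rw [← cancel_epi (pullback.fst (W.ι ≫ fT 𝔑 τ) c₁), h4, ← fT_snd]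
    have h5 : pullback.fst (W.ι ≫ fT 𝔑 τ) c₁ ≫ W.ι ≫ fT 𝔑 τ ≫ pullback.snd 𝔑.c τ =
        pullback.snd (W.ι ≫ fT 𝔑 τ) c₁ := by
      have h6 := congrArg (· ≫ pullback.snd 𝔑.c τ) h4
      simp only [Category.assoc] at h6
      rw [h6, hc₁, Category.comp_id]
    simp only [Category.assoc]
    rw [← Category.assoc (pullback.fst (W.ι ≫ fT 𝔑 τ) c₁), ← Category.assoc _ (fT 𝔑 τ),
      ← Category.assoc _ (pullback.snd 𝔑.c τ)]
    congr 1
  have h7 : IsProper ((W.ι ≫ pullback.snd 𝔑.qX τ) ≫ c₁) := by rw [h3]; infer_instance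
  have h8 : IsProper (W.ι ≫ pullback.snd 𝔑.qX τ) := IsProper.of_comp _ c₁
  infer_instance

end K851.NG
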