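import Groth.Agent.SSMod.K851.LC
import Groth.Agent.S2805
import Groth.Agent.Fga.DVRGeom
import Groth.Agent.S0558

/-!
# Nodes are not smooth points
-/

set_option autoImplicit false
set_option linter.unusedSectionVars false
universe u

open CategoryTheory CategoryTheory.Limits AlgebraicGeometry TopologicalSpace IsLocalRing

namespace K851.NS

open K851.Fib K851.LemN K851.Et K851.Sep K851.Pt K851.Tor K851.Dat

theorem smooth_smoothLocus {X S : Scheme.{u}} (f : X ⟶ S) [LocallyOfFinitePresentation f] :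
    Smooth (f.smoothLocus.ι ≫ f) := by
  rw [← Scheme.Hom.smoothLocus_eq_top_iff, ← Scheme.Hom.preimage_smoothLocus_eq]
  simp

theorem mem_smoothLocus_of {X S V : Scheme.{u}} (f : X ⟶ S) [LocallyOfFinitePresentation f]
    (j : V ⟶ X) [IsOpenImmersion j] [Smooth (j ≫ f)] (v : V) : j v ∈ f.smoothLocus := by
  have h1 := Scheme.Hom.preimage_smoothLocus_eq j f
  have h2 := (j ≫ f).smoothLocus_eq_top
  rw [h2] at h1
  have : v ∈ j ⁻¹ᵁ f.smoothLocus := by rw [h1]; trivial
  exact this

/-- Smoothness along an etale morphism. -/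
theorem mem_iff_of_etale {U X S : Scheme.{u}} (e : U ⟶ X) [Etale e] (q : X ⟶ S)
    [LocallyOfFinitePresentation q] (u : U) : e u ∈ q.smoothLocus ↔ u ∈ (e ≫ q).smoothLocus := by
  constructor
  · intro h
    have h1 := smooth_smoothLocus q
    have h2 : Smooth ((e ⁻¹ᵁ q.smoothLocus).ι ≫ e ≫ q) := by
      rw [← Category.assoc, ← morphismRestrict_ι, Category.assoc]
      infer_instance
    obtain ⟨v, hv⟩ : u ∈ Set.range (e ⁻¹ᵁ q.smoothLocus).ι := by
      rw [Scheme.Opens.range_ι]; exact h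
    rw [← hv]
    exact mem_smoothLocus_of (e ≫ q) _ v
  · intro h
    have h1 := smooth_smoothLocus (e ≫ q)
    obtain ⟨V, hV, hsm⟩ := Groth.Agent.S2805.result q (e ≫ q) e rfl u (Flat.stalkMap e u)
      ⟨(e ≫ q).smoothLocus, h, h1⟩
    obtain ⟨v, hv⟩ : e u ∈ Set.range V.ι := by
      rw [Scheme.Opens.range_ι]; exact hV
    rw [← hv]
    exact mem_smoothLocus_of q _ v

section Stalk

variable {R : Type u} [CommRing R] [IsDomain R] [IsDiscreteValuationRing R]

theorem isPrime_st {π : R} (hπ : Irreducible π) {Z : Scheme.{u}} (q : Z ⟶ Spec (CommRingCat.of R))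
    [Smooth q] (z : Z) (hz : q z = closedPoint R) : (Ideal.span {st q z π}).IsPrime :=
  Groth.Agent.Fga.DVRGeom.isPrime_span_ge (p := q) hπ z
    ((Groth.Agent.Fga.DVRGeom.notMem_basicOpen_iff q hπ z).2 hz)

theorem isDomain_st {Z : Scheme.{u}} (q : Z ⟶ Spec (CommRingCat.of R))
    [Smooth q] (z : Z) : IsDomain (Z.presheaf.stalk z) := by
  have := Groth.Agent.Fga.DVRGeom.isRegularLocalRing_stalk q z
  exact Groth.Agent.S0558.result _

/-- Transport of stalk properties to opens. -/
theorem exists_open {U : Scheme.{u}} (p : U ⟶ Spec (CommRingCat.of R))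
    [LocallyOfFinitePresentation p] (u : U) (hu : u ∈ p.smoothLocus) :
    IsDomain (U.presheaf.stalk u) ∧ ∀ π : R, Irreducible π → p u = closedPoint R →
      (Ideal.span {st p u π}).IsPrime := by
  have h1 := smooth_smoothLocus p
  obtain ⟨v, rfl⟩ : u ∈ Set.range p.smoothLocus.ι := by
    rw [Scheme.Opens.range_ι]; exact hu
  let j := p.smoothLocus.ι
  let φ : U.presheaf.stalk (j v) ≃+* (p.smoothLocus : Scheme.{u}).presheaf.stalk v :=
    (asIso (j.stalkMap v)).commRingCatIsoToRingEquiv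
  have hφ : ∀ x, φ x = j.stalkMap v x := fun x => rfl
  have h2 := isDomain_st (j ≫ p) v
  refine ⟨φ.toMulEquiv.isDomain _, fun π hπ hz => ?_⟩
  have h3 := isPrime_st hπ (j ≫ p) v (by rw [Scheme.Hom.comp_apply]; exact hz)
  rw [st_comp, ← hφ] at h3
  have h4 : Ideal.span {st p (j v) π} = (Ideal.span {φ (st p (j v) π)}).comap (φ : _ →+* _) := by
    ext x
    rw [Ideal.mem_comap, Ideal.mem_span_singleton, Ideal.mem_span_singleton]
    constructor
    · rintro ⟨y, rfl⟩
      exact ⟨φ y, by simp⟩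
    · rintro ⟨y, hy⟩
      refine ⟨φ.symm y, φ.injective ?_⟩
      rw [map_mul, φ.apply_symm_apply]
      exact hy
  rw [h4]
  exact h3.comap _

end Stalk

section Alg

variable {R : Type u} [CommRing R] [IsDomain R] [IsDiscreteValuationRing R]

theorem nd_alg (a p : R) (hp : (Ideal.span {p}).IsPrime) (ha : p ∣ a) (𝔫 : Ideal (Nd a)) [𝔫.IsPrime]
    (hpn : ndι a p ∈ 𝔫) (i : Fin 2) (h1 : ndx a (1 - i) ∈ 𝔫) (t s : Nd a)
    (h : t * ndx a i = ndι a p * s) : t ∈ 𝔫 := by
  obtain ⟨T, rfl⟩ := Ideal.Quotient.mk_surjective t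
  obtain ⟨S, rfl⟩ := Ideal.Quotient.mk_surjective s
  change Ideal.Quotient.mk _ T * Ideal.Quotient.mk _ _ = Ideal.Quotient.mk _ _ * Ideal.Quotient.mk _ S at h
  rw [← map_mul, ← map_mul, Ideal.Quotient.eq, Ideal.mem_span_singleton] at h
  obtain ⟨G, hG⟩ := h
  obtain ⟨a', rfl⟩ := ha
  let R' := R ⧸ Ideal.span {p}
  have : IsDomain R' := Ideal.Quotient.isDomain _
  let μ : MvPolynomial (Fin 2) R →+* MvPolynomial (Fin 2) R' := MvPolynomial.map (Ideal.Quotient.mk _)
  have hμp : μ (MvPolynomial.C p) = 0 := by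
    simp only [μ, MvPolynomial.map_C]
    rw [Ideal.Quotient.eq_zero_iff_mem.2 (Ideal.mem_span_singleton_self p), map_zero]
  have hμX : ∀ j, μ (MvPolynomial.X j) = MvPolynomial.X j := fun j => MvPolynomial.map_X _ _
  have h2 : μ T * MvPolynomial.X i = MvPolynomial.X 0 * MvPolynomial.X 1 * μ G := by
    have h3 := congrArg μ hG
    simp only [map_sub, map_mul, hμp, hμX, zero_mul, sub_zero] at h3
    exact h3
  have h3 : (MvPolynomial.X 0 * MvPolynomial.X 1 : MvPolynomial (Fin 2) R') =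
      MvPolynomial.X i * MvPolynomial.X (1 - i) := by
    fin_cases i
    · rfl
    · exact mul_comm _ _
  have h4 : μ T = MvPolynomial.X (1 - i) * μ G := by
    apply mul_left_cancel₀ (MvPolynomial.X_ne_zero i)
    rw [mul_comm, h2, h3, mul_assoc]
  have h5 : μ (T - MvPolynomial.X (1 - i) * G) = 0 := by
    rw [map_sub, map_mul, hμX, h4, sub_self]
  have h6 : T - MvPolynomial.X (1 - i) * G ∈ (Ideal.span {p}).map (MvPolynomial.C : R →+* MvPolynomial (Fin 2) R) := by
    rw [MvPolynomial.mem_map_C_iff]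
    intro m
    have h7 := congrArg (MvPolynomial.coeff m) h5
    rw [MvPolynomial.coeff_map, MvPolynomial.coeff_zero, Ideal.Quotient.eq_zero_iff_mem] at h7
    exact h7
  rw [Ideal.map_span, Set.image_singleton, Ideal.mem_span_singleton] at h6
  obtain ⟨Q, hQ⟩ := h6
  have h7 : (Ideal.Quotient.mk _ T : Nd (p * a')) = ndx (p * a') (1 - i) * Ideal.Quotient.mk _ G +
      ndι (p * a') p * Ideal.Quotient.mk _ Q := by
    change _ = Ideal.Quotient.mk _ _ * Ideal.Quotient.mk _ G + Ideal.Quotient.mk _ _ * Ideal.Quotient.mk _ Q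
    rw [← map_mul, ← map_mul, ← map_add, ← hQ]
    congr 1
    ring
  rw [h7]
  exact Ideal.add_mem _ (Ideal.mul_mem_right _ _ h1) (Ideal.mul_mem_right _ _ hpn)

/-- Divisibility in a local ring of an affine scheme. -/
theorem exists_of_mem_span {N : Type u} [CommRing N] (n : Spec (CommRingCat.of N)) (x p : N)
    (h : st (𝟙 (Spec (CommRingCat.of N))) n x ∈ Ideal.span {st (𝟙 (Spec (CommRingCat.of N))) n p}) :
    ∃ t s : N, t ∉ (n : PrimeSpectrum N).asIdeal ∧ t * x = p * s := by
  have hprime : (n : PrimeSpectrum N).asIdeal.IsPrime := (n : PrimeSpectrum N).2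
  let _ : Algebra N ((Spec (CommRingCat.of N)).presheaf.stalk n) := StructureSheaf.stalkAlgebra N n
  have hl : IsLocalization.AtPrime ((Spec (CommRingCat.of N)).presheaf.stalk n)
      (n : PrimeSpectrum N).asIdeal := StructureSheaf.IsLocalization.to_stalk N n
  have hst : ∀ z, st (𝟙 (Spec (CommRingCat.of N))) n z =
      algebraMap N ((Spec (CommRingCat.of N)).presheaf.stalk n) z := fun z => rfl
  rw [Ideal.mem_span_singleton, hst, hst] at h
  obtain ⟨y, hy⟩ := h
  obtain ⟨⟨s, d⟩, hsd⟩ := IsLocalization.surj (n : PrimeSpectrum N).asIdeal.primeCompl y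
  simp only at hsd
  have h1 : algebraMap N ((Spec (CommRingCat.of N)).presheaf.stalk n) (x * d) =
      algebraMap N _ (p * s) := by
    rw [map_mul, map_mul, hy, mul_assoc, hsd]
  obtain ⟨c, hc⟩ := (IsLocalization.eq_iff_exists (n : PrimeSpectrum N).asIdeal.primeCompl _).1 h1
  refine ⟨c * d, c * s, ?_, ?_⟩
  · intro hcd
    rcases (n : PrimeSpectrum N).2.mem_or_mem hcd with h | h
    · exact c.2 h
    · exact d.2 h
  · calc (c : N) * d * x = c * (x * d) := by ring
      _ = c * (p * s) := hc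
      _ = p * (c * s) := by ring

theorem mem_span_of_flat {A B : Type*} [CommRing A] [CommRing B] [IsLocalRing A] [IsLocalRing B]
    (φ : A →+* B) [IsLocalHom φ] (hφ : φ.Flat) (x p : A) (h : φ x ∈ Ideal.span {φ p}) :
    x ∈ Ideal.span {p} := by
  algebraize [φ]
  have : IsLocalHom (algebraMap A B) := inferInstanceAs (IsLocalHom φ)
  have : Module.FaithfullyFlat A B := Module.FaithfullyFlat.of_flat_of_isLocalHom
  rw [← Ideal.comap_map_eq_self_of_faithfullyFlat (B := B) (Ideal.span {p}), Ideal.mem_comap,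
    Ideal.map_span, Set.image_singleton]
  exact h

/-- At a point of the node chart where both coordinates vanish, `p` is not prime. -/
theorem ns (a p : R) (hp : (Ideal.span {p}).IsPrime) (ha : p ∣ a) {U : Scheme.{u}}
    (g : U ⟶ Spec (CommRingCat.of (Nd a))) [Flat g] (u : U)
    (hpr : (Ideal.span {st (g ≫ Spec.map (CommRingCat.ofHom (ndι a))) u p}).IsPrime)
    (hx : ∀ i, ndx a i ∈ (g u : PrimeSpectrum (Nd a)).asIdeal)
    (hpn : ndι a p ∈ (g u : PrimeSpectrum (Nd a)).asIdeal) : False := by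
  have hprime : (g u : PrimeSpectrum (Nd a)).asIdeal.IsPrime := (g u : PrimeSpectrum (Nd a)).2
  have hst : ∀ z : Nd a, st g u z = g.stalkMap u (st (𝟙 _) (g u) z) := by
    intro z
    have := st_comp g (𝟙 _) u z
    rwa [Category.comp_id] at this
  have hsι : ∀ r : R, st (g ≫ Spec.map (CommRingCat.ofHom (ndι a))) u r = st g u (ndι a r) := by
    intro r
    rw [← germ_sc _ ⊤ u trivial r, ← germ_sc _ ⊤ u trivial (ndι a r), sc_map]
  have hmul : st g u (ndx a 0) * st g u (ndx a 1) ∈ Ideal.span {st g u (ndι a p)} := by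
    obtain ⟨a', ha'⟩ := ha
    have h0 : ndι a a = ndι a p * ndι a a' := by
      rw [← map_mul]; exact congrArg (ndι a) ha'
    rw [← map_mul, nd_rel, h0, map_mul]
    exact Ideal.mul_mem_right _ _ (Ideal.mem_span_singleton_self _)
  rw [hsι] at hpr
  obtain ⟨i, hi⟩ : ∃ i, st g u (ndx a i) ∈ Ideal.span {st g u (ndι a p)} := by
    rcases hpr.mem_or_mem hmul with h | h
    · exact ⟨0, h⟩
    · exact ⟨1, h⟩
  rw [hst, hst] at hi
  have h1 := mem_span_of_flat (g.stalkMap u).hom (Flat.stalkMap g u) _ _ hi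
  obtain ⟨t, s, ht, hts⟩ := exists_of_mem_span _ _ _ h1
  exact ht (nd_alg a p hp ha _ hpn i (hx _) t s hts)

end Alg

end K851.NS
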