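import Groth.Agent.SSMod.K851.PQ

/-!
# The contradiction
-/

set_option autoImplicit false
set_option linter.unusedSectionVars false
set_option linter.dupNamespace false
universe u

open CategoryTheory CategoryTheory.Limits AlgebraicGeometry TopologicalSpace IsLocalRing

namespace K851.PR

open K851.Fib K851.LemN K851.Et K851.Sep K851.Pt K851.Tor K851.Dat K851.NS K851.Line K851.Mark K851.Chart
  K851.DDef K851.Ext K851.Tx K851.Sel K851.TA K851.TB K851.TC K851.Sit K851.FA K851.FB K851.PP K851.PQ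

variable {R : Type u} [CommRing R] [IsDomain R] [IsDiscreteValuationRing R] [IsAlgClosed (ResidueField R)]
  [IsAdicComplete (maximalIdeal R) R]

theorem eq_of_specializes_of_isField {Y : Scheme.{u}} (y : Y) (h : IsField (Y.presheaf.stalk y)) (z : Y)
    (hz : z ⤳ y) : z = y := by
  have hz' : z ∈ Set.range (Y.fromSpecStalk y) := by
    rw [Scheme.range_fromSpecStalk]; exact hz
  obtain ⟨q, rfl⟩ := hz'
  have hq : q = IsLocalRing.closedPoint (Y.presheaf.stalk y) := by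
    apply PrimeSpectrum.ext
    have h1 : q.asIdeal ≤ IsLocalRing.maximalIdeal _ := IsLocalRing.le_maximalIdeal q.isPrime.ne_top
    rw [IsLocalRing.isField_iff_maximalIdeal_eq.1 h] at h1
    change q.asIdeal = IsLocalRing.maximalIdeal _
    rw [IsLocalRing.isField_iff_maximalIdeal_eq.1 h]
    exact le_bot_iff.1 h1
  rw [hq, Scheme.fromSpecStalk_closedPoint]

/-- An open and closed curve in the special fibre which is proper over the residue field is impossible. -/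
theorem false_of_clopen (𝔇 : DD R) {P : Scheme.{u}} [IsIntegral P]
    (e : P ⟶ pullback 𝔇.qY (sp R)) [IsProper (e ≫ pullback.snd 𝔇.qY (sp R))]
    (hop : IsOpen (Set.range e))
    (hnc : ¬ IsClosed ({pullback.fst 𝔇.qY (sp R) (e (genericPoint P))} : Set 𝔇.Y)) : False := by
  have hqk : IsSeparated (pullback.snd 𝔇.qY (sp R)) := inferInstance
  have hpe : IsProper e := IsProper.of_comp e (pullback.snd 𝔇.qY (sp R))
  have hcl : IsClosed (Set.range e) := by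
    have := e.isClosedMap _ isClosed_univ
    rwa [Set.image_univ] at this
  let W : (pullback 𝔇.qY (sp R)).Opens := ⟨Set.range e, hop⟩
  let eW : P ⟶ (W : Scheme.{u}) := IsOpenImmersion.lift W.ι e (by rw [Scheme.Opens.range_ι]; rfl)
  have heW : eW ≫ W.ι = e := IsOpenImmersion.lift_fac _ _ _
  have hsurj : Surjective eW := by
    constructor
    intro w
    have hw : W.ι w ∈ Set.range W.ι := ⟨w, rfl⟩
    rw [Scheme.Opens.range_ι] at hw
    obtain ⟨p, hp⟩ := hw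
    refine ⟨p, W.ι.isOpenEmbedding.injective ?_⟩
    rw [← Scheme.Hom.comp_apply, heW]
    exact hp
  have huc : UniversallyClosed (W.ι ≫ pullback.snd 𝔇.qY (sp R)) := by
    have h1 : UniversallyClosed (eW ≫ W.ι ≫ pullback.snd 𝔇.qY (sp R)) := by
      rw [reassoc_of% heW]; infer_instance
    exact UniversallyClosed.of_comp_surjective eW _
  have hconn : ConnectedSpace (W : Scheme.{u}) := by
    have h1 : Function.Surjective eW := eW.surjective
    exact h1.connectedSpace eW.continuous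
  let U : 𝔇.Y.Opens := ⟨((pullback.fst 𝔇.qY (sp R)) '' (Set.range e)ᶜ)ᶜ,
    ((pullback.fst 𝔇.qY (sp R)).isClosedMap _ hop.isClosed_compl).isOpen_compl⟩
  have hinj : Function.Injective (pullback.fst 𝔇.qY (sp R)) :=
    (pullback.fst 𝔇.qY (sp R)).isClosedEmbedding.injective
  have hmemU : ∀ z ∈ Set.range e, pullback.fst 𝔇.qY (sp R) z ∈ U := by
    intro z hz
    rintro ⟨z', hz', h⟩
    rw [hinj h] at hz'
    exact hz' hz
  have hred : IsReduced (pullback 𝔇.qY (sp R)) :=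
    K851.Comp.isReduced_field (pullback.snd 𝔇.qY (sp R))
      (Groth.Agent.Sga7.H734.NodalBC.isNodalFamily_of_isPullback
        (IsPullback.of_hasPullback 𝔇.qY (sp R)) 𝔇.nY)
  have hconst' : ∀ g : Γ(𝔇.Y, U), ∃ r : R, sc 𝔇.qY U 𝔇.π ∣ g - sc 𝔇.qY U r := by
    intro g
    refine K851.LemN.exists_const 𝔇.hπ 𝔇.qY (pullback.fst 𝔇.qY (sp R)) (pullback.snd 𝔇.qY (sp R))
      (IsPullback.of_hasPullback 𝔇.qY (sp R)) W.ι U ?_ ?_ g
    · intro w
      apply hmemU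
      have hw : W.ι w ∈ Set.range W.ι := ⟨w, rfl⟩
      rwa [Scheme.Opens.range_ι] at hw
    · intro x hx hqx
      obtain ⟨z, hz⟩ := exists_lift 𝔇.qY _ _ (IsPullback.of_hasPullback 𝔇.qY (sp R)) x hqx
      have hzW : z ∈ Set.range e := by
        by_contra h
        exact hx ⟨z, h, hz⟩
      obtain ⟨w, hw⟩ : ∃ w, W.ι w = z := by
        have : z ∈ Set.range W.ι := by rw [Scheme.Opens.range_ι]; exact hzW
        exact this
      exact ⟨w, by rw [hw, hz]⟩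
  let ξ : 𝔇.Y := pullback.fst 𝔇.qY (sp R) (e (genericPoint P))
  have hξq : 𝔇.qY ξ = cp (CommRingCat.of R) := by
    change 𝔇.qY (pullback.fst 𝔇.qY (sp R) (e (genericPoint P))) = _
    rw [← Scheme.Hom.comp_apply, pullback.condition, Scheme.Hom.comp_apply]
    exact map_residue (CommRingCat.of R) _
  have hξ : ξ ∈ Ws 𝔇 := ⟨hξq, hnc⟩
  obtain ⟨hdom, hdvr, hirr⟩ := exists_dvr 𝔇 hξ
  let s₀ : Spec (𝔇.Y.presheaf.stalk ξ) := (⊥ : PrimeSpectrum (𝔇.Y.presheaf.stalk ξ))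
  let η : 𝔇.Y := 𝔇.Y.fromSpecStalk ξ s₀
  have hηξ : η ⤳ ξ := by
    have h1 : s₀ ⤳ cp (𝔇.Y.presheaf.stalk ξ) := specializes_closedPoint s₀
    have h2 := h1.map (𝔇.Y.fromSpecStalk ξ).continuous
    rwa [fromSpecStalk_cp] at h2
  have hqη : 𝔇.qY η ≠ cp (CommRingCat.of R) := by
    intro hcon
    have h1 : 𝔇.π ∈ (𝔇.qY η : PrimeSpectrum R).asIdeal := by
      rw [hcon]; exact 𝔇.hπ.not_isUnit
    have h2 : st 𝔇.qY ξ 𝔇.π ∈ (s₀ : PrimeSpectrum (𝔇.Y.presheaf.stalk ξ)).asIdeal := by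
      rw [← ro_stalk 𝔇.qY ξ 𝔇.π]
      change 𝔇.π ∈ (𝔇.qY (𝔇.Y.fromSpecStalk ξ s₀) : PrimeSpectrum R).asIdeal at h1
      rw [← Scheme.Hom.comp_apply, ← map_ro (𝔇.Y.fromSpecStalk ξ ≫ 𝔇.qY)] at h1
      exact h1
    exact hirr.ne_zero h2
  have hfield : IsField (𝔇.Y.presheaf.stalk η) := isField_stalk_spec_bot ξ hdom s₀ rfl
  have hmax : ∀ t, t ⤳ η → t = η := eq_of_specializes_of_isField η hfield
  obtain ⟨y, hy1, hy2, hy3⟩ := exists_specializes 𝔇.qY 𝔇.nY η (fun t ht _ => hmax t ht)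
  have hqy : 𝔇.c (𝔇.g y) ≠ cp (CommRingCat.of R) := by
    have : 𝔇.c (𝔇.g y) = 𝔇.qY y := by rw [Scheme.Hom.comp_apply]
    rw [this, hy3]; exact hqη
  have h1 := closed_of_const 𝔇.hπ 𝔇.qY 𝔇.g 𝔇.c rfl U hconst' ξ (hmemU _ ⟨_, rfl⟩)
    ⟨hdom, hdvr, hirr⟩ η hηξ hqη (𝔇.g y) (hy1.map 𝔇.g.continuous) hqy
  exact hy2 (inj_of_isIso 𝔇.g (𝔇.c ⁻¹ᵁ Dπ 𝔇.π) y η (mem_O 𝔇 _ hqy) h1)

/-- The hypothesis that there is no exceptional component. -/
def NoExc (𝔇 : DD R) : Prop :=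
  ∀ Z ∈ irreducibleComponents (↥(pullback (𝔇.g ≫ 𝔇.c) (sp R)) : Type u),
    ¬ SSMod.IsExcComp (ResidueField R) (CInt.baseChangeOver 𝔇.g 𝔇.c (sp R))
      (pullback.snd (𝔇.g ≫ 𝔇.c) (sp R))
      ((pullback.fst (𝔇.g ≫ 𝔇.c) (sp R)).base ⁻¹' Set.range (𝔇.iY.base : 𝔇.DY → 𝔇.Y)) Z

theorem false_of_sit {𝔇 : DD R} (hno : NoExc 𝔇) (S : Sit 𝔇) : False := by
  obtain ⟨i, hi, e, c₀, hi1, hi2, he1, he2, he3⟩ := exists_e S
  obtain ⟨hg1, hg2, hg3, hg4⟩ := gen_facts S i e he1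
  have hnod := Groth.Agent.Sga7.H734.NodalBC.isNodalFamily_of_isPullback
    (IsPullback.of_hasPullback 𝔇.qY (sp R)) 𝔇.nY
  have hpr : IsProper (e ≫ pullback.snd 𝔇.qY (sp R)) := by
    rw [he3]; exact isProper_toSpec
  have hsm : ∀ p ∈ Set.range i, e p ∈ (pullback.snd 𝔇.qY (sp R)).smoothLocus ∧
      pullback.fst 𝔇.qY (sp R) (e p) ∉ Set.range 𝔇.iY := by
    rintro _ ⟨z, rfl⟩
    have := smooth_unmarked S (i ≫ e) (by rw [Category.assoc]; exact he1) z
    rwa [Scheme.Hom.comp_apply] at this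
  rcases K851.Curve.main (pullback.snd 𝔇.qY (sp R)) e hnod eq_generic_or_closed hg2
      (fun p hp => isDVR p hp) hg3 (Set.range i)ᶜ hi2
      (fun p hp _ => (hsm p (not_not.1 hp)).1) with h | h
  · have hcl : IsClosed (Set.range e) := e.isClosedEmbedding.isClosed_range
    refine hno (Set.range e) (range_mem_irreducibleComponents _ hnod e hcl hg2) ⟨⟨e, h, he3, rfl⟩, ?_, ?_⟩
    · have hsub : Set.range e ∩ ((pullback.fst (𝔇.g ≫ 𝔇.c) (sp R)).base ⁻¹'
          Set.range (𝔇.iY.base : 𝔇.DY → 𝔇.Y) ∪ DualGr.nonsmoothPts (pullback.snd (𝔇.g ≫ 𝔇.c) (sp R))) ⊆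
          e '' (Set.range i)ᶜ := by
        rintro _ ⟨⟨p, rfl⟩, hp⟩
        refine ⟨p, fun hpi => ?_, rfl⟩
        rcases hp with hp | hp
        · exact (hsm p hpi).2 hp
        · exact hp (hsm p hpi).1
      exact (Set.encard_le_encard hsub).trans ((Set.encard_image_le _ _).trans hi2)
    · rintro _ ⟨_, ⟨p, rfl⟩, rfl⟩ _ ⟨_, ⟨p', rfl⟩, rfl⟩
      change CInt.baseChangeOver 𝔇.g 𝔇.c (sp R) (e p) = CInt.baseChangeOver 𝔇.g 𝔇.c (sp R) (e p')
      rw [← Scheme.Hom.comp_apply, ← Scheme.Hom.comp_apply, he2, Scheme.Hom.comp_apply,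
        Scheme.Hom.comp_apply]
      congr 1
      exact subsingleton_spec _ _
  · exact false_of_clopen 𝔇 e h hg1

end K851.PR
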