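import Groth.Agent.SSMod.K851.Tx

/-!
# Selection of a component of the special fibre
-/

set_option autoImplicit false
set_option linter.unusedSectionVars false
set_option linter.dupNamespace false
universe u

open CategoryTheory CategoryTheory.Limits AlgebraicGeometry TopologicalSpace IsLocalRing

namespace K851.Sel

open K851.Fib K851.LemN K851.Et K851.Sep K851.Pt K851.Tor K851.Dat K851.NS K851.Line K851.Mark K851.Chart
  K851.DDef K851.Ext K851.Tx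

variable {R : Type u} [CommRing R] [IsDomain R] [IsDiscreteValuationRing R] {𝔇 : DD R}
variable {x₀ : Spec (CommRingCat.of (ResidueField R)) ⟶ 𝔇.X}
  (ch : Chart 𝔇.π 𝔇.qX (Set.range 𝔇.iX) x₀)

/-- The data at a component. -/
abbrev DT (ξ : 𝔇.Y) := Dat 𝔇.π 𝔇.c 𝔇.f 𝔇.g ch.e ch.xk ξ

/-- The map from the coordinate ring of the chart. -/
noncomputable def th {G : CommRingCat.{u}} (a : Spec G ⟶ ch.U) : ch.N →+* G :=
  (Spec.preimage (a ≫ ch.g)).hom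

theorem map_th {G : CommRingCat.{u}} (a : Spec G ⟶ ch.U) :
    Spec.map (CommRingCat.ofHom (th ch a)) = a ≫ ch.g := Spec.map_preimage _

theorem th_comp {G H : CommRingCat.{u}} (a : Spec G ⟶ ch.U) (φ : G ⟶ H) (n : ch.N) :
    th ch (Spec.map φ ≫ a) n = φ (th ch a n) := by
  have h : CommRingCat.ofHom (th ch (Spec.map φ ≫ a)) = CommRingCat.ofHom (th ch a) ≫ φ := by
    apply Spec.map_injective
    rw [Spec.map_comp, map_th, map_th, Category.assoc]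
  exact congr($h n)

theorem th_ι {G : CommRingCat.{u}} (a : Spec G ⟶ ch.U) (r : R) :
    th ch a (ch.ι r) = ro (a ≫ ch.e ≫ 𝔇.qX) r := by
  have h : CommRingCat.ofHom ch.ι ≫ CommRingCat.ofHom (th ch a) =
      CommRingCat.ofHom (ro (a ≫ ch.e ≫ 𝔇.qX)) := by
    apply Spec.map_injective
    rw [Spec.map_comp, map_th, map_ro, Category.assoc, ch.w]
  exact congr($h r)

theorem th_ι' {G : CommRingCat.{u}} (a : Spec G ⟶ ch.U) (b : Spec G ⟶ 𝔇.Y)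
    (w : a ≫ ch.e ≫ 𝔇.f = b ≫ 𝔇.g) (r : R) : th ch a (ch.ι r) = ro (b ≫ 𝔇.g ≫ 𝔇.c) r := by
  rw [th_ι]
  congr 2
  have : a ≫ ch.e ≫ 𝔇.qX = (a ≫ ch.e ≫ 𝔇.f) ≫ 𝔇.c := by simp only [Category.assoc]
  rw [this, w, Category.assoc]

theorem mem_th_iff {G : CommRingCat.{u}} (a : Spec G ⟶ ch.U) (s : Spec G) (n : ch.N) :
    th ch a n ∈ (s : PrimeSpectrum G).asIdeal ↔ n ∈ (ch.g (a s) : PrimeSpectrum ch.N).asIdeal := by
  rw [← Scheme.Hom.comp_apply, ← map_th]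
  rfl

theorem not_isUnit_th {G : CommRingCat.{u}} [IsLocalRing G] (a : Spec G ⟶ ch.U)
    (ha : ∀ t, a (cp G) = ch.xk t) (n : ch.N) (hn : oo ch.xk ch.g n = 0) : ¬ IsUnit (th ch a n) := by
  obtain ⟨t, -⟩ : ∃ s : Spec (CommRingCat.of (ResidueField R)), True :=
    ⟨closedPoint (ResidueField R), trivial⟩
  rw [oo_eq_zero_iff ch.xk ch.g t, ← ha t, ← mem_th_iff] at hn
  exact hn

theorem nz {ξ : 𝔇.Y} (d : DT ch ξ) (n : ch.N) (hn : n ∈ nonZeroDivisors ch.N) : th ch d.a n ≠ 0 := by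
  intro h0
  let s : Spec d.V := (⊥ : PrimeSpectrum d.V)
  have hs : s ≠ cp d.V := by
    intro h
    have h1 : (s : PrimeSpectrum d.V).asIdeal = maximalIdeal d.V := by rw [h]; rfl
    have h2 : (s : PrimeSpectrum d.V).asIdeal = ⊥ := rfl
    rw [h2] at h1
    exact IsDiscreteValuationRing.not_a_field d.V h1.symm
  have hF := d.gen s hs
  have h1 : n ∈ (ch.g (d.a s) : PrimeSpectrum ch.N).asIdeal := by
    rw [← mem_th_iff, h0]
    exact zero_mem _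
  have h2 : st ch.g (d.a s) n = 0 := by
    by_contra hne
    obtain ⟨y, hy⟩ := hF.mul_inv_cancel hne
    exact (isUnit_st_iff ch.g (d.a s) n).1 (IsUnit.of_mul_eq_one _ hy) h1
  let _ : Algebra ch.N (ch.U.presheaf.stalk (d.a s)) := (st ch.g (d.a s)).toAlgebra
  have hfl : Module.Flat ch.N (ch.U.presheaf.stalk (d.a s)) := flat_st ch.g (d.a s)
  have h3 : IsSMulRegular (ch.U.presheaf.stalk (d.a s)) n :=
    Module.Flat.isSMulRegular_of_nonZeroDivisors hn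
  have h4 : (1 : ch.U.presheaf.stalk (d.a s)) = 0 := by
    apply h3
    change st ch.g (d.a s) n * 1 = st ch.g (d.a s) n * 0
    rw [h2, zero_mul, zero_mul]
  exact one_ne_zero h4

/-- The valuation at `ξ` is `m` on `x` and `x / π ^ m` is constant modulo `π ^ l`. -/
def Qd (x : ch.N) (m : ℕ) {ξ : 𝔇.Y} (d : DT ch ξ) (l : ℕ) (c : R) : Prop :=
  ∃ w : d.V, IsUnit w ∧ IsUnit c ∧ th ch d.a x = th ch d.a (ch.ι 𝔇.π) ^ m * w ∧
    th ch d.a (ch.ι 𝔇.π) ^ l ∣ w - th ch d.a (ch.ι c)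

theorem unif_th {ξ : 𝔇.Y} (d : DT ch ξ) : Irreducible (th ch d.a (ch.ι 𝔇.π)) := by
  rw [th_ι' ch d.a d.b d.w]
  exact d.unif

/-- Transfer from a local ring dominating the datum. -/
theorem transfer {ξ : 𝔇.Y} (d : DT ch ξ) (G : CommRingCat.{u}) [IsLocalRing G] (a' : Spec G ⟶ ch.U)
    (b' : Spec G ⟶ 𝔇.Y) (w : a' ≫ ch.e ≫ 𝔇.f = b' ≫ 𝔇.g)
    (hG : ∀ x : G, ro (b' ≫ 𝔇.g ≫ 𝔇.c) 𝔇.π * x = 0 → x = 0) (hb : b' (cp G) = ξ)
    (ha : ∀ t, a' (cp G) = ch.xk t) (x : ch.N) (m l : ℕ) (c : R) (hc : IsUnit c) (wG : G) (hwG : IsUnit wG)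
    (hx : th ch a' x = th ch a' (ch.ι 𝔇.π) ^ m * wG)
    (hl : th ch a' (ch.ι 𝔇.π) ^ l ∣ wG - th ch a' (ch.ι c)) : Qd ch x m d l c := by
  obtain ⟨φ, hφ1, hφ2, hφ3⟩ := d.univ G a' b' w hG hb ha
  have hφ : ∀ n, φ.hom (th ch d.a n) = th ch a' n := by
    intro n
    rw [← hφ2]
    exact (th_comp ch d.a φ n).symm
  have hreg : ∀ z, φ.hom (th ch d.a (ch.ι 𝔇.π)) * z = 0 → z = 0 := by
    intro z hz
    apply hG z
    rw [hφ, th_ι' ch a' b' w] at hz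
    exact hz
  obtain ⟨v, hv1, hv2⟩ := K851.Loc.div_lift φ.hom (unif_th ch d) hreg (th ch d.a x) m wG
    (by rw [hφ, hφ]; exact hx)
  obtain ⟨y, hy⟩ := hl
  obtain ⟨v', hv1', hv2'⟩ := K851.Loc.div_lift φ.hom (unif_th ch d) hreg (v - th ch d.a (ch.ι c)) l y
    (by rw [map_sub, hv2, hφ, hφ]; exact hy)
  exact ⟨v, isUnit_of_map_unit φ.hom v (hv2 ▸ hwG), hc, hv1, ⟨v', hv1'⟩⟩

/-- Transfer between two data at the same component. -/
theorem Qd_transfer {x : ch.N} {m : ℕ} {ξ : 𝔇.Y} (d d' : DT ch ξ) {l : ℕ} {c : R}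
    (h : Qd ch x m d' l c) : Qd ch x m d l c := by
  obtain ⟨w, h1, h2, h3, h4⟩ := h
  exact transfer ch d d'.V d'.a d'.b d'.w (fun z hz => by
    rcases mul_eq_zero.1 hz with h | h
    · exact absurd h d'.unif.ne_zero
    · exact h) d'.hb d'.ha x m l c h2 w h1 h3 h4

theorem bounded [IsAdicComplete (maximalIdeal R) R] {x : ch.N} {m : ℕ}
    (hT : Toric 𝔇.π ch.ι (oo ch.xk ch.g) x m) {ξ : 𝔇.Y} (d : DT ch ξ) :
    ∃ L, ∀ l c, Qd ch x m d l c → l ≤ L := by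
  by_contra hcon
  push Not at hcon
  obtain ⟨l₀, c₀, hq₀, -⟩ := hcon 0
  obtain ⟨w, hw1, -, hw3, -⟩ := hq₀
  have hirr := unif_th ch d
  obtain ⟨c, hc⟩ := K851.Loc.exists_eq_of_approx ((th ch d.a).comp ch.ι) 𝔇.hπ hirr w fun n => by
    obtain ⟨l, c, hq, hl⟩ := hcon n
    obtain ⟨w', h1, -, h3, h4⟩ := hq
    have : w' = w := by
      apply mul_left_cancel₀ (pow_ne_zero m hirr.ne_zero)
      rw [← h3, hw3]
    subst this
    exact ⟨c, (pow_dvd_pow _ hl.le).trans h4⟩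
  have hc0 : c ≠ 0 := by
    rintro rfl
    rw [map_zero] at hc
    rw [hc] at hw1
    exact not_isUnit_zero hw1
  refine nz ch d (x - ch.ι (𝔇.π ^ m * c)) (hT.nzd _ (mul_ne_zero (pow_ne_zero m 𝔇.hπ.ne_zero) hc0)) ?_
  rw [map_sub, hw3, hc, map_mul, map_pow, map_mul, map_pow]
  exact sub_self _

/-- The maximal choice. -/
theorem exists_max [IsAdicComplete (maximalIdeal R) R] {x : ch.N} {m : ℕ}
    (hT : Toric 𝔇.π ch.ι (oo ch.xk ch.g) x m) (S : Set 𝔇.Y) (hS : S.Finite) {ξ₀ : 𝔇.Y} (hξ₀ : ξ₀ ∈ S)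
    (d₀ : DT ch ξ₀) (h₀ : ∃ w, IsUnit w ∧ th ch d₀.a x = th ch d₀.a (ch.ι 𝔇.π) ^ m * w) :
    ∃ ξ ∈ S, ∃ (d : DT ch ξ) (l : ℕ) (c : R), Qd ch x m d l c ∧
      ∀ ξ' ∈ S, ∀ (d' : DT ch ξ') (l' : ℕ) (c' : R), Qd ch x m d' l' c' → l' ≤ l := by
  classical
  let P : ℕ → Prop := fun l => ∃ ξ ∈ S, ∃ (d : DT ch ξ) (c : R), Qd ch x m d l c
  have hbd : ∃ L, ∀ l, P l → l ≤ L := by
    have h1 : ∀ ξ ∈ S, ∃ L, ∀ (d : DT ch ξ) l c, Qd ch x m d l c → l ≤ L := by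
      intro ξ _
      by_cases hne : Nonempty (DT ch ξ)
      · obtain ⟨d⟩ := hne
        obtain ⟨L, hL⟩ := bounded ch hT d
        exact ⟨L, fun d' l c h => hL l c (Qd_transfer ch d d' h)⟩
      · exact ⟨0, fun d => absurd ⟨d⟩ hne⟩
    choose! L hL using h1
    refine ⟨hS.toFinset.sup L, ?_⟩
    rintro l ⟨ξ, hξ, d, c, h⟩
    exact (hL ξ hξ d l c h).trans (Finset.le_sup (f := L) (hS.mem_toFinset.2 hξ))
  obtain ⟨L, hL⟩ := hbd
  obtain ⟨w, hw1, hw2⟩ := h₀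
  have h0 : P 0 := ⟨ξ₀, hξ₀, d₀, 1, w, hw1, isUnit_one, hw2, by rw [pow_zero]; exact one_dvd _⟩
  obtain ⟨ξ, hξ, d, c, h⟩ := Nat.findGreatest_spec (P := P) (Nat.zero_le L) h0
  refine ⟨ξ, hξ, d, _, c, h, ?_⟩
  intro ξ' hξ' d' l' c' h'
  exact Nat.le_findGreatest (hL l' ⟨ξ', hξ', d', c', h'⟩) ⟨ξ', hξ', d', c', h'⟩

end K851.Sel
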