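import Groth.Agent.SSMod.K851.Ext
import Groth.Agent.SSMod.K851.Et
import Groth.Agent.SSMod.K851.LemN
import Mathlib.AlgebraicGeometry.IdealSheaf.Functorial

/-!
# Morphisms from spectra of flat algebras over a discrete valuation ring
-/

set_option autoImplicit false
set_option linter.unusedSectionVars false
universe u

open CategoryTheory CategoryTheory.Limits AlgebraicGeometry TopologicalSpace IsLocalRing

namespace K851.Sep

open K851.Fib K851.LemN K851.Et

theorem dominant_spec {A B : CommRingCat.{u}} (φ : A ⟶ B) (h : Function.Injective φ) :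
    IsSchemeTheoreticallyDominant (Spec.map φ) := by
  rw [isSchemeTheoreticallyDominant_iff]
  apply Scheme.IdealSheafData.ext_of_isAffine
  rw [Scheme.Hom.ker_apply]
  simp only [Scheme.IdealSheafData.ideal_bot, Pi.bot_apply]
  rw [← RingHom.injective_iff_ker_eq_bot]
  intro x y hxy
  have h2 := Scheme.ΓSpecIso_naturality φ
  have h3 : ∀ x, (Scheme.ΓSpecIso B).hom.hom ((Spec.map φ).appTop.hom x) =
      φ.hom ((Scheme.ΓSpecIso A).hom.hom x) := by
    intro x
    rw [← RingHom.comp_apply, ← RingHom.comp_apply, ← CommRingCat.hom_comp, ← CommRingCat.hom_comp, h2]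
  have h4 : φ.hom ((Scheme.ΓSpecIso A).hom.hom x) = φ.hom ((Scheme.ΓSpecIso A).hom.hom y) := by
    rw [← h3, ← h3]
    exact congrArg _ hxy
  exact (ConcreteCategory.bijective_of_isIso (Scheme.ΓSpecIso A).hom).1 (h h4)

variable {R : Type u} [CommRing R]

/-- The structure map of the coordinate ring of an affine scheme over `R`. -/
noncomputable def ro {G : CommRingCat.{u}} (a : Spec G ⟶ Spec (CommRingCat.of R)) : R →+* G :=
  (Spec.preimage a).hom

@[simp]
theorem map_ro {G : CommRingCat.{u}} (a : Spec G ⟶ Spec (CommRingCat.of R)) :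
    Spec.map (CommRingCat.ofHom (ro a)) = a := Spec.map_preimage a

theorem ro_comp {G H : CommRingCat.{u}} (φ : G ⟶ H) (a : Spec G ⟶ Spec (CommRingCat.of R)) (r : R) :
    ro (Spec.map φ ≫ a) r = φ (ro a r) := by
  have h : CommRingCat.ofHom (ro (Spec.map φ ≫ a)) = CommRingCat.ofHom (ro a) ≫ φ := by
    apply Spec.map_injective
    rw [map_ro, Spec.map_comp, map_ro]
  exact congr($h r)

theorem ro_map {G : CommRingCat.{u}} (φ : CommRingCat.of R ⟶ G) (r : R) : ro (Spec.map φ) r = φ r := by
  have h : CommRingCat.ofHom (ro (Spec.map φ)) = φ := by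
    apply Spec.map_injective
    rw [map_ro]
  exact congr($h r)

/-- The composite with an `R`-scheme. -/
theorem ro_stalk {Z : Scheme.{u}} (q : Z ⟶ Spec (CommRingCat.of R)) (z : Z) (r : R) :
    ro (Z.fromSpecStalk z ≫ q) r = st q z r := by
  have h : CommRingCat.ofHom (ro (Z.fromSpecStalk z ≫ q)) = (Scheme.ΓSpecIso (CommRingCat.of R)).inv ≫
      q.appTop ≫ Z.presheaf.germ ⊤ z (show z ∈ (⊤ : Z.Opens) from trivial) := by
    apply Spec.map_injective
    rw [map_ro]
    rw [Spec.map_comp, Spec.map_comp]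
    have h1 := Scheme.fromSpecStalk_toSpecΓ Z z
    have h2 : Z.toSpecΓ ≫ Spec.map q.appTop = q ≫ (Spec (CommRingCat.of R)).toSpecΓ :=
      (Scheme.toSpecΓ_naturality q).symm
    rw [← h1, Category.assoc, Category.assoc, reassoc_of% h2, toSpecΓ_SpecMap_ΓSpecIso_inv,
      Category.comp_id]
  exact congr($h r)

variable [IsDomain R] [IsDiscreteValuationRing R]

theorem mem_iff {Z : Scheme.{u}} (q : Z ⟶ Spec (CommRingCat.of R)) (π : R) (z : Z) :
    z ∈ q ⁻¹ᵁ (PrimeSpectrum.basicOpen π : TopologicalSpace.Opens (PrimeSpectrum R)) ↔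
      π ∉ (q z : PrimeSpectrum R).asIdeal := Iff.rfl

theorem mem_of_isUnit {G : CommRingCat.{u}} (a : Spec G ⟶ Spec (CommRingCat.of R)) (π : R)
    (h : IsUnit (ro a π)) (s : Spec G) : π ∉ (a s : PrimeSpectrum R).asIdeal := by
  intro h1
  rw [← map_ro a] at h1
  have h2 : ro a π ∈ (s : PrimeSpectrum G).asIdeal := h1
  exact (s : PrimeSpectrum G).2.ne_top (Ideal.eq_top_of_isUnit_mem _ h2 h)

/-- Morphisms over `C` from the spectrum of a ring on which `π` is regular to a separated `C`-scheme which is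
isomorphic to `C` over the generic fibre. -/
theorem uniq {π : R} {C X : Scheme.{u}} (c : C ⟶ Spec (CommRingCat.of R)) (f : X ⟶ C) [IsSeparated f]
    [Mono (f ∣_ (c ⁻¹ᵁ (PrimeSpectrum.basicOpen π : TopologicalSpace.Opens (PrimeSpectrum R))))]
    {G : CommRingCat.{u}} (α β : Spec G ⟶ X) (h : α ≫ f = β ≫ f)
    (hG : ∀ x : G, ro (α ≫ f ≫ c) π * x = 0 → x = 0) : α = β := by
  let ϖ := ro (α ≫ f ≫ c) π
  let G' := CommRingCat.of (Localization.Away ϖ)
  let l : G ⟶ G' := CommRingCat.ofHom (algebraMap G (Localization.Away ϖ))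
  have hl : Function.Injective l := by
    apply IsLocalization.injective (Localization.Away ϖ) (M := Submonoid.powers ϖ)
    rw [Submonoid.powers_le]
    exact mem_nonZeroDivisors_iff_left.2 fun x hx => hG x hx
  have h1 := dominant_spec l hl
  refine K851.Ext.hom_ext (Spec.map l) f α β h ?_
  refine lift_unique f (c ⁻¹ᵁ (PrimeSpectrum.basicOpen π : TopologicalSpace.Opens (PrimeSpectrum R))) _ _
    (by rw [Category.assoc, Category.assoc, h]) fun s => ?_
  rw [mem_iff, ← Scheme.Hom.comp_apply, ← Scheme.Hom.comp_apply]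
  apply mem_of_isUnit
  rw [Category.assoc, ro_comp]
  exact IsLocalization.Away.algebraMap_isUnit ϖ

end K851.Sep
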