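import Groth.Agent.SSMod.K851.TC

/-!
# The situation attached to a bad point
-/

set_option autoImplicit false
set_option linter.unusedSectionVars false
set_option linter.dupNamespace false
universe u

open CategoryTheory CategoryTheory.Limits AlgebraicGeometry TopologicalSpace IsLocalRing

namespace K851.Sit

open K851.Fib K851.LemN K851.Et K851.Sep K851.Pt K851.Tor K851.Dat K851.NS K851.Line K851.Mark K851.Chart
  K851.DDef K851.Ext K851.Tx K851.Sel K851.TA K851.TB K851.TC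

/-- The structure map of a principal open of the line. -/
noncomputable abbrev kP {k : Type u} [Field k] (p : Polynomial k) : k →+* Localization.Away p :=
  (algebraMap (Polynomial k) (Localization.Away p)).comp Polynomial.C

/-- A smooth `X`-scheme `T` with a map to `Y`, and a rational curve in its special fibre contracted to a point
in `X` and mapping birationally onto a component of the special fibre of `Y`. -/
structure Sit {R : Type u} [CommRing R] [IsDomain R] [IsDiscreteValuationRing R] (𝔇 : DD R) where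
  T : Scheme.{u}
  s : T ⟶ 𝔇.X
  h : T ⟶ 𝔇.Y
  w : h ≫ 𝔇.g = s ≫ 𝔇.f
  sm : Smooth (s ≫ 𝔇.qX)
  sml : ∀ t : T, 𝔇.qX (s t) ≠ cp (CommRingCat.of R) → s t ∈ 𝔇.qX.smoothLocus ∧ s t ∉ Set.range 𝔇.iX
  x₀ : Spec (CommRingCat.of (ResidueField R)) ⟶ 𝔇.X
  hx₀ : x₀ ≫ 𝔇.qX = sp R
  p : Polynomial (ResidueField R)
  hp : p ≠ 0
  hdeg : p.natDegree ≤ 1
  j : Spec (CommRingCat.of (Localization.Away p)) ⟶ T
  js : j ≫ s = Spec.map (CommRingCat.ofHom (kP p)) ≫ x₀
  gen : ∀ η : Spec (CommRingCat.of (Localization.Away p)), (η : PrimeSpectrum _).asIdeal = ⊥ →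
    ¬ IsClosed ({(j ≫ h) η} : Set 𝔇.Y) ∧ Function.Surjective ((j ≫ h).stalkMap η)

variable {R : Type u} [CommRing R] [IsDomain R] [IsDiscreteValuationRing R] [IsAlgClosed (ResidueField R)]
  {𝔇 : DD R}

theorem mem_of_closed {k : Type u} [Field k] [IsAlgClosed k] {B : Type u} [CommRing B] (φ : k →+* B)
    (hφ : LocallyOfFiniteType (Spec.map (CommRingCat.ofHom φ))) (V : (Spec (CommRingCat.of B)).Opens)
    (h : ∀ (b : Spec (CommRingCat.of k) ⟶ Spec (CommRingCat.of B)) (t : Spec (CommRingCat.of k)),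
      b ≫ Spec.map (CommRingCat.ofHom φ) = 𝟙 _ → b t ∈ V) (z : Spec (CommRingCat.of B)) : z ∈ V := by
  obtain ⟨M, hM, hzM⟩ := (z : PrimeSpectrum B).asIdeal.exists_le_maximal (z : PrimeSpectrum B).2.ne_top
  let z' : Spec (CommRingCat.of B) := (⟨M, hM.isPrime⟩ : PrimeSpectrum B)
  have h1 : IsClosed ({z'} : Set (Spec (CommRingCat.of B))) :=
    (PrimeSpectrum.isClosed_singleton_iff_isMaximal (z' : PrimeSpectrum B)).2 hM
  have h2 : z ⤳ z' := (PrimeSpectrum.le_iff_specializes (z : PrimeSpectrum B) z').1 hzM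
  apply h2.mem_open V.2
  obtain ⟨t, -⟩ : ∃ s : Spec (CommRingCat.of k), True := ⟨closedPoint k, trivial⟩
  have h3 := h (pointOfClosedPoint (Spec.map (CommRingCat.ofHom φ)) z' h1) t
    (pointOfClosedPoint_comp _ z' h1)
  rwa [pointOfClosedPoint_apply] at h3

theorem lft_kP {k : Type u} [Field k] (p : Polynomial k) :
    LocallyOfFiniteType (Spec.map (CommRingCat.ofHom (kP p))) := by
  have h4 : LocallyOfFiniteType (Spec.map (CommRingCat.ofHom (Polynomial.C : k →+* Polynomial k))) := by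
    rw [HasRingHomProperty.Spec_iff (P := @LocallyOfFiniteType)]
    change (algebraMap k (Polynomial k)).FiniteType
    exact RingHom.finiteType_algebraMap.2 inferInstance
  have h2 : IsOpenImmersion (Spec.map (CommRingCat.ofHom (algebraMap (Polynomial k)
      (Localization.Away p)))) := IsOpenImmersion.of_isLocalization p
  have h3 : Spec.map (CommRingCat.ofHom (kP p)) =
      Spec.map (CommRingCat.ofHom (algebraMap (Polynomial k) (Localization.Away p))) ≫
        Spec.map (CommRingCat.ofHom (Polynomial.C : k →+* Polynomial k)) := by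
    rw [← Spec.map_comp]
    rfl
  rw [h3]
  infer_instance

theorem isDomain_away {k : Type u} [Field k] {p : Polynomial k} (hp : p ≠ 0) :
    IsDomain (Localization.Away p) :=
  IsLocalization.isDomain_localization (powers_le_nonZeroDivisors_of_noZeroDivisors hp)

theorem lift_spec {V : CommRingCat.{u}} [IsLocalRing V] {T : Scheme.{u}} (a : Spec V ⟶ T) (O : T.Opens)
    (h : a (cp V) ∈ O) : ∃ a' : Spec V ⟶ O, a' ≫ O.ι = a := by
  refine ⟨IsOpenImmersion.lift O.ι a ?_, IsOpenImmersion.lift_fac _ _ _⟩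
  rintro _ ⟨s, rfl⟩
  rw [Scheme.Opens.range_ι]
  have h1 : s ⤳ cp V := specializes_closedPoint s
  exact (h1.map a.continuous).mem_open O.2 h

variable {x₀ : Spec (CommRingCat.of (ResidueField R)) ⟶ 𝔇.X} (hx₀ : x₀ ≫ 𝔇.qX = sp R)
  (ch : Chart 𝔇.π 𝔇.qX (Set.range 𝔇.iX) x₀)
  {x : ch.N} {m : ℕ} (hT : Toric 𝔇.π ch.ι (oo ch.xk ch.g) x m)

include hx₀ hT in
theorem exists_sit [IsAdicComplete (maximalIdeal R) R]
    (hD : ∀ u : ch.U, ch.e u ∈ Set.range 𝔇.iX → x ∈ (ch.g u : PrimeSpectrum ch.N).asIdeal)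
    (hsm : ∀ u : ch.U, x ∉ (ch.g u : PrimeSpectrum ch.N).asIdeal → ch.e u ∈ 𝔇.qX.smoothLocus)
    {ξ₀ : 𝔇.Y} (hξ₀ : ξ₀ ∈ Ws 𝔇) (d₀ : DT ch ξ₀)
    (h₀ : ∃ w, IsUnit w ∧ th ch d₀.a x = th ch d₀.a (ch.ι 𝔇.π) ^ m * w) : Nonempty (Sit 𝔇) := by
  obtain ⟨ξ, hξ, d, l, c, ⟨w, hw, hc, hx, u, hu⟩, hmax⟩ :=
    exists_max ch hT (Ws 𝔇) (finite_Ws 𝔇) hξ₀ d₀ h₀
  have hu' : w = th ch d.a (ch.ι c) + th ch d.a (ch.ι 𝔇.π) ^ l * u := by rw [← hu]; ring
  have hmu : ∀ r, IsUnit (u - th ch d.a (ch.ι r)) := by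
    intro r
    by_contra hr
    have := hmax ξ hξ d (l + 1) _ (Qd_succ ch l c d w u hw hx hu' r hr)
    omega
  obtain ⟨aT, β, h1, hβ, h3⟩ := exists_beta hx₀ ch hT l c d w u hw hx hu' hmu
  have hsmT : Smooth ((tU ch hT l c ≫ ch.e) ≫ 𝔇.qX) := smooth_T ch hT l c
  obtain ⟨h, hh⟩ := exists_extension 𝔇 (tU ch hT l c ≫ ch.e) (isReduced_fiber ch hT l c)
  have hft : LocallyOfFiniteType (sB (𝔇 := 𝔇) l c) := by
    exact lft_kP ((wp 𝔇 l c).map (residue R))
  have hmem : ∀ z, jA ch hT l c z ∈ gd 𝔇 (tU ch hT l c ≫ ch.e) := by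
    refine mem_of_closed (kB 𝔇 l c) hft ((jA ch hT l c) ⁻¹ᵁ gd 𝔇 (tU ch hT l c ≫ ch.e)) ?_
    intro b t hb
    by_contra hcon
    obtain ⟨ξ', hξ', d', c', hq⟩ := improve hx₀ ch hT l c b hb t hcon
    have := hmax ξ' hξ' d' (l + 1) c' hq
    omega
  obtain ⟨j, hj⟩ : ∃ j : Spec (CommRingCat.of (BB 𝔇 l c)) ⟶ (gd 𝔇 (tU ch hT l c ≫ ch.e) : Scheme.{u}),
      j ≫ (gd 𝔇 (tU ch hT l c ≫ ch.e)).ι = jA ch hT l c := by
    refine ⟨IsOpenImmersion.lift _ (jA ch hT l c) ?_, IsOpenImmersion.lift_fac _ _ _⟩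
    rintro _ ⟨s, rfl⟩
    rw [Scheme.Opens.range_ι]
    exact hmem s
  obtain ⟨aT', haT'⟩ := lift_spec aT (gd 𝔇 (tU ch hT l c ≫ ch.e)) (by
    obtain ⟨t, -⟩ : ∃ s : Spec (CommRingCat.of (ResidueField d.V)), True :=
      ⟨closedPoint (ResidueField d.V), trivial⟩
    rw [← map_residue d.V t, ← Scheme.Hom.comp_apply, h3, Scheme.Hom.comp_apply]
    exact hmem _)
  have h4 : Spec.map (CommRingCat.ofHom (residue d.V)) ≫ aT' = Spec.map (CommRingCat.ofHom β) ≫ j := by
    rw [← cancel_mono (gd 𝔇 (tU ch hT l c ≫ ch.e)).ι, Category.assoc, haT', h3, Category.assoc, hj]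
  have h5 : aT' ≫ h = d.b := by
    refine uniq (π := 𝔇.π) 𝔇.c 𝔇.g _ _ ?_ ?_
    · rw [Category.assoc, hh, reassoc_of% haT', ← d.w, ← h1]
      simp only [Category.assoc]
    · intro z hz
      have h6 : (aT' ≫ h) ≫ 𝔇.g ≫ 𝔇.c = d.b ≫ 𝔇.g ≫ 𝔇.c := by
        rw [Category.assoc, reassoc_of% hh, reassoc_of% haT', ← Category.assoc d.b, ← d.w, ← h1]
        simp only [Category.assoc]
      rw [h6] at hz
      exact (mul_eq_zero.1 hz).resolve_left d.unif.ne_zero
  have hpne : (wp 𝔇 l c).map (residue R) ≠ 0 := by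
    have h6 : IsUnit (residue R c) := hc.map _
    intro h7
    have h8 : ((wp 𝔇 l c).map (residue R)).coeff 0 = 0 := by rw [h7]; simp
    have h9 : ((wp 𝔇 l c).map (residue R)).coeff 0 = residue R c := by
      simp [wp]
    rw [h9] at h8
    exact h6.ne_zero h8
  have hdomB : IsDomain (BB 𝔇 l c) := isDomain_away hpne
  refine ⟨{
    T := gd 𝔇 (tU ch hT l c ≫ ch.e)
    s := (gd 𝔇 (tU ch hT l c ≫ ch.e)).ι ≫ tU ch hT l c ≫ ch.e
    h := h
    w := by rw [hh]; simp only [Category.assoc]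
    sm := by
      have : ((gd 𝔇 (tU ch hT l c ≫ ch.e)).ι ≫ tU ch hT l c ≫ ch.e) ≫ 𝔇.qX =
        (gd 𝔇 (tU ch hT l c ≫ ch.e)).ι ≫ (tU ch hT l c ≫ ch.e) ≫ 𝔇.qX := by simp only [Category.assoc]
      rw [this]
      infer_instance
    sml := ?_
    x₀ := x₀
    hx₀ := hx₀
    p := (wp 𝔇 l c).map (residue R)
    hp := hpne
    hdeg := ?_
    j := j
    js := ?_
    gen := ?_ }⟩
  · intro t ht
    let t' : T ch hT l c := (gd 𝔇 (tU ch hT l c ≫ ch.e)).ι t
    have hst : ((gd 𝔇 (tU ch hT l c ≫ ch.e)).ι ≫ tU ch hT l c ≫ ch.e) t = ch.e (tU ch hT l c t') := by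
      simp only [Scheme.Hom.comp_apply]; rfl
    rw [hst] at ht ⊢
    have hxn : x ∉ (ch.g (tU ch hT l c t') : PrimeSpectrum ch.N).asIdeal := by
      rw [← Scheme.Hom.comp_apply, tU_tA, Scheme.Hom.comp_apply]
      change psi ch hT l c x ∉ (tA ch hT l c t' : PrimeSpectrum (AA 𝔇 l c)).asIdeal
      rw [psi_x]
      intro hcon
      rcases (tA ch hT l c t' : PrimeSpectrum (AA 𝔇 l c)).2.mem_or_mem hcon with h6 | h6
      · have h7 := (tA ch hT l c t' : PrimeSpectrum (AA 𝔇 l c)).2.mem_of_pow_mem _ h6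
        apply ht
        have h8 : 𝔇.qX (ch.e (tU ch hT l c t')) =
            Spec.map (CommRingCat.ofHom (ρA 𝔇 l c)) (tA ch hT l c t') := by
          exact (congr($(tA_ρ ch hT l c) t')).symm
        rw [h8]
        have h9 : 𝔇.π ∈ (Spec.map (CommRingCat.ofHom (ρA 𝔇 l c)) (tA ch hT l c t') :
          PrimeSpectrum R).asIdeal := h7
        by_contra hne
        have h10 := eq_bot_of_ne (V := CommRingCat.of R) _ hne
        rw [h10] at h9
        exact 𝔇.hπ.ne_zero h9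
      · exact (tA ch hT l c t' : PrimeSpectrum (AA 𝔇 l c)).2.ne_top
          (Ideal.eq_top_of_isUnit_mem _ h6 (isUnit_wA 𝔇 l c))
    exact ⟨hsm _ hxn, fun h6 => hxn (hD _ h6)⟩
  · refine (Polynomial.natDegree_map_le).trans ?_
    unfold wp
    refine (Polynomial.natDegree_add_le _ _).trans ?_
    rw [Polynomial.natDegree_C]
    refine max_le (Nat.zero_le _) ?_
    exact (Polynomial.natDegree_C_mul_le _ _).trans Polynomial.natDegree_X_le
  · rw [reassoc_of% hj, ← Category.assoc, jA_tU, Category.assoc, ch.hxk]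
    rfl
  · intro η hη
    let s₀ : Spec (CommRingCat.of (ResidueField d.V)) := cp (CommRingCat.of (ResidueField d.V))
    have hη' : Spec.map (CommRingCat.ofHom β) s₀ = η := by
      apply PrimeSpectrum.ext
      rw [hη]
      have h6 : (s₀ : PrimeSpectrum (ResidueField d.V)).asIdeal = ⊥ := by
        have : s₀ = (⊥ : PrimeSpectrum (ResidueField d.V)) := Subsingleton.elim (α := PrimeSpectrum _) _ _
        rw [this]; rfl
      change Ideal.comap β (s₀ : PrimeSpectrum (ResidueField d.V)).asIdeal = ⊥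
      rw [h6, ← RingHom.ker_eq_comap_bot]
      exact (RingHom.injective_iff_ker_eq_bot β).1 hβ
    have h6 : Spec.map (CommRingCat.ofHom β) ≫ j ≫ h = Spec.map (CommRingCat.ofHom (residue d.V)) ≫ d.b := by
      rw [← reassoc_of% h4, h5]
    constructor
    · rw [← hη', ← Scheme.Hom.comp_apply, h6, Scheme.Hom.comp_apply, map_residue, d.hb]
      exact hξ.2
    · rw [← hη']
      have h7 := d.res s₀
      rw [← h6] at h7
      refine surj_of_comp (Spec.map (CommRingCat.ofHom β)) _ s₀ h7 (inj_of_isField ?_ _)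
      rw [hη']
      exact isField_stalk_bot (BB 𝔇 l c) η hη

end K851.Sit
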