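import Groth.Agent.SSMod.K851.Sel

/-!
# The blow-up charts
-/

set_option autoImplicit false
set_option linter.unusedSectionVars false
set_option linter.dupNamespace false
universe u

open CategoryTheory CategoryTheory.Limits AlgebraicGeometry TopologicalSpace IsLocalRing

namespace K851.TA

open K851.Fib K851.LemN K851.Et K851.Sep K851.Pt K851.Tor K851.Dat K851.NS K851.Line K851.Mark K851.Chart
  K851.DDef K851.Ext K851.Tx K851.Sel

variable {R : Type u} [CommRing R] [IsDomain R] [IsDiscreteValuationRing R] (𝔇 : DD R)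

/-- The polynomial `c + π ^ l u`. -/
noncomputable def wp (l : ℕ) (c : R) : Polynomial R :=
  Polynomial.C c + Polynomial.C (𝔇.π ^ l) * Polynomial.X

/-- The coordinate ring of the chart. -/
abbrev AA (l : ℕ) (c : R) : Type u := Localization.Away (wp 𝔇 l c)

noncomputable def ρA (l : ℕ) (c : R) : R →+* AA 𝔇 l c :=
  (algebraMap (Polynomial R) (AA 𝔇 l c)).comp Polynomial.C

noncomputable def uA (l : ℕ) (c : R) : AA 𝔇 l c := algebraMap (Polynomial R) (AA 𝔇 l c) Polynomial.X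

noncomputable def wA (l : ℕ) (c : R) : AA 𝔇 l c := algebraMap (Polynomial R) (AA 𝔇 l c) (wp 𝔇 l c)

theorem wA_eq (l : ℕ) (c : R) : wA 𝔇 l c = ρA 𝔇 l c c + ρA 𝔇 l c 𝔇.π ^ l * uA 𝔇 l c := by
  have h : wp 𝔇 l c = Polynomial.C c + Polynomial.C (𝔇.π ^ l) * Polynomial.X := rfl
  have h2 : wA 𝔇 l c = algebraMap (Polynomial R) (AA 𝔇 l c)
    (Polynomial.C c + Polynomial.C (𝔇.π ^ l) * Polynomial.X) := congrArg _ h
  rw [h2, map_add, map_mul, ← map_pow (ρA 𝔇 l c)]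
  rfl

theorem isUnit_wA (l : ℕ) (c : R) : IsUnit (wA 𝔇 l c) := IsLocalization.Away.algebraMap_isUnit _

/-- Homs from the coordinate ring. -/
theorem AA_lift {l : ℕ} {c : R} {L : Type*} [CommRing L] (ρ : R →+* L) (v : L)
    (h : IsUnit (ρ c + ρ 𝔇.π ^ l * v)) : ∃ α : AA 𝔇 l c →+* L, (∀ r, α (ρA 𝔇 l c r) = ρ r) ∧
      α (uA 𝔇 l c) = v ∧ α (wA 𝔇 l c) = ρ c + ρ 𝔇.π ^ l * v := by
  have h1 : (Polynomial.eval₂RingHom ρ v) (wp 𝔇 l c) = ρ c + ρ 𝔇.π ^ l * v := by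
    simp [wp, Polynomial.eval₂_pow]
  have h2 : IsUnit ((Polynomial.eval₂RingHom ρ v) (wp 𝔇 l c)) := by rw [h1]; exact h
  refine ⟨IsLocalization.Away.lift (wp 𝔇 l c) h2, ?_, ?_, ?_⟩
  · intro r
    refine (IsLocalization.Away.lift_eq _ h2 (Polynomial.C r)).trans ?_
    simp
  · refine (IsLocalization.Away.lift_eq _ h2 Polynomial.X).trans ?_
    simp
  · exact (IsLocalization.Away.lift_eq _ h2 (wp 𝔇 l c)).trans h1

theorem AA_ext {l : ℕ} {c : R} {L : Type*} [CommRing L] {α β : AA 𝔇 l c →+* L}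
    (h : ∀ r, α (ρA 𝔇 l c r) = β (ρA 𝔇 l c r)) (hu : α (uA 𝔇 l c) = β (uA 𝔇 l c)) : α = β := by
  apply IsLocalization.ringHom_ext (Submonoid.powers (wp 𝔇 l c))
  apply Polynomial.ringHom_ext
  · intro r; exact h r
  · exact hu

/-- The coordinate ring of the special fibre of the chart. -/
abbrev BB (l : ℕ) (c : R) : Type u := Localization.Away ((wp 𝔇 l c).map (residue R))

noncomputable def kB (l : ℕ) (c : R) : ResidueField R →+* BB 𝔇 l c :=
  (algebraMap (Polynomial (ResidueField R)) (BB 𝔇 l c)).comp Polynomial.C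

noncomputable def uB (l : ℕ) (c : R) : BB 𝔇 l c :=
  algebraMap (Polynomial (ResidueField R)) (BB 𝔇 l c) Polynomial.X

theorem BB_unit (l : ℕ) (c : R) : IsUnit (kB 𝔇 l c (residue R c) + kB 𝔇 l c (residue R 𝔇.π) ^ l * uB 𝔇 l c) := by
  have h1 : kB 𝔇 l c (residue R c) + kB 𝔇 l c (residue R 𝔇.π) ^ l * uB 𝔇 l c =
      algebraMap _ (BB 𝔇 l c) ((wp 𝔇 l c).map (residue R)) := by
    simp [wp, kB, uB]
  rw [h1]
  exact IsLocalization.Away.algebraMap_isUnit _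

/-- Reduction. -/
theorem exists_red (l : ℕ) (c : R) : ∃ α : AA 𝔇 l c →+* BB 𝔇 l c,
    (∀ r, α (ρA 𝔇 l c r) = kB 𝔇 l c (residue R r)) ∧ α (uA 𝔇 l c) = uB 𝔇 l c := by
  obtain ⟨α, h1, h2, -⟩ := AA_lift 𝔇 ((kB 𝔇 l c).comp (residue R)) (uB 𝔇 l c) (BB_unit 𝔇 l c)
  exact ⟨α, h1, h2⟩

noncomputable def red (l : ℕ) (c : R) : AA 𝔇 l c →+* BB 𝔇 l c := (exists_red 𝔇 l c).choose

theorem red_ρ (l : ℕ) (c r : R) : red 𝔇 l c (ρA 𝔇 l c r) = kB 𝔇 l c (residue R r) :=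
  (exists_red 𝔇 l c).choose_spec.1 r

theorem red_u (l : ℕ) (c : R) : red 𝔇 l c (uA 𝔇 l c) = uB 𝔇 l c := (exists_red 𝔇 l c).choose_spec.2

theorem BB_lift {l : ℕ} {c : R} {L : Type*} [CommRing L] (ρ : ResidueField R →+* L) (v : L)
    (h : IsUnit (ρ (residue R c) + ρ (residue R 𝔇.π) ^ l * v)) : ∃ α : BB 𝔇 l c →+* L,
      (∀ r, α (kB 𝔇 l c r) = ρ r) ∧ α (uB 𝔇 l c) = v := by
  have h1 : (Polynomial.eval₂RingHom ρ v) ((wp 𝔇 l c).map (residue R)) =
      ρ (residue R c) + ρ (residue R 𝔇.π) ^ l * v := by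
    simp [wp, Polynomial.eval₂_pow]
  have h2 : IsUnit ((Polynomial.eval₂RingHom ρ v) ((wp 𝔇 l c).map (residue R))) := by rw [h1]; exact h
  refine ⟨IsLocalization.Away.lift _ h2, ?_, ?_⟩
  · intro r
    refine (IsLocalization.Away.lift_eq _ h2 (Polynomial.C r)).trans ?_
    simp
  · refine (IsLocalization.Away.lift_eq _ h2 Polynomial.X).trans ?_
    simp

theorem BB_ext {l : ℕ} {c : R} {L : Type*} [CommRing L] {α β : BB 𝔇 l c →+* L}
    (h : ∀ r, α (kB 𝔇 l c r) = β (kB 𝔇 l c r)) (hu : α (uB 𝔇 l c) = β (uB 𝔇 l c)) : α = β := by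
  apply IsLocalization.ringHom_ext (Submonoid.powers ((wp 𝔇 l c).map (residue R)))
  apply Polynomial.ringHom_ext
  · intro r; exact h r
  · exact hu

section T

variable {𝔇}
variable {x₀ : Spec (CommRingCat.of (ResidueField R)) ⟶ 𝔇.X}
  (ch : Chart 𝔇.π 𝔇.qX (Set.range 𝔇.iX) x₀)
  {x : ch.N} {m : ℕ} (hT : Toric 𝔇.π ch.ι (oo ch.xk ch.g) x m) (l : ℕ) (c : R)

include hT in
theorem exists_psi : ∃ ψ : ch.N →+* AA 𝔇 l c, ψ.comp ch.ι = ρA 𝔇 l c ∧
    ψ x = ρA 𝔇 l c 𝔇.π ^ m * wA 𝔇 l c ∧ (red 𝔇 l c).comp ψ = (kB 𝔇 l c).comp (oo ch.xk ch.g) := by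
  obtain ⟨ψ, h1, h2, h3⟩ := hT.lift (AA 𝔇 l c) (ρA 𝔇 l c) (wA 𝔇 l c) (isUnit_wA 𝔇 l c)
  refine ⟨ψ, h1, h2, h3 _ (red 𝔇 l c) (kB 𝔇 l c) ?_⟩
  ext r
  exact red_ρ 𝔇 l c r

noncomputable def psi : ch.N →+* AA 𝔇 l c := (exists_psi ch hT l c).choose

theorem psi_ι (r : R) : psi ch hT l c (ch.ι r) = ρA 𝔇 l c r := congr($((exists_psi ch hT l c).choose_spec.1) r)

theorem psi_x : psi ch hT l c x = ρA 𝔇 l c 𝔇.π ^ m * wA 𝔇 l c := (exists_psi ch hT l c).choose_spec.2.1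

theorem psi_red : (red 𝔇 l c).comp (psi ch hT l c) = (kB 𝔇 l c).comp (oo ch.xk ch.g) :=
  (exists_psi ch hT l c).choose_spec.2.2

/-- The chart. -/
noncomputable def T : Scheme.{u} := pullback ch.g (Spec.map (CommRingCat.ofHom (psi ch hT l c)))

noncomputable def tU : T ch hT l c ⟶ ch.U := pullback.fst _ _

noncomputable def tA : T ch hT l c ⟶ Spec (CommRingCat.of (AA 𝔇 l c)) := pullback.snd _ _

theorem tU_tA : tU ch hT l c ≫ ch.g = tA ch hT l c ≫ Spec.map (CommRingCat.ofHom (psi ch hT l c)) :=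
  pullback.condition

instance : Etale (tA ch hT l c) := inferInstanceAs (Etale (pullback.snd _ _))

theorem T_ext {Z : Scheme.{u}} (a b : Z ⟶ T ch hT l c) (h1 : a ≫ tU ch hT l c = b ≫ tU ch hT l c)
    (h2 : a ≫ tA ch hT l c = b ≫ tA ch hT l c) : a = b := pullback.hom_ext h1 h2

theorem T_lift {Z : Scheme.{u}} (a : Z ⟶ ch.U) (b : Z ⟶ Spec (CommRingCat.of (AA 𝔇 l c)))
    (h : a ≫ ch.g = b ≫ Spec.map (CommRingCat.ofHom (psi ch hT l c))) :
    ∃ z : Z ⟶ T ch hT l c, z ≫ tU ch hT l c = a ∧ z ≫ tA ch hT l c = b :=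
  ⟨pullback.lift a b h, pullback.lift_fst _ _ _, pullback.lift_snd _ _ _⟩

theorem tA_ρ : tA ch hT l c ≫ Spec.map (CommRingCat.ofHom (ρA 𝔇 l c)) =
    (tU ch hT l c ≫ ch.e) ≫ 𝔇.qX := by
  have h1 : Spec.map (CommRingCat.ofHom (ρA 𝔇 l c)) = Spec.map (CommRingCat.ofHom (psi ch hT l c)) ≫
      Spec.map (CommRingCat.ofHom ch.ι) := by
    rw [← Spec.map_comp]
    congr 1
    exact CommRingCat.hom_ext (RingHom.ext fun r => (psi_ι ch hT l c r).symm)
  rw [h1, ← Category.assoc, ← tU_tA, Category.assoc, ch.w, Category.assoc]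

theorem smooth_ρA : Smooth (Spec.map (CommRingCat.ofHom (ρA 𝔇 l c))) := by
  have h1 : Smooth (Spec.map (CommRingCat.ofHom (Polynomial.C : R →+* Polynomial R))) := by
    rw [HasRingHomProperty.Spec_iff (P := @Smooth)]
    change (algebraMap R (Polynomial R)).Smooth
    rw [RingHom.smooth_algebraMap]
    exact { formallySmooth := inferInstance, finitePresentation := inferInstance }
  have h2 : IsOpenImmersion (Spec.map (CommRingCat.ofHom (algebraMap (Polynomial R) (AA 𝔇 l c)))) :=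
    IsOpenImmersion.of_isLocalization (wp 𝔇 l c)
  have h3 : Spec.map (CommRingCat.ofHom (ρA 𝔇 l c)) =
      Spec.map (CommRingCat.ofHom (algebraMap (Polynomial R) (AA 𝔇 l c))) ≫
        Spec.map (CommRingCat.ofHom (Polynomial.C : R →+* Polynomial R)) := by
    rw [← Spec.map_comp]
    rfl
  rw [h3]
  infer_instance

instance smooth_T : Smooth ((tU ch hT l c ≫ ch.e) ≫ 𝔇.qX) := by
  rw [← tA_ρ]
  have := smooth_ρA (𝔇 := 𝔇) l c
  infer_instance

theorem isReduced_fiber (y : Spec (CommRingCat.of R)) :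
    IsReduced (((tU ch hT l c ≫ ch.e) ≫ 𝔇.qX).fiber y) := by
  have h1 : Smooth (((tU ch hT l c ≫ ch.e) ≫ 𝔇.qX).fiberToSpecResidueField y) :=
    MorphismProperty.of_isPullback (P := @Smooth) (IsPullback.of_hasPullback _ _) inferInstance
  exact Groth.Agent.Flat2B.SmoothGeom.isReduced_of_smooth (K := ((Spec (CommRingCat.of R)).residueField y))
    (((tU ch hT l c ≫ ch.e) ≫ 𝔇.qX).fiberToSpecResidueField y)

/-- The structure map of the special fibre. -/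
noncomputable abbrev sB : Spec (CommRingCat.of (BB 𝔇 l c)) ⟶ Spec (CommRingCat.of (ResidueField R)) :=
  Spec.map (CommRingCat.ofHom (kB 𝔇 l c))

theorem exists_jA : ∃ j : Spec (CommRingCat.of (BB 𝔇 l c)) ⟶ T ch hT l c,
    j ≫ tU ch hT l c = sB l c ≫ ch.xk ∧ j ≫ tA ch hT l c = Spec.map (CommRingCat.ofHom (red 𝔇 l c)) := by
  apply T_lift
  rw [Category.assoc, ← Spec.map_preimage (ch.xk ≫ ch.g), ← Spec.map_comp, ← Spec.map_comp]
  congr 1
  exact CommRingCat.hom_ext (psi_red ch hT l c).symm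

noncomputable def jA : Spec (CommRingCat.of (BB 𝔇 l c)) ⟶ T ch hT l c := (exists_jA ch hT l c).choose

theorem jA_tU : jA ch hT l c ≫ tU ch hT l c = sB l c ≫ ch.xk := (exists_jA ch hT l c).choose_spec.1

theorem jA_tA : jA ch hT l c ≫ tA ch hT l c = Spec.map (CommRingCat.ofHom (red 𝔇 l c)) :=
  (exists_jA ch hT l c).choose_spec.2

end T

end K851.TA
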