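import Groth.Agent.SSMod.K851.TA
import Groth.Agent.SSMod.K851.Comp

/-!
# Bad points of the blow-up charts and the maximal choice
-/

set_option autoImplicit false
set_option linter.unusedSectionVars false
set_option linter.dupNamespace false
universe u

open CategoryTheory CategoryTheory.Limits AlgebraicGeometry TopologicalSpace IsLocalRing

namespace K851.TB

open K851.Fib K851.LemN K851.Et K851.Sep K851.Pt K851.Tor K851.Dat K851.NS K851.Line K851.Mark K851.Chart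
  K851.DDef K851.Ext K851.Tx K851.Sel K851.TA

variable {R : Type u} [CommRing R] [IsDomain R] [IsDiscreteValuationRing R] [IsAlgClosed (ResidueField R)]

/-- The generic points of the special fibre of `Y`. -/
def Ws (𝔇 : DD R) : Set 𝔇.Y := {z | 𝔇.qY z = cp (CommRingCat.of R) ∧ ¬ IsClosed ({z} : Set 𝔇.Y)}

theorem exists_dvr (𝔇 : DD R) {ξ : 𝔇.Y} (hξ : ξ ∈ Ws 𝔇) :
    ∃ _ : IsDomain (𝔇.Y.presheaf.stalk ξ), IsDiscreteValuationRing (𝔇.Y.presheaf.stalk ξ) ∧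
      Irreducible (st (𝔇.g ≫ 𝔇.c) ξ 𝔇.π) :=
  K851.Comp.exists_dvr 𝔇.hπ 𝔇.qY 𝔇.nY ξ hξ.1 hξ.2

theorem compactSpace_Y (𝔇 : DD R) : CompactSpace 𝔇.Y := by
  have h1 := 𝔇.aC
  exact QuasiCompact.compactSpace_of_compactSpace 𝔇.g

theorem finite_Ws (𝔇 : DD R) : (Ws 𝔇).Finite := by
  have := compactSpace_Y 𝔇
  exact K851.Comp.finite_comp 𝔇.qY 𝔇.nY

variable {𝔇 : DD R}
variable {x₀ : Spec (CommRingCat.of (ResidueField R)) ⟶ 𝔇.X} (hx₀ : x₀ ≫ 𝔇.qX = sp R)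
  (ch : Chart 𝔇.π 𝔇.qX (Set.range 𝔇.iX) x₀)
  {x : ch.N} {m : ℕ} (hT : Toric 𝔇.π ch.ι (oo ch.xk ch.g) x m) (l : ℕ) (c : R)

include hx₀ in
theorem xk_eq : ch.xk ≫ ch.e ≫ 𝔇.f ≫ 𝔇.c = sp R := by
  have h1 : ch.xk ≫ ch.e ≫ 𝔇.f ≫ 𝔇.c = (ch.xk ≫ ch.e) ≫ 𝔇.qX := by simp only [Category.assoc]
  rw [h1, ch.hxk, hx₀]

/-- The data exist as soon as some local ring dominates. -/
theorem exists_DT (hx₀ : x₀ ≫ 𝔇.qX = sp R) {G : CommRingCat.{u}} [IsLocalRing G] (a : Spec G ⟶ ch.U)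
    (b : Spec G ⟶ 𝔇.Y)
    (w : a ≫ ch.e ≫ 𝔇.f = b ≫ 𝔇.g) (hG : ∀ z : G, ro (b ≫ 𝔇.g ≫ 𝔇.c) 𝔇.π * z = 0 → z = 0)
    (ha : ∀ t, a (cp G) = ch.xk t) (hb : ¬ IsClosed ({b (cp G)} : Set 𝔇.Y)) :
    b (cp G) ∈ Ws 𝔇 ∧ Nonempty (DT ch (b (cp G))) := by
  obtain ⟨t, -⟩ : ∃ s : Spec (CommRingCat.of (ResidueField R)), True :=
    ⟨closedPoint (ResidueField R), trivial⟩
  have h1 : b (cp G) ∈ Ws 𝔇 := by
    refine ⟨?_, hb⟩
    have h2 : b ≫ 𝔇.qY = a ≫ ch.e ≫ 𝔇.qX := by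
      change b ≫ 𝔇.g ≫ 𝔇.c = a ≫ ch.e ≫ 𝔇.f ≫ 𝔇.c
      rw [← Category.assoc, ← w]; simp only [Category.assoc]
    rw [← Scheme.Hom.comp_apply, h2, Scheme.Hom.comp_apply, ha t, ← Scheme.Hom.comp_apply, xk_eq hx₀ ch]
    exact map_residue (CommRingCat.of R) t
  refine ⟨h1, nonempty_dat 𝔇.hπ 𝔇.c 𝔇.f 𝔇.g ch.e ch.xk (xk_eq hx₀ ch) _ (exists_dvr 𝔇 h1) G a b w hG
    rfl ha⟩

theorem dvd_of_not_isUnit {V : Type*} [CommRing V] [IsDomain V] [IsDiscreteValuationRing V] {p : V}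
    (hp : Irreducible p) {v : V} (h : ¬ IsUnit v) : p ∣ v := by
  have : v ∈ maximalIdeal V := h
  rwa [hp.maximalIdeal_eq, Ideal.mem_span_singleton] at this

theorem isUnit_of_th {ξ : 𝔇.Y} (d : DT ch ξ) (r : R) (h : IsUnit (th ch d.a (ch.ι r))) : IsUnit r := by
  by_contra hcon
  obtain ⟨s, rfl⟩ := dvd_of_not_isUnit 𝔇.hπ hcon
  rw [map_mul, map_mul] at h
  exact (unif_th ch d).not_isUnit (isUnit_of_mul_isUnit_left h)

/-- One step of improvement. -/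
theorem Qd_succ {ξ : 𝔇.Y} (d : DT ch ξ) (w u : d.V) (hw : IsUnit w)
    (hx : th ch d.a x = th ch d.a (ch.ι 𝔇.π) ^ m * w)
    (hu : w = th ch d.a (ch.ι c) + th ch d.a (ch.ι 𝔇.π) ^ l * u) (r : R)
    (hr : ¬ IsUnit (u - th ch d.a (ch.ι r))) : Qd ch x m d (l + 1) (c + 𝔇.π ^ l * r) := by
  obtain ⟨y, hy⟩ := dvd_of_not_isUnit (unif_th ch d) hr
  have h1 : w - th ch d.a (ch.ι (c + 𝔇.π ^ l * r)) = th ch d.a (ch.ι 𝔇.π) ^ (l + 1) * y := by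
    rw [hu]
    simp only [map_add, map_mul, map_pow]
    rw [pow_succ, mul_assoc, ← hy]
    ring
  refine ⟨w, hw, ?_, hx, ⟨y, h1⟩⟩
  apply isUnit_of_th ch d
  by_contra hcon
  have h2 : th ch d.a (ch.ι (c + 𝔇.π ^ l * r)) ∈ maximalIdeal d.V := hcon
  have h3 : w ∈ maximalIdeal d.V := by
    have : w = th ch d.a (ch.ι (c + 𝔇.π ^ l * r)) + th ch d.a (ch.ι 𝔇.π) ^ (l + 1) * y := by
      rw [← h1]; ring
    rw [this]
    refine Ideal.add_mem _ h2 (Ideal.mul_mem_right _ _ ?_)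
    rw [pow_succ]
    exact Ideal.mul_mem_left _ _ (unif_th ch d).not_isUnit
  exact h3 hw

theorem transfer' {ξ : 𝔇.Y} (d : DT ch ξ) (G : CommRingCat.{u}) [IsLocalRing G] (a' : Spec G ⟶ ch.U)
    (b' : Spec G ⟶ 𝔇.Y) (w : a' ≫ ch.e ≫ 𝔇.f = b' ≫ 𝔇.g)
    (hG : ∀ x : G, ro (b' ≫ 𝔇.g ≫ 𝔇.c) 𝔇.π * x = 0 → x = 0) (hb : b' (cp G) = ξ)
    (ha : ∀ t, a' (cp G) = ch.xk t) (uG wG : G) (hwG : IsUnit wG)
    (hx : th ch a' x = th ch a' (ch.ι 𝔇.π) ^ m * wG)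
    (hl : wG = th ch a' (ch.ι c) + th ch a' (ch.ι 𝔇.π) ^ l * uG) (r : R)
    (hr : ¬ IsUnit (uG - th ch a' (ch.ι r))) :
    Qd ch x m d (l + 1) (c + 𝔇.π ^ l * r) := by
  obtain ⟨φ, hφ1, hφ2, hφ3⟩ := d.univ G a' b' w hG hb ha
  have hφ : ∀ n, φ.hom (th ch d.a n) = th ch a' n := by
    intro n
    rw [← hφ2]
    exact (th_comp ch d.a φ n).symm
  have hreg : ∀ z, φ.hom (th ch d.a (ch.ι 𝔇.π)) * z = 0 → z = 0 := by
    intro z hz
    apply hG z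
    rw [hφ, th_ι' ch a' b' w] at hz
    exact hz
  obtain ⟨v, hv1, hv2⟩ := K851.Loc.div_lift φ.hom (unif_th ch d) hreg (th ch d.a x) m wG
    (by rw [hφ, hφ]; exact hx)
  obtain ⟨v', hv1', hv2'⟩ := K851.Loc.div_lift φ.hom (unif_th ch d) hreg (v - th ch d.a (ch.ι c)) l uG
    (by rw [map_sub, hv2, hφ, hφ, hl]; ring)
  refine Qd_succ ch l c d v v' (isUnit_of_map_unit φ.hom v (hv2 ▸ hwG)) hv1 (by rw [← hv1']; ring) r ?_
  intro hu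
  apply hr
  have := hu.map φ.hom
  rwa [map_sub, hv2', hφ] at this

theorem xT_eq (hx₀ : x₀ ≫ 𝔇.qX = sp R)
    (b : Spec (CommRingCat.of (ResidueField R)) ⟶ Spec (CommRingCat.of (BB 𝔇 l c)))
    (hb : b ≫ sB l c = 𝟙 _) : (b ≫ jA ch hT l c) ≫ (tU ch hT l c ≫ ch.e) ≫ 𝔇.qX = sp R := by
  have h1 : (b ≫ jA ch hT l c) ≫ (tU ch hT l c ≫ ch.e) ≫ 𝔇.qX =
      b ≫ (jA ch hT l c ≫ tU ch hT l c) ≫ ch.e ≫ 𝔇.qX := by simp only [Category.assoc]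
  rw [h1, jA_tU]
  have h2 : b ≫ (sB l c ≫ ch.xk) ≫ ch.e ≫ 𝔇.qX = (b ≫ sB l c) ≫ ch.xk ≫ ch.e ≫ 𝔇.f ≫ 𝔇.c := by
    simp only [Category.assoc]
  rw [h2, hb, Category.id_comp, xk_eq hx₀ ch]

include hx₀ in
/-- A bad closed point of the special fibre of the chart improves the choice. -/
theorem improve (b : Spec (CommRingCat.of (ResidueField R)) ⟶ Spec (CommRingCat.of (BB 𝔇 l c)))
    (hb : b ≫ sB l c = 𝟙 _) (t : Spec (CommRingCat.of (ResidueField R)))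
    (ht : jA ch hT l c (b t) ∉ gd 𝔇 (tU ch hT l c ≫ ch.e)) :
    ∃ ξ ∈ Ws 𝔇, ∃ (d : DT ch ξ) (c' : R), Qd ch x m d (l + 1) c' := by
  have hxT := xT_eq ch hT l c hx₀ b hb
  have hmono := mono_of_pt ((tU ch hT l c ≫ ch.e) ≫ 𝔇.qX) (b ≫ jA ch hT l c) hxT t
  rw [← Scheme.Hom.comp_apply] at ht
  obtain ⟨G, hGl, a, b', hw, hG, haG, hbG⟩ := exists_of_bad 𝔇 (tU ch hT l c ≫ ch.e) _ ht
  have hw' : (a ≫ tU ch hT l c) ≫ ch.e ≫ 𝔇.f = b' ≫ 𝔇.g := by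
    rw [← hw]; simp only [Category.assoc]
  have ha' : ∀ t', (a ≫ tU ch hT l c) (cp G) = ch.xk t' := by
    intro t'
    rw [Scheme.Hom.comp_apply, haG, ← Scheme.Hom.comp_apply, Category.assoc, jA_tU, ← Category.assoc, hb,
      Category.id_comp]
    exact congrArg _ (subsingleton_spec _ _)
  obtain ⟨hWs, ⟨d⟩⟩ := exists_DT ch hx₀ (a ≫ tU ch hT l c) b' hw' hG ha' hbG
  let αG : AA 𝔇 l c →+* G := (Spec.preimage (a ≫ tA ch hT l c)).hom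
  have hαG : Spec.map (CommRingCat.ofHom αG) = a ≫ tA ch hT l c := Spec.map_preimage _
  have hth : ∀ n, th ch (a ≫ tU ch hT l c) n = αG (psi ch hT l c n) := by
    have h : CommRingCat.ofHom (th ch (a ≫ tU ch hT l c)) =
        CommRingCat.ofHom (psi ch hT l c) ≫ CommRingCat.ofHom αG := by
      apply Spec.map_injective
      rw [map_th, Spec.map_comp, hαG, Category.assoc, tU_tA, Category.assoc]
    exact fun n => congr($h n)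
  let bs : BB 𝔇 l c →+* ResidueField R := (Spec.preimage b).hom
  have hbs : Spec.map (CommRingCat.ofHom bs) = b := Spec.map_preimage _
  have hbsk : ∀ r, bs (kB 𝔇 l c r) = r := by
    have h : CommRingCat.ofHom (kB 𝔇 l c) ≫ CommRingCat.ofHom bs = 𝟙 _ := by
      apply Spec.map_injective
      rw [Spec.map_comp, hbs, hb, Spec.map_id]
    exact fun r => congr($h r)
  obtain ⟨r, hr⟩ := residue_surjective (bs (uB 𝔇 l c))
  refine ⟨_, hWs, d, c + 𝔇.π ^ l * r, transfer' ch l c d G (a ≫ tU ch hT l c) b' hw' hG rfl ha'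
    (αG (uA 𝔇 l c)) (αG (wA 𝔇 l c)) ((isUnit_wA 𝔇 l c).map αG) ?_ ?_ r ?_⟩
  · rw [hth, hth, psi_x, psi_ι, map_mul, map_pow]
  · rw [hth, hth, psi_ι, psi_ι, wA_eq, map_add, map_mul, map_pow]
  · rw [hth, psi_ι, ← map_sub]
    have h1 : uA 𝔇 l c - ρA 𝔇 l c r ∈ (tA ch hT l c (a (cp G)) : PrimeSpectrum (AA 𝔇 l c)).asIdeal := by
      rw [haG, ← Scheme.Hom.comp_apply, Category.assoc, jA_tA, ← hbs, ← Spec.map_comp]
      have ht : (t : PrimeSpectrum (ResidueField R)).asIdeal = ⊥ := by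
        have : t = (⊥ : PrimeSpectrum (ResidueField R)) := Subsingleton.elim (α := PrimeSpectrum _) _ _
        rw [this]; rfl
      change bs (red 𝔇 l c (uA 𝔇 l c - ρA 𝔇 l c r)) ∈ (t : PrimeSpectrum (ResidueField R)).asIdeal
      rw [ht, map_sub, red_u, red_ρ, map_sub, hbsk, ← hr, sub_self]
      exact zero_mem _
    rw [← Scheme.Hom.comp_apply, ← hαG] at h1
    exact h1

end K851.TB
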