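import Groth.Agent.SSMod.K851.TB

/-!
# The chart attached to a maximal choice
-/

set_option autoImplicit false
set_option linter.unusedSectionVars false
set_option linter.dupNamespace false
universe u

open CategoryTheory CategoryTheory.Limits AlgebraicGeometry TopologicalSpace IsLocalRing

namespace K851.TC

open K851.Fib K851.LemN K851.Et K851.Sep K851.Pt K851.Tor K851.Dat K851.NS K851.Line K851.Mark K851.Chart
  K851.DDef K851.Ext K851.Tx K851.Sel K851.TA K851.TB

variable {R : Type u} [CommRing R] [IsDomain R] [IsDiscreteValuationRing R] [IsAlgClosed (ResidueField R)]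

variable {𝔇 : DD R}

section Inj

variable (l : ℕ) (c : R)

theorem injective_of {L : Type*} [Field L] (β : BB 𝔇 l c →+* L)
    (h : ∀ r, β (uB 𝔇 l c) ≠ β (kB 𝔇 l c r)) : Function.Injective β := by
  rw [injective_iff_map_eq_zero]
  intro z hz
  obtain ⟨p, s, rfl⟩ := IsLocalization.exists_mk'_eq (Submonoid.powers ((wp 𝔇 l c).map (residue R))) z
  have h1 : β (algebraMap _ _ p) = 0 := by
    have h2 := IsLocalization.mk'_spec (BB 𝔇 l c) p s
    rw [← h2, map_mul, hz, zero_mul]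
  suffices hp : p = 0 by rw [hp, IsLocalization.mk'_zero]
  by_contra hp
  have hsplit : p.Splits := IsAlgClosed.splits p
  have h3 := hsplit.eq_prod_roots
  rw [h3, map_mul, map_mul] at h1
  rcases mul_eq_zero.1 h1 with h4 | h4
  · have h5 : β (kB 𝔇 l c p.leadingCoeff) = 0 := h4
    rw [← map_zero β, ← map_zero (kB 𝔇 l c)] at h5
    exact hp (Polynomial.leadingCoeff_eq_zero.1 ((β.comp (kB 𝔇 l c)).injective h5))
  · rw [map_multiset_prod, map_multiset_prod, Multiset.prod_eq_zero_iff] at h4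
    simp only [Multiset.map_map, Multiset.mem_map] at h4
    obtain ⟨r, -, hr⟩ := h4
    apply h r
    simp only [Function.comp_apply, map_sub] at hr
    exact sub_eq_zero.1 hr

end Inj

variable {x₀ : Spec (CommRingCat.of (ResidueField R)) ⟶ 𝔇.X} (hx₀ : x₀ ≫ 𝔇.qX = sp R)
  (ch : Chart 𝔇.π 𝔇.qX (Set.range 𝔇.iX) x₀)
  {x : ch.N} {m : ℕ} (hT : Toric 𝔇.π ch.ι (oo ch.xk ch.g) x m) (l : ℕ) (c : R)

theorem exists_aT {ξ : 𝔇.Y} (d : DT ch ξ) (w u : d.V) (hw : IsUnit w)
    (hx : th ch d.a x = th ch d.a (ch.ι 𝔇.π) ^ m * w)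
    (hu : w = th ch d.a (ch.ι c) + th ch d.a (ch.ι 𝔇.π) ^ l * u) :
    ∃ (αV : AA 𝔇 l c →+* d.V) (aT : Spec d.V ⟶ T ch hT l c), (∀ r, αV (ρA 𝔇 l c r) = th ch d.a (ch.ι r)) ∧
      αV (uA 𝔇 l c) = u ∧ aT ≫ tU ch hT l c = d.a ∧
      aT ≫ tA ch hT l c = Spec.map (CommRingCat.ofHom αV) := by
  obtain ⟨αV, h1, h2, h3⟩ := AA_lift 𝔇 (l := l) (c := c) ((th ch d.a).comp ch.ι) u (by
    change IsUnit (th ch d.a (ch.ι c) + th ch d.a (ch.ι 𝔇.π) ^ l * u)
    rw [← hu]; exact hw)
  have h4 : th ch d.a = αV.comp (psi ch hT l c) := by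
    apply hT.uniq
    · ext r
      change _ = αV (psi ch hT l c (ch.ι r))
      rw [psi_ι, h1]
    · change _ = αV (psi ch hT l c x)
      rw [psi_x, map_mul, map_pow, h1, h3, hx]
      change _ = th ch d.a (ch.ι 𝔇.π) ^ m * (th ch d.a (ch.ι c) + th ch d.a (ch.ι 𝔇.π) ^ l * u)
      rw [← hu]
    · intro z hz
      exact (mul_eq_zero.1 hz).resolve_left (unif_th ch d).ne_zero
    · exact ⟨w, hw, hx⟩
  obtain ⟨aT, h5, h6⟩ := T_lift ch hT l c d.a (Spec.map (CommRingCat.ofHom αV)) (by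
    rw [← map_th, h4, ← Spec.map_comp]
    rfl)
  exact ⟨αV, aT, h1, h2, h5, h6⟩

include hx₀ in
theorem exists_beta {ξ : 𝔇.Y} (d : DT ch ξ) (w u : d.V) (hw : IsUnit w)
    (hx : th ch d.a x = th ch d.a (ch.ι 𝔇.π) ^ m * w)
    (hu : w = th ch d.a (ch.ι c) + th ch d.a (ch.ι 𝔇.π) ^ l * u)
    (hmax : ∀ r, IsUnit (u - th ch d.a (ch.ι r))) :
    ∃ (aT : Spec d.V ⟶ T ch hT l c) (β : BB 𝔇 l c →+* ResidueField d.V),
      aT ≫ tU ch hT l c = d.a ∧ Function.Injective β ∧
      Spec.map (CommRingCat.ofHom (residue d.V)) ≫ aT =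
        Spec.map (CommRingCat.ofHom β) ≫ jA ch hT l c := by
  obtain ⟨αV, aT, h1, h2, h3, h4⟩ := exists_aT ch hT l c d w u hw hx hu
  obtain ⟨t, -⟩ : ∃ s : Spec (CommRingCat.of (ResidueField R)), True :=
    ⟨closedPoint (ResidueField R), trivial⟩
  let ρV : R →+* d.V := (th ch d.a).comp ch.ι
  have hloc : IsLocalHom ρV := by
    constructor
    intro r hr
    exact isUnit_of_th ch d r hr
  let ρk : ResidueField R →+* ResidueField d.V := ResidueField.map ρV
  have hρk : ∀ r, ρk (residue R r) = residue d.V (th ch d.a (ch.ι r)) := fun r => rfl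
  obtain ⟨β, h5, h6⟩ := BB_lift 𝔇 (l := l) (c := c) ρk (residue d.V u) (by
    rw [hρk, hρk, ← map_pow, ← map_mul, ← map_add, ← hu]
    exact hw.map _)
  refine ⟨aT, β, h3, injective_of (𝔇 := 𝔇) l c β fun r hr => ?_, ?_⟩
  · obtain ⟨r, rfl⟩ := residue_surjective r
    rw [h5, h6, hρk, ← sub_eq_zero, ← map_sub, residue_eq_zero_iff] at hr
    exact hr (hmax r)
  · apply T_ext
    · rw [Category.assoc, h3, Category.assoc, jA_tU]
      obtain ⟨s₁, -⟩ : ∃ s : Spec (CommRingCat.of (ResidueField d.V)), True :=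
        ⟨closedPoint (ResidueField d.V), trivial⟩
      refine Pt.ext (ch.e ≫ 𝔇.f ≫ 𝔇.c) ch.xk (xk_eq hx₀ ch) _ _ s₁ s₁ t ?_ ?_ ?_
      · rw [Scheme.Hom.comp_apply, map_residue, d.ha]
      · rw [Scheme.Hom.comp_apply, Scheme.Hom.comp_apply]
        congr 1
        exact subsingleton_spec _ _
      · simp only [Category.assoc]
        rw [xk_eq hx₀ ch]
        have h7 : d.a ≫ ch.e ≫ 𝔇.f ≫ 𝔇.c = Spec.map (CommRingCat.ofHom ρV) := by
          rw [← map_ro (d.a ≫ ch.e ≫ 𝔇.f ≫ 𝔇.c)]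
          congr 1
          apply CommRingCat.hom_ext
          ext r
          exact (th_ι ch d.a r).symm
        rw [h7, ← Spec.map_comp, ← Spec.map_comp, ← Spec.map_comp]
        congr 1
        apply CommRingCat.hom_ext
        ext r
        change residue d.V (ρV r) = β (kB 𝔇 l c (residue R r))
        rw [h5]
        rfl
    · rw [Category.assoc, h4, Category.assoc, jA_tA, ← Spec.map_comp, ← Spec.map_comp]
      congr 1
      apply CommRingCat.hom_ext
      apply AA_ext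
      · intro r
        change residue d.V (αV (ρA 𝔇 l c r)) = β (red 𝔇 l c (ρA 𝔇 l c r))
        rw [h1, red_ρ, h5]
        rfl
      · change residue d.V (αV (uA 𝔇 l c)) = β (red 𝔇 l c (uA 𝔇 l c))
        rw [h2, red_u, h6]

end K851.TC
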