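import Mathlib.RingTheory.DiscreteValuationRing.Basic
import Mathlib.RingTheory.LocalRing.ResidueField.Basic
import Mathlib.RingTheory.Polynomial.Basic
import Mathlib.Algebra.Polynomial.RingDivision
import Mathlib.Algebra.MvPolynomial.Equiv

/-!
# The algebra of toric charts
-/

set_option autoImplicit false
set_option linter.unusedSectionVars false
universe u

open IsLocalRing

namespace K851.Tor

variable {R : Type u} [CommRing R] [IsDomain R] [IsDiscreteValuationRing R]

/-- The properties of a coordinate `x` on a chart `N` with origin `o` used for the charts `x = π ^ m w`. -/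
structure Toric (π : R) {N : Type u} [CommRing N] (ι : R →+* N) (o : N →+* ResidueField R) (x : N)
    (m : ℕ) : Prop where
  lift : ∀ (L : Type u) [CommRing L] (ρ : R →+* L) (w : L), IsUnit w → ∃ ψ : N →+* L, ψ.comp ι = ρ ∧
    ψ x = ρ π ^ m * w ∧ ∀ (L' : Type u) [CommRing L'] (τ : L →+* L') (σ : ResidueField R →+* L'),
      τ.comp ρ = σ.comp (residue R) → τ.comp ψ = σ.comp o
  uniq : ∀ (L : Type u) [CommRing L] (φ φ' : N →+* L), φ.comp ι = φ'.comp ι → φ x = φ' x →
    (∀ z, φ (ι π) * z = 0 → z = 0) → (∃ w, IsUnit w ∧ φ x = φ (ι π) ^ m * w) → φ = φ'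
  nzd : ∀ c : R, c ≠ 0 → x - ι c ∈ nonZeroDivisors N

theorem pow_reg {L : Type*} [CommRing L] {p : L} (h : ∀ z, p * z = 0 → z = 0) (n : ℕ) (z : L)
    (hz : p ^ n * z = 0) : z = 0 := by
  induction n with
  | zero => simpa using hz
  | succ n ih => exact ih (h _ (by rw [← mul_assoc, mul_comm p, ← pow_succ]; exact hz))

theorem residue_pi {π : R} (hπ : Irreducible π) : residue R π = 0 := by
  rw [residue_eq_zero_iff]
  exact hπ.not_isUnit

/-- The affine line. -/
theorem toric_line {π : R} (hπ : Irreducible π) (o : Polynomial R →+* ResidueField R)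
    (ho : o.comp Polynomial.C = residue R) (hx : o Polynomial.X = 0) {m : ℕ} (hm : 1 ≤ m) :
    Toric π (Polynomial.C : R →+* Polynomial R) o Polynomial.X m where
  lift L _ ρ w hw := by
    refine ⟨Polynomial.eval₂RingHom ρ (ρ π ^ m * w), ?_, by simp, ?_⟩
    · ext r; simp
    · intro L' _ τ σ h
      apply Polynomial.ringHom_ext
      · intro r
        simp only [RingHom.comp_apply, Polynomial.coe_eval₂RingHom, Polynomial.eval₂_C]
        have h1 := congr($h r)
        have h2 := congr($ho r)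
        simp only [RingHom.comp_apply] at h1 h2
        rw [h1, h2]
      · simp only [RingHom.comp_apply, Polynomial.coe_eval₂RingHom, Polynomial.eval₂_X, hx, map_zero,
          map_mul, map_pow]
        have h1 := congr($h π)
        simp only [RingHom.comp_apply, residue_pi hπ, map_zero] at h1
        rw [h1, zero_pow (by omega), zero_mul]
  uniq L _ φ φ' h hx _ _ := by
    apply Polynomial.ringHom_ext
    · intro r; exact congr($h r)
    · exact hx
  nzd c _ := mem_nonZeroDivisors_of_ne_zero (Polynomial.X_sub_C_ne_zero c)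

/-- The node chart. -/
abbrev Nd (a : R) : Type u :=
  MvPolynomial (Fin 2) R ⧸ Ideal.span {(MvPolynomial.X 0 * MvPolynomial.X 1 - MvPolynomial.C a : MvPolynomial (Fin 2) R)}

/-- The structure map of the node chart. -/
noncomputable abbrev ndι (a : R) : R →+* Nd a := (Ideal.Quotient.mk _).comp MvPolynomial.C

/-- The coordinates of the node chart. -/
noncomputable abbrev ndx (a : R) (i : Fin 2) : Nd a := Ideal.Quotient.mk _ (MvPolynomial.X i)

theorem nd_rel (a : R) : ndx a 0 * ndx a 1 = ndι a a := by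
  rw [← sub_eq_zero, ← map_mul]
  change Ideal.Quotient.mk _ _ - Ideal.Quotient.mk _ _ = 0
  rw [← map_sub, Ideal.Quotient.eq_zero_iff_mem]
  exact Ideal.mem_span_singleton_self _

theorem nd_ext {a : R} {L : Type*} [CommRing L] {φ φ' : Nd a →+* L}
    (h : φ.comp (ndι a) = φ'.comp (ndι a)) (h0 : φ (ndx a 0) = φ' (ndx a 0))
    (h1 : φ (ndx a 1) = φ' (ndx a 1)) : φ = φ' := by
  apply Ideal.Quotient.ringHom_ext
  apply MvPolynomial.ringHom_ext
  · intro r; exact congr($h r)
  · intro i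
    fin_cases i
    · exact h0
    · exact h1

theorem nd_lift {a : R} {L : Type*} [CommRing L] (ρ : R →+* L) (x y : L) (h : x * y = ρ a) :
    ∃ ψ : Nd a →+* L, ψ.comp (ndι a) = ρ ∧ ψ (ndx a 0) = x ∧ ψ (ndx a 1) = y := by
  refine ⟨Ideal.Quotient.lift _ (MvPolynomial.eval₂Hom ρ ![x, y]) ?_, ?_, ?_, ?_⟩
  · intro p hp
    rw [Ideal.mem_span_singleton] at hp
    obtain ⟨c, rfl⟩ := hp
    rw [map_mul, map_sub, map_mul]
    simp [h]
  · ext r; simp
  · simp
  · simp

theorem prime_sub (c : R) (i : Fin 2) :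
    Prime (MvPolynomial.X i - MvPolynomial.C c : MvPolynomial (Fin 2) R) := by
  have key : Prime (MvPolynomial.X 0 - MvPolynomial.C c : MvPolynomial (Fin 2) R) := by
    rw [← MulEquiv.prime_iff (MvPolynomial.finSuccEquiv R 1)]
    have : (MvPolynomial.finSuccEquiv R 1) (MvPolynomial.X 0 - MvPolynomial.C c) =
        Polynomial.X - Polynomial.C (MvPolynomial.C c) := by
      rw [map_sub, MvPolynomial.finSuccEquiv_X_zero]
      simp [MvPolynomial.finSuccEquiv_apply]
    rw [this]
    exact Polynomial.prime_X_sub_C _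
  fin_cases i
  · exact key
  · rw [← MulEquiv.prime_iff (MvPolynomial.renameEquiv R (Equiv.swap (0 : Fin 2) 1))]
    have : (MvPolynomial.renameEquiv R (Equiv.swap (0 : Fin 2) 1))
        (MvPolynomial.X 1 - MvPolynomial.C c) = MvPolynomial.X 0 - MvPolynomial.C c := by
      simp
    change Prime ((MvPolynomial.renameEquiv R (Equiv.swap (0 : Fin 2) 1))
        (MvPolynomial.X 1 - MvPolynomial.C c))
    rw [this]
    exact key

theorem nd_nzd (a c : R) (hc : c ≠ 0) (i : Fin 2) : ndx a i - ndι a c ∈ nonZeroDivisors (Nd a) := by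
  have hp := prime_sub c i
  rw [mem_nonZeroDivisors_iff_left]
  intro z hz
  obtain ⟨F, rfl⟩ := Ideal.Quotient.mk_surjective z
  change (Ideal.Quotient.mk _ (MvPolynomial.X i) - Ideal.Quotient.mk _ (MvPolynomial.C c)) *
    Ideal.Quotient.mk _ F = 0 at hz
  rw [← map_sub, ← map_mul, Ideal.Quotient.eq_zero_iff_mem, Ideal.mem_span_singleton] at hz
  obtain ⟨G, hG⟩ := hz
  have h1 : (MvPolynomial.X i - MvPolynomial.C c : MvPolynomial (Fin 2) R) ∣
      (MvPolynomial.X 0 * MvPolynomial.X 1 - MvPolynomial.C a) * G := ⟨F, hG.symm⟩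
  rcases hp.dvd_or_dvd h1 with h | h
  · exfalso
    obtain ⟨H, hH⟩ := h
    have key : ∀ t : R, c * t = a := by
      intro t
      have h2 : ∀ v : Fin 2 → R, v i = c → v 0 * v 1 - a = 0 := by
        intro v hv
        have h3 := congrArg (MvPolynomial.eval v) hH
        simp only [map_sub, map_mul, MvPolynomial.eval_X, MvPolynomial.eval_C, hv, sub_self,
          zero_mul] at h3
        exact h3
      fin_cases i
      · have := h2 ![c, t] rfl
        simp only [Matrix.cons_val_zero, Matrix.cons_val_one] at this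
        exact sub_eq_zero.1 this
      · have := h2 ![t, c] rfl
        simp only [Matrix.cons_val_zero, Matrix.cons_val_one] at this
        rw [mul_comm]
        exact sub_eq_zero.1 this
    have h0 := key 0
    have h1 := key 1
    rw [mul_zero] at h0
    rw [mul_one, ← h0] at h1
    exact hc h1
  · obtain ⟨G', rfl⟩ := h
    rw [Ideal.Quotient.eq_zero_iff_mem, Ideal.mem_span_singleton]
    refine ⟨G', ?_⟩
    apply mul_left_cancel₀ hp.ne_zero
    rw [hG]; ring

theorem nd_nzd_add : ndx (0 : R) 0 + ndx 0 1 ∈ nonZeroDivisors (Nd (0 : R)) := by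
  have hp : ∀ i, Prime (MvPolynomial.X i : MvPolynomial (Fin 2) R) := by
    intro i
    have := prime_sub (0 : R) i
    rwa [map_zero, sub_zero] at this
  have hne : ¬ (MvPolynomial.X 1 : MvPolynomial (Fin 2) R) ∣ MvPolynomial.X 0 := by
    rintro ⟨H, hH⟩
    have h3 := congrArg (MvPolynomial.eval (![1, 0] : Fin 2 → R)) hH
    simp at h3
  rw [mem_nonZeroDivisors_iff_left]
  intro z hz
  obtain ⟨F, rfl⟩ := Ideal.Quotient.mk_surjective z
  change (Ideal.Quotient.mk _ (MvPolynomial.X 0) + Ideal.Quotient.mk _ (MvPolynomial.X 1)) *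
    Ideal.Quotient.mk _ F = 0 at hz
  rw [← map_add, ← map_mul, Ideal.Quotient.eq_zero_iff_mem, Ideal.mem_span_singleton, map_zero,
    sub_zero] at hz
  have h0 : (MvPolynomial.X 0 : MvPolynomial (Fin 2) R) ∣ F := by
    have h1 : (MvPolynomial.X 0 : MvPolynomial (Fin 2) R) ∣ MvPolynomial.X 1 * F := by
      have h2 := dvd_sub ((Dvd.intro _ rfl).trans hz) (Dvd.intro F rfl : _ ∣ MvPolynomial.X 0 * F)
      rwa [add_mul, add_sub_cancel_left] at h2
    rcases (hp 0).dvd_or_dvd h1 with h | h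
    · exfalso
      obtain ⟨H, hH⟩ := h
      have h3 := congrArg (MvPolynomial.eval (![0, 1] : Fin 2 → R)) hH
      simp at h3
    · exact h
  have h1 : (MvPolynomial.X 1 : MvPolynomial (Fin 2) R) ∣ F := by
    have h1 : (MvPolynomial.X 1 : MvPolynomial (Fin 2) R) ∣ MvPolynomial.X 0 * F := by
      have h2 := dvd_sub ((Dvd.intro_left _ rfl).trans hz) (Dvd.intro F rfl : _ ∣ MvPolynomial.X 1 * F)
      rwa [add_mul, add_sub_cancel_right] at h2
    rcases (hp 1).dvd_or_dvd h1 with h | h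
    · exact absurd h hne
    · exact h
  rw [Ideal.Quotient.eq_zero_iff_mem, Ideal.mem_span_singleton, map_zero, sub_zero]
  obtain ⟨F', rfl⟩ := h0
  rcases (hp 1).dvd_or_dvd h1 with h | h
  · exact absurd h hne
  · exact mul_dvd_mul_left _ h

/-- Swapping the two coordinates. -/
theorem exists_swap (a : R) : ∃ s : Nd a ≃+* Nd a, (s : Nd a →+* Nd a).comp (ndι a) = ndι a ∧
    s (ndx a 0) = ndx a 1 ∧ s (ndx a 1) = ndx a 0 := by
  obtain ⟨s, h1, h2, h3⟩ := nd_lift (a := a) (ndι a) (ndx a 1) (ndx a 0) (by rw [mul_comm, nd_rel])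
  have h4 : s.comp s = RingHom.id _ := by
    apply nd_ext
    · rw [RingHom.comp_assoc, h1, h1]; rfl
    · rw [RingHom.comp_apply, h2, h3]; rfl
    · rw [RingHom.comp_apply, h3, h2]; rfl
  exact ⟨RingEquiv.ofRingHom s s h4 h4, h1, h2, h3⟩

theorem nd_lift' {a : R} {L : Type*} [CommRing L] (ρ : R →+* L) (i : Fin 2) (x y : L) (h : x * y = ρ a) :
    ∃ ψ : Nd a →+* L, ψ.comp (ndι a) = ρ ∧ ψ (ndx a i) = x ∧ ψ (ndx a (1 - i)) = y := by
  fin_cases i
  · exact nd_lift ρ x y h
  · obtain ⟨ψ, h1, h2, h3⟩ := nd_lift ρ y x (by rw [mul_comm]; exact h)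
    exact ⟨ψ, h1, h3, h2⟩

theorem nd_ext' {a : R} {L : Type*} [CommRing L] {φ φ' : Nd a →+* L} (i : Fin 2)
    (h : φ.comp (ndι a) = φ'.comp (ndι a)) (h0 : φ (ndx a i) = φ' (ndx a i))
    (h1 : φ (ndx a (1 - i)) = φ' (ndx a (1 - i))) : φ = φ' := by
  fin_cases i
  · exact nd_ext h h0 h1
  · exact nd_ext h h1 h0

theorem nd_rel' (a : R) (i : Fin 2) : ndx a i * ndx a (1 - i) = ndι a a := by
  fin_cases i
  · exact nd_rel a
  · rw [mul_comm]; exact nd_rel a

/-- The node chart is toric. -/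
theorem toric_node {π : R} (hπ : Irreducible π) (a : R) (o : Nd a →+* ResidueField R)
    (ho : o.comp (ndι a) = residue R) (i : Fin 2) (hx : o (ndx a i) = 0) (hy : o (ndx a (1 - i)) = 0)
    {m : ℕ} (hm : 1 ≤ m) (ha : a = 0 ∨ ∃ r, m < r ∧ a = π ^ r) :
    Toric π (ndι a) o (ndx a i) m where
  lift L _ ρ w hw := by
    obtain ⟨w', hw'⟩ := hw.exists_right_inv
    have hy' : ∃ y : L, ρ π ^ m * w * y = ρ a ∧ (∀ (L' : Type u) [CommRing L'] (τ : L →+* L'),
        τ (ρ π) = 0 → τ y = 0) := by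
      rcases ha with rfl | ⟨r, hr, rfl⟩
      · exact ⟨0, by simp, fun L' _ τ _ => map_zero τ⟩
      · refine ⟨ρ π ^ (r - m) * w', ?_, ?_⟩
        · have : ρ π ^ m * w * (ρ π ^ (r - m) * w') = ρ π ^ m * ρ π ^ (r - m) * (w * w') := by ring
          rw [this, hw', mul_one, ← pow_add, map_pow]
          congr 1
          omega
        · intro L' _ τ hτ
          rw [map_mul, map_pow, hτ, zero_pow (by omega), zero_mul]
    obtain ⟨y, hy1, hy2⟩ := hy'
    obtain ⟨ψ, h1, h2, h3⟩ := nd_lift' ρ i (ρ π ^ m * w) y hy1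
    refine ⟨ψ, h1, h2, ?_⟩
    intro L' _ τ σ h
    have hτ : τ (ρ π) = 0 := by
      have h4 := congr($h π)
      simp only [RingHom.comp_apply, residue_pi hπ, map_zero] at h4
      exact h4
    apply nd_ext' i
    · rw [RingHom.comp_assoc, h1, RingHom.comp_assoc, ho, h]
    · rw [RingHom.comp_apply, h2, RingHom.comp_apply, hx, map_zero, map_mul, map_pow, hτ,
        zero_pow (by omega), zero_mul]
    · rw [RingHom.comp_apply, h3, RingHom.comp_apply, hy, map_zero, hy2 L' τ hτ]
  uniq L _ φ φ' h hxx hreg hw := by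
    apply nd_ext' i h hxx
    obtain ⟨w, hw, hxw⟩ := hw
    have h1 := congrArg φ (nd_rel' a i)
    have h2 := congrArg φ' (nd_rel' a i)
    rw [map_mul] at h1 h2
    have h3 : φ (ndι a a) = φ' (ndι a a) := congr($h a)
    rw [← sub_eq_zero]
    have h4 : φ (ndι a π) ^ m * (w * (φ (ndx a (1 - i)) - φ' (ndx a (1 - i)))) = 0 := by
      rw [← mul_assoc, ← hxw, mul_sub, h1, h3, ← h2, hxx, sub_self]
    have h5 := pow_reg hreg m _ h4
    exact (hw.mul_right_eq_zero).1 h5
  nzd c hc := nd_nzd a c hc i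

/-- Every valuation centred at the origin gives a toric coordinate. -/
theorem exists_toric_node {π : R} (hπ : Irreducible π) (a : R) (ha : a = 0 ∨ ∃ r, a = π ^ r)
    (o : Nd a →+* ResidueField R) (ho : o.comp (ndι a) = residue R) (hx : ∀ i, o (ndx a i) = 0)
    (V : Type u) [CommRing V] [IsDomain V] [IsDiscreteValuationRing V] (θ : Nd a →+* V)
    (hθ : Irreducible (θ (ndι a π))) (hnz : ∀ t ∈ nonZeroDivisors (Nd a), θ t ≠ 0)
    (hloc : ∀ n, o n = 0 → ¬ IsUnit (θ n)) :
    ∃ (i : Fin 2) (m : ℕ), 1 ≤ m ∧ Toric π (ndι a) o (ndx a i) m ∧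
      ∃ w, IsUnit w ∧ θ (ndx a i) = θ (ndι a π) ^ m * w := by
  have hne : ∃ i, θ (ndx a i) ≠ 0 := by
    rcases ha with rfl | ⟨r, hr⟩
    · by_contra hcon
      push Not at hcon
      apply hnz _ nd_nzd_add
      rw [map_add, hcon 0, hcon 1, add_zero]
    · refine ⟨0, fun h0 => ?_⟩
      have h1 := congrArg θ (nd_rel a)
      have h2 : θ (ndι a a) = θ (ndι a π) ^ r := by
        have : ndι a a = ndι a (π ^ r) := congrArg (ndι a) hr
        rw [this, map_pow, map_pow]
      rw [map_mul, h0, zero_mul, h2] at h1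
      exact pow_ne_zero r hθ.ne_zero h1.symm
  obtain ⟨i, hi⟩ := hne
  obtain ⟨m, w, hw⟩ := IsDiscreteValuationRing.eq_unit_mul_pow_irreducible hi hθ
  have hm : 1 ≤ m := by
    by_contra hcon
    have : m = 0 := by omega
    subst this
    rw [pow_zero, mul_one] at hw
    exact hloc _ (hx i) (hw ▸ w.isUnit)
  refine ⟨i, m, hm, toric_node hπ a o ho i (hx i) (hx _) hm ?_, w, w.isUnit, by rw [hw, mul_comm]⟩
  rcases ha with h | ⟨r, hr⟩
  · exact Or.inl h
  · right
    refine ⟨r, ?_, hr⟩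
    by_contra hcon
    push Not at hcon
    have h1 := congrArg θ (nd_rel' a i)
    have h2' : θ (ndι a a) = θ (ndι a π) ^ r := by
      have : ndι a a = ndι a (π ^ r) := congrArg (ndι a) hr
      rw [this, map_pow, map_pow]
    rw [map_mul, hw, h2'] at h1
    have h2 : (θ (ndι a π)) ^ r * ((θ (ndι a π)) ^ (m - r) * w * θ (ndx a (1 - i)) - 1) = 0 := by
      have h3 : (θ (ndι a π)) ^ m = (θ (ndι a π)) ^ r * (θ (ndι a π)) ^ (m - r) := by
        rw [← pow_add]; congr 1; omega
      rw [h3] at h1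
      linear_combination h1
    have h3 : (θ (ndι a π)) ^ (m - r) * w * θ (ndx a (1 - i)) = 1 := by
      rcases mul_eq_zero.1 h2 with h | h
      · exact absurd h (pow_ne_zero r hθ.ne_zero)
      · exact sub_eq_zero.1 h
    exact hloc _ (hx (1 - i)) (IsUnit.of_mul_eq_one_right _ h3)

theorem exists_toric_line {π : R} (hπ : Irreducible π)
    (o : Polynomial R →+* ResidueField R) (ho : o.comp Polynomial.C = residue R)
    (hx : o Polynomial.X = 0)
    (V : Type u) [CommRing V] [IsDomain V] [IsDiscreteValuationRing V] (θ : Polynomial R →+* V)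
    (hθ : Irreducible (θ (Polynomial.C π))) (hnz : ∀ t ∈ nonZeroDivisors (Polynomial R), θ t ≠ 0)
    (hloc : ∀ n, o n = 0 → ¬ IsUnit (θ n)) :
    ∃ (m : ℕ), 1 ≤ m ∧ Toric π (Polynomial.C : R →+* Polynomial R) o Polynomial.X m ∧
      ∃ w, IsUnit w ∧ θ Polynomial.X = θ (Polynomial.C π) ^ m * w := by
  have hi : θ Polynomial.X ≠ 0 := hnz _ (mem_nonZeroDivisors_of_ne_zero Polynomial.X_ne_zero)
  obtain ⟨m, w, hw⟩ := IsDiscreteValuationRing.eq_unit_mul_pow_irreducible hi hθ
  have hm : 1 ≤ m := by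
    by_contra hcon
    have : m = 0 := by omega
    subst this
    rw [pow_zero, mul_one] at hw
    exact hloc _ hx (hw ▸ w.isUnit)
  exact ⟨m, hm, toric_line hπ o ho hx hm, w, w.isUnit, by rw [hw, mul_comm]⟩

end K851.Tor
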