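import Groth.Agent.SSMod.K851.DDef

/-!
# Flat test objects over `X` and the closure of the graph of the rational map to `Y`
-/

set_option autoImplicit false
set_option linter.unusedSectionVars false
set_option linter.dupNamespace false
universe u

open CategoryTheory CategoryTheory.Limits AlgebraicGeometry TopologicalSpace IsLocalRing

namespace K851.Tx

open K851.Fib K851.LemN K851.Et K851.Sep K851.Pt K851.Tor K851.Dat K851.NS K851.Line K851.Mark K851.Chart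
  K851.DDef K851.Ext

variable {R : Type u} [CommRing R] [IsDomain R] [IsDiscreteValuationRing R] (𝔇 : DD R)
variable {T : Scheme.{u}} (s : T ⟶ 𝔇.X)

/-- The generic fibre. -/
noncomputable abbrev TK : T.Opens := (s ≫ 𝔇.qX) ⁻¹ᵁ Dπ 𝔇.π

theorem exists_hK : ∃ h : (TK 𝔇 s : Scheme.{u}) ⟶ 𝔇.Y, h ≫ 𝔇.g = (TK 𝔇 s).ι ≫ s ≫ 𝔇.f := by
  refine lift_exists 𝔇.g (𝔇.c ⁻¹ᵁ Dπ 𝔇.π) ((TK 𝔇 s).ι ≫ s ≫ 𝔇.f) fun t => ?_
  have h1 : (TK 𝔇 s).ι t ∈ Set.range (TK 𝔇 s).ι := ⟨t, rfl⟩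
  rw [Scheme.Opens.range_ι] at h1
  exact h1

/-- The map from the generic fibre to `Y`. -/
noncomputable def hK : (TK 𝔇 s : Scheme.{u}) ⟶ 𝔇.Y := (exists_hK 𝔇 s).choose

theorem hK_g : (TK 𝔇 s).ι ≫ s ≫ 𝔇.f = hK 𝔇 s ≫ 𝔇.g := (exists_hK 𝔇 s).choose_spec.symm

/-- The closure of the graph. -/
noncomputable abbrev GT : Scheme.{u} := Gm (TK 𝔇 s).ι (s ≫ 𝔇.f) 𝔇.g (hK 𝔇 s) (hK_g 𝔇 s)

noncomputable abbrev pT : GT 𝔇 s ⟶ T := pX (TK 𝔇 s).ι (s ≫ 𝔇.f) 𝔇.g (hK 𝔇 s) (hK_g 𝔇 s)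
noncomputable abbrev pTY : GT 𝔇 s ⟶ 𝔇.Y := pY (TK 𝔇 s).ι (s ≫ 𝔇.f) 𝔇.g (hK 𝔇 s) (hK_g 𝔇 s)

/-- The locus where the rational map to `Y` is (going to be) defined. -/
noncomputable abbrev gd : T.Opens := good (pT 𝔇 s)

theorem quasiCompact_D (π : R) : QuasiCompact (Dπ π).ι := by
  have h1 : NoetherianSpace ↥(Spec (CommRingCat.of R)) :=
    inferInstanceAs (NoetherianSpace (PrimeSpectrum R))
  have h2 : NoetherianSpace ↥((Dπ π : Scheme.{u})) :=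
    (Dπ π).ι.isOpenEmbedding.isInducing.noetherianSpace
  exact quasiCompact_of_noetherianSpace_source _

theorem dominant_D {π : R} (hπ : Irreducible π) : IsSchemeTheoreticallyDominant (Dπ π).ι := by
  have h1 : IsDominant (Dπ π).ι := by
    rw [isDominant_iff, DenseRange, Scheme.Opens.range_ι]
    refine (Dπ π).2.dense ⟨(⊥ : PrimeSpectrum R), ?_⟩
    exact hπ.ne_zero
  exact IsSchemeTheoreticallyDominant.of_isDominant _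

instance quasiCompact_TK : QuasiCompact (TK 𝔇 s).ι := by
  have h1 := quasiCompact_D 𝔇.π
  exact MorphismProperty.of_isPullback (P := @QuasiCompact)
    (isPullback_morphismRestrict (s ≫ 𝔇.qX) (Dπ 𝔇.π)) h1

theorem TK_le_gd : TK 𝔇 s ≤ gd 𝔇 s := by
  have := opensRange_le_good (TK 𝔇 s).ι (s ≫ 𝔇.f) 𝔇.g (hK 𝔇 s) (hK_g 𝔇 s)
  rwa [Scheme.Opens.opensRange_ι] at this

theorem reg_GT (z : GT 𝔇 s) (a : (GT 𝔇 s).presheaf.stalk z)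
    (ha : st (pTY 𝔇 s ≫ 𝔇.qY) z 𝔇.π * a = 0) : a = 0 := by
  refine reg_of_dominant (pTY 𝔇 s ≫ 𝔇.qY) (sec (TK 𝔇 s).ι (s ≫ 𝔇.f) 𝔇.g (hK 𝔇 s) (hK_g 𝔇 s)) ?_ z a ha
  intro x
  have h1 : sec (TK 𝔇 s).ι (s ≫ 𝔇.f) 𝔇.g (hK 𝔇 s) (hK_g 𝔇 s) ≫ pTY 𝔇 s ≫ 𝔇.qY =
      (TK 𝔇 s).ι ≫ s ≫ 𝔇.qX := by
    rw [sec_pY_assoc, ← Category.assoc (hK 𝔇 s), ← hK_g, Category.assoc, Category.assoc]
  rw [← Scheme.Hom.comp_apply, h1]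
  have h2 : (TK 𝔇 s).ι x ∈ Set.range (TK 𝔇 s).ι := ⟨x, rfl⟩
  rw [Scheme.Opens.range_ι] at h2
  rw [Scheme.Hom.comp_apply]
  exact h2

/-- Bad points give local rings dominating a component of the special fibre of `Y`. -/
theorem exists_of_bad (t : T) [Mono (T.fromSpecResidueField t ≫ s ≫ 𝔇.qX)] (ht : t ∉ gd 𝔇 s) :
    ∃ (G : CommRingCat.{u}) (_ : IsLocalRing G) (a : Spec G ⟶ T) (b : Spec G ⟶ 𝔇.Y),
      a ≫ s ≫ 𝔇.f = b ≫ 𝔇.g ∧ (∀ x : G, ro (b ≫ 𝔇.g ≫ 𝔇.c) 𝔇.π * x = 0 → x = 0) ∧ a (cp G) = t ∧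
        ¬ IsClosed ({b (cp G)} : Set 𝔇.Y) := by
  have hm : Mono (T.fromSpecResidueField t ≫ s ≫ 𝔇.f) := by
    have : Mono ((T.fromSpecResidueField t ≫ s ≫ 𝔇.f) ≫ 𝔇.c) := by
      simpa only [Category.assoc] using ‹Mono (T.fromSpecResidueField t ≫ s ≫ 𝔇.qX)›
    exact mono_of_mono _ 𝔇.c
  obtain ⟨z, hz1, hz2⟩ := K851.Bad.exists_not_isClosed (TK 𝔇 s).ι (s ≫ 𝔇.f) 𝔇.g (hK 𝔇 s) (hK_g 𝔇 s) t ht
  refine ⟨(GT 𝔇 s).presheaf.stalk z, inferInstance, (GT 𝔇 s).fromSpecStalk z ≫ pT 𝔇 s,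
    (GT 𝔇 s).fromSpecStalk z ≫ pTY 𝔇 s, ?_, ?_, ?_, ?_⟩
  · rw [Category.assoc, Category.assoc, pX_pY]
  · intro x hx
    rw [Category.assoc, ro_stalk] at hx
    exact reg_GT 𝔇 s z x hx
  · rw [Scheme.Hom.comp_apply, fromSpecStalk_cp, hz1]
  · rw [Scheme.Hom.comp_apply, fromSpecStalk_cp]
    exact hz2

/-- The extension over the good locus. -/
theorem exists_extension [Flat (s ≫ 𝔇.qX)] (hred : ∀ y, IsReduced ((s ≫ 𝔇.qX).fiber y)) :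
    ∃ h : (gd 𝔇 s : Scheme.{u}) ⟶ 𝔇.Y, h ≫ 𝔇.g = (gd 𝔇 s).ι ≫ s ≫ 𝔇.f := by
  have hdom : IsSchemeTheoreticallyDominant (TK 𝔇 s).ι := by
    have h1 : IsSchemeTheoreticallyDominant (Dπ 𝔇.π).ι := dominant_D 𝔇.hπ
    have h2 := quasiCompact_D 𝔇.π
    exact IsSchemeTheoreticallyDominant.of_isPullback
      (isPullback_morphismRestrict (s ≫ 𝔇.qX) (Dπ 𝔇.π))
  obtain ⟨h, h1, -⟩ := exists_ext (TK 𝔇 s).ι (s ≫ 𝔇.f) 𝔇.g (hK 𝔇 s) (hK_g 𝔇 s)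
    (K851.Int.IC_of_flat (s ≫ 𝔇.qX) 𝔇.π 𝔇.hπ.ne_zero (TK 𝔇 s).ι (Scheme.Opens.opensRange_ι _) hred)
  exact ⟨h, h1⟩

end K851.Tx
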